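import Cfsg.Agent.Lib.NineTI.Subnormal
import Cfsg.Agent.Lib.NineTI.Isolated
import Cfsg.Agent.Lib.Transfer.Focal
import Cfsg.Agent.Lib.Char.StrongRealAverage

/-!
A Klein four automizer of a self-centralizing Sylow subgroup of order nine forces normality.
-/

set_option autoImplicit false

namespace CfsgLib.NineTI

open scoped commutatorElement

universe u

variable {G : Type u} [Group G] {M : Subgroup G}

/-- Coordinates for `N(M) = M⟨a, z⟩`. -/
structure Axes (M : Subgroup G) (a z x y : G) : Prop where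
  a_mem : a ∈ Subgroup.normalizer (M : Set G)
  z_mem : z ∈ Subgroup.normalizer (M : Set G)
  x_mem : x ∈ M
  y_mem : y ∈ M
  x_ne : x ≠ 1
  y_ne : y ≠ 1
  aa : a * a = 1
  zz : z * z = 1
  az : a * z = z * a
  ax : a * x = x * a
  ay : a * y = y⁻¹ * a
  zx : z * x = x⁻¹ * z
  zy : z * y = y⁻¹ * z
  gen : ∀ m ∈ M, ∃ i j : ℤ, m = x ^ i * y ^ j
  decomp : ∀ n ∈ Subgroup.normalizer (M : Set G), ∃ m ∈ M,
    n = m ∨ n = m * a ∨ n = m * z ∨ n = m * (a * z)

namespace Axes

variable {a z x y : G}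

theorem swap (A : Axes M a z x y) (h : Hyp M) : Axes M (a * z) z y x where
  a_mem := mul_mem A.a_mem A.z_mem
  z_mem := A.z_mem
  x_mem := A.y_mem
  y_mem := A.x_mem
  x_ne := A.y_ne
  y_ne := A.x_ne
  aa := by
    calc a * z * (a * z) = a * (z * a) * z := by group
      _ = a * (a * z) * z := by rw [A.az]
      _ = (a * a) * (z * z) := by group
      _ = 1 := by rw [A.aa, A.zz, one_mul]
  zz := A.zz
  az := by
    calc a * z * z = a * (z * z) := by group
      _ = a := by rw [A.zz, mul_one]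
      _ = (z * z) * a := by rw [A.zz, one_mul]
      _ = z * (z * a) := by group
      _ = z * (a * z) := by rw [A.az]
  ax := by
    have e : a * y⁻¹ = y * a := by
      calc a * y⁻¹ = y * (y⁻¹ * a) * y⁻¹ := by group
        _ = y * (a * y) * y⁻¹ := by rw [A.ay]
        _ = y * a := by group
    calc a * z * y = a * (z * y) := by group
      _ = a * y⁻¹ * z := by rw [A.zy]; group
      _ = y * (a * z) := by rw [e]; group
  ay := by
    have e : a * x⁻¹ = x⁻¹ * a := (Commute.inv_right (A.ax : Commute a x)).eq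
    calc a * z * x = a * (z * x) := by group
      _ = a * x⁻¹ * z := by rw [A.zx]; group
      _ = x⁻¹ * (a * z) := by rw [e]; group
  zx := A.zy
  zy := A.zx
  gen := fun m hm => by
    obtain ⟨i, j, e⟩ := A.gen m hm
    exact ⟨j, i, e.trans (h.comm _ (zpow_mem A.x_mem i) _ (zpow_mem A.y_mem j))⟩
  decomp := fun n hn => by
    have e : a * z * z = a := by rw [mul_assoc, A.zz, mul_one]
    obtain ⟨m, hm, hc⟩ := A.decomp n hn
    rw [e]
    exact ⟨m, hm, by tauto⟩

theorem cube_x (A : Axes M a z x y) (h : Hyp M) : x ^ 3 = 1 := h.cube x A.x_mem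

theorem eq_one_of_sq {M : Subgroup G} (h : Hyp M) {m : G} (hm : m ∈ M) (h2 : m * m = 1) :
    m = 1 := by
  have h3 := h.cube m hm
  rwa [pow_succ, pow_two, h2, one_mul] at h3

/-- `x` is not a power of `y`. -/
theorem x_not_mem (A : Axes M a z x y) (h : Hyp M) : x ∉ Subgroup.zpowers y := by
  rintro ⟨j, rfl⟩
  refine A.x_ne (eq_one_of_sq h (zpow_mem A.y_mem j) ?_)
  have e : a * y ^ j * a⁻¹ = (y ^ j)⁻¹ := by
    rw [← conj_zpow, show a * y * a⁻¹ = y⁻¹ by rw [A.ay, mul_inv_cancel_right], inv_zpow]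
  have e2 : a * y ^ j * a⁻¹ = y ^ j := by rw [show a * y ^ j = y ^ j * a from A.ax, mul_inv_cancel_right]
  rw [e2] at e
  exact mul_eq_one_iff_eq_inv.mpr e

theorem x_comp_unique (A : Axes M a z x y) (h : Hyp M) {i j : ℤ} (e : x ^ i * y ^ j = 1) :
    x ^ i = 1 := by
  by_contra hi
  have h1 : x ^ i ∈ Subgroup.zpowers y := by
    rw [mul_eq_one_iff_eq_inv.mp e]; exact inv_mem (zpow_mem (Subgroup.mem_zpowers y) j)
  have hx3 : (x ^ i) ^ i = x ^ (i * i) := by rw [← zpow_mul]
  apply A.x_not_mem h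
  have hm : i % 3 = 1 ∨ i % 3 = 2 := by
    have : i % 3 ≠ 0 := fun h0 => hi (by
      obtain ⟨k, rfl⟩ := Int.dvd_of_emod_eq_zero h0
      rw [zpow_mul, show x ^ (3 : ℤ) = 1 by exact_mod_cast A.cube_x h, one_zpow])
    omega
  have hsq : x ^ (i * i) = x := by
    have h3 : (i * i) % 3 = 1 := by
      rcases hm with e | e <;> rw [Int.mul_emod, e] <;> norm_num
    obtain ⟨k, hk⟩ : ∃ k, i * i = 3 * k + 1 := ⟨(i * i) / 3, by omega⟩
    rw [hk, zpow_add, zpow_mul, show x ^ (3 : ℤ) = 1 by exact_mod_cast A.cube_x h, one_zpow,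
      one_mul, zpow_one]
  rw [← hsq, ← hx3]
  exact zpow_mem h1 i

theorem conj_a (A : Axes M a z x y) {i j : ℤ} : a * (x ^ i * y ^ j) * a⁻¹ = x ^ i * y ^ (-j) := by
  rw [show a * (x ^ i * y ^ j) * a⁻¹ = (a * x ^ i * a⁻¹) * (a * y ^ j * a⁻¹) by group, ← conj_zpow,
    ← conj_zpow, A.ax, A.ay, mul_inv_cancel_right, mul_inv_cancel_right, inv_zpow, zpow_neg]

theorem conj_z (A : Axes M a z x y) {i j : ℤ} : z * (x ^ i * y ^ j) * z⁻¹ = x ^ (-i) * y ^ (-j) := by
  rw [show z * (x ^ i * y ^ j) * z⁻¹ = (z * x ^ i * z⁻¹) * (z * y ^ j * z⁻¹) by group, ← conj_zpow,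
    ← conj_zpow, A.zx, A.zy, mul_inv_cancel_right, mul_inv_cancel_right, inv_zpow, inv_zpow,
    zpow_neg, zpow_neg]

/-- The involution in a coset `M t` is conjugate to `t`. -/
theorem isConj_coset (h : Hyp M) {m t : G} (hm : m ∈ M) (ht : t * t = 1)
    (hmt : m * t * (m * t) = 1) : IsConj t (m * t) := by
  refine isConj_iff.mpr ⟨m * m, ?_⟩
  have e : t * m * t = m⁻¹ := by
    calc t * m * t = m⁻¹ * (m * t * (m * t)) := by group
      _ = m⁻¹ := by rw [hmt, mul_one]
  have e1 : m⁻¹ * t = t * m := by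
    calc m⁻¹ * t = t * m * t * t := by rw [e]
      _ = t * m * (t * t) := by group
      _ = t * m := by rw [ht, mul_one]
  have e2 : t * m⁻¹ = m * t := by
    calc t * m⁻¹ = m * (m⁻¹ * t) * m⁻¹ := by group
      _ = m * (t * m) * m⁻¹ := by rw [e1]
      _ = m * t := by group
  calc m * m * t * (m * m)⁻¹ = m * m * (t * m⁻¹) * m⁻¹ := by group
    _ = m * m * (m * t) * m⁻¹ := by rw [e2]
    _ = m * m * m * (t * m⁻¹) := by group
    _ = m * m * m * (m * t) := by rw [e2]
    _ = m ^ 3 * (m * t) := by rw [pow_succ m 2, pow_two]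
    _ = m * t := by rw [h.cube m hm, one_mul]

theorem sq_mem (A : Axes M a z x y) {n : G} (hn : n ∈ Subgroup.normalizer (M : Set G)) :
    n * n ∈ M := by
  have key : ∀ m t : G, m ∈ M → t * t = 1 → t ∈ Subgroup.normalizer (M : Set G) →
      m * t * (m * t) ∈ M := by
    intro m t hm htt htN
    have ht : t⁻¹ = t := inv_eq_of_mul_eq_one_left htt
    have := (Subgroup.mem_normalizer_iff.mp htN m).mp hm
    rw [ht] at this
    rw [show m * t * (m * t) = m * (t * m * t) by group]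
    exact mul_mem hm this
  obtain ⟨m, hm, rfl | rfl | rfl | rfl⟩ := A.decomp n hn
  · exact mul_mem hm hm
  · exact key m a hm A.aa A.a_mem
  · exact key m z hm A.zz A.z_mem
  · refine key m _ hm ?_ (mul_mem A.a_mem A.z_mem)
    calc a * z * (a * z) = a * (z * a) * z := by group
      _ = (a * a) * (z * z) := by rw [← A.az]; group
      _ = 1 := by rw [A.aa, A.zz, one_mul]

end Axes

theorem fix_or_invert (h : Hyp M) {t : G} (ht : t ∈ Subgroup.normalizer (M : Set G))
    (htt : t * t = 1) (hnf : ∀ m ∈ M, t * m = m * t → m = 1) :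
    ∀ m ∈ M, t * m = m⁻¹ * t := by
  intro m hm
  have ht' : t⁻¹ = t := inv_eq_of_mul_eq_one_left htt
  have hc := (Subgroup.mem_normalizer_iff.mp ht m).mp hm
  rw [ht'] at hc
  have h1 := hnf (m * (t * m * t)) (mul_mem hm hc) (by
    calc t * (m * (t * m * t)) = (t * m * t) * m * t := by group
      _ = m * (t * m * t) * t := by rw [h.comm _ hc m hm])
  have h2 : t * m * t = m⁻¹ := eq_inv_of_mul_eq_one_right h1
  calc t * m = t * m * (t * t) := by rw [htt, mul_one]
    _ = t * m * t * t := by group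
    _ = m⁻¹ * t := by rw [h2]

variable [Finite G]

theorem exists_axes (h : Hyp M) (P : Subgroup G) (hP : P ≤ Subgroup.normalizer (M : Set G))
    (hPc : Nat.card P = 4) (hPsq : ∀ p ∈ P, p * p = 1)
    (hdec : ∀ n ∈ Subgroup.normalizer (M : Set G), ∃ m ∈ M, ∃ p ∈ P, n = m * p) :
    ∃ a z x y : G, Axes M a z x y := by
  classical
  have hinvP : ∀ p ∈ P, p⁻¹ = p := fun p hp => inv_eq_of_mul_eq_one_left (hPsq p hp)
  have hcommP : ∀ p ∈ P, ∀ q ∈ P, p * q = q * p := fun p hp q hq => by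
    calc p * q = (p * q)⁻¹ := (hinvP _ (mul_mem hp hq)).symm
      _ = q * p := by rw [mul_inv_rev, hinvP p hp, hinvP q hq]
  have hnc : ∀ p ∈ P, (∀ m ∈ M, p * m = m * p) → p = 1 := by
    intro p hp hc
    have : p ∈ M := by
      rw [← h.self]
      exact Subgroup.mem_centralizer_iff.mpr fun m hm => (hc m hm).symm
    exact Axes.eq_one_of_sq h this (hPsq p hp)
  haveI : Fintype P := Fintype.ofFinite P
  have hP4 : Fintype.card P = 4 := by rw [← Nat.card_eq_fintype_card, hPc]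
  obtain ⟨a, haP, ha1, x, hx, hx1, hax⟩ : ∃ a ∈ P, a ≠ 1 ∧ ∃ x ∈ M, x ≠ 1 ∧ a * x = x * a := by
    by_contra hne
    push Not at hne
    have hinv : ∀ p ∈ P, p ≠ 1 → ∀ m ∈ M, p * m = m⁻¹ * p := fun p hp hp1 =>
      fix_or_invert h (hP hp) (hPsq p hp) fun m hm e => by
        by_contra hm1; exact hne p hp hp1 m hm hm1 e
    obtain ⟨p, hp⟩ : ∃ p : P, p ≠ 1 := Fintype.exists_ne_of_one_lt_card (by omega) 1
    obtain ⟨q, -, hq⟩ : ∃ q ∈ (Finset.univ : Finset P), q ∉ ({1, p} : Finset P) :=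
      Finset.exists_mem_notMem_of_card_lt_card (lt_of_le_of_lt Finset.card_le_two (by simp [hP4]))
    rw [Finset.mem_insert, Finset.mem_singleton, not_or] at hq
    have hp' : (p : G) ≠ 1 := fun e => hp (Subtype.ext e)
    have hq' : (q : G) ≠ 1 := fun e => hq.1 (Subtype.ext e)
    have hpq : (p : G) * q = 1 := hnc _ (mul_mem p.2 q.2) fun m hm => by
      calc (p : G) * q * m = p * (q * m) := by group
        _ = (p * m⁻¹) * q := by rw [hinv q q.2 hq' m hm]; group
        _ = m * ((p : G) * q) := by rw [hinv p p.2 hp' m⁻¹ (inv_mem hm), inv_inv, mul_assoc]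
    exact hq.2 (Subtype.ext ((eq_inv_of_mul_eq_one_right hpq).trans (hinvP p p.2)))
  have hainv := hinvP a haP
  obtain ⟨m₀, hm₀, hm₀'⟩ : ∃ m ∈ M, a * m ≠ m * a := by
    by_contra hne; push Not at hne; exact ha1 (hnc a haP hne)
  have hc₀ := (Subgroup.mem_normalizer_iff.mp (hP haP) m₀).mp hm₀
  let y := m₀ * (a * m₀ * a⁻¹)⁻¹
  have hy : y ∈ M := mul_mem hm₀ (inv_mem hc₀)
  have hy1 : y ≠ 1 := fun e => hm₀' (by
    have := mul_inv_eq_one.mp e
    calc a * m₀ = a * m₀ * a⁻¹ * a := by group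
      _ = m₀ * a := by rw [← this])
  have hay : a * y = y⁻¹ * a := by
    have e : a * y * a⁻¹ = y⁻¹ := by
      show a * (m₀ * (a * m₀ * a⁻¹)⁻¹) * a⁻¹ = (m₀ * (a * m₀ * a⁻¹)⁻¹)⁻¹
      rw [mul_inv_rev m₀, inv_inv]
      calc a * (m₀ * (a * m₀ * a⁻¹)⁻¹) * a⁻¹ = a * m₀ * (a * m₀⁻¹ * (a⁻¹ * a⁻¹)) := by group
        _ = a * m₀ * a * m₀⁻¹ := by rw [hainv, hPsq a haP, mul_one]; group
        _ = _ := by rw [hainv]
    calc a * y = a * y * a⁻¹ * a := by group
      _ = y⁻¹ * a := by rw [e]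
  have hxy : x ∉ Subgroup.zpowers y := by
    rintro ⟨j, rfl⟩
    refine hx1 (Axes.eq_one_of_sq h hx ?_)
    have e : a * y ^ j * a⁻¹ = (y ^ j)⁻¹ := by
      rw [← conj_zpow, show a * y * a⁻¹ = y⁻¹ by rw [hay, mul_inv_cancel_right], inv_zpow]
    have e2 : a * y ^ j * a⁻¹ = y ^ j := by rw [show a * y ^ j = y ^ j * a from hax, mul_inv_cancel_right]
    rw [e2] at e
    exact mul_eq_one_iff_eq_inv.mpr e
  haveI : Fact (Nat.Prime 3) := ⟨Nat.prime_three⟩
  have hgen : ∀ m ∈ M, ∃ i j : ℤ, m = x ^ i * y ^ j := by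
    let f : ℤ × ℤ → G := fun q => x ^ q.1 * y ^ q.2
    let R : Subgroup G :=
      { carrier := Set.range f
        one_mem' := ⟨(0, 0), by simp [f]⟩
        mul_mem' := by
          rintro _ _ ⟨⟨i, j⟩, rfl⟩ ⟨⟨k, l⟩, rfl⟩
          refine ⟨(i + k, j + l), ?_⟩
          simp only [f, zpow_add]
          calc x ^ i * x ^ k * (y ^ j * y ^ l) = x ^ i * (x ^ k * y ^ j) * y ^ l := by group
            _ = x ^ i * (y ^ j * x ^ k) * y ^ l := by rw [h.comm _ (zpow_mem hx k) _ (zpow_mem hy j)]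
            _ = _ := by group
        inv_mem' := by
          rintro _ ⟨⟨i, j⟩, rfl⟩
          refine ⟨(-i, -j), ?_⟩
          simp only [f, zpow_neg, mul_inv_rev]
          exact h.comm _ (inv_mem (zpow_mem hx i)) _ (inv_mem (zpow_mem hy j)) }
    have hRM : R ≤ M := by
      rintro _ ⟨⟨i, j⟩, rfl⟩; exact mul_mem (zpow_mem hx i) (zpow_mem hy j)
    have hyR : Subgroup.zpowers y < R := lt_of_le_of_ne
      (Subgroup.zpowers_le.mpr ⟨(0, 1), by simp [f]⟩)
      (fun e => hxy (e ▸ (⟨(1, 0), by simp [f]⟩ : x ∈ R)))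
    have h3 : Nat.card (Subgroup.zpowers y) = 3 := by
      rw [Nat.card_zpowers]; exact orderOf_eq_prime (p := 3) (h.cube y hy) hy1
    have hlt : 3 < Nat.card R := by
      rw [← h3]
      refine lt_of_le_of_ne (Nat.le_of_dvd Nat.card_pos (Subgroup.card_dvd_of_le hyR.le)) fun e => ?_
      exact hyR.ne (Subgroup.eq_of_le_of_card_ge hyR.le e.ge)
    have hd : Nat.card R ∣ 9 := h.card ▸ Subgroup.card_dvd_of_le hRM
    have h9 : Nat.card R = 9 := by
      have := Nat.le_of_dvd (by norm_num) hd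
      generalize Nat.card R = r at *
      interval_cases r <;> omega
    have e : R = M := Subgroup.eq_of_le_of_card_ge hRM (by rw [h9, h.card])
    intro m hm
    rw [← e] at hm
    obtain ⟨⟨i, j⟩, hij⟩ := hm
    exact ⟨i, j, hij.symm⟩
  obtain ⟨q, -, hq⟩ : ∃ q ∈ (Finset.univ : Finset P), q ∉ ({1, ⟨a, haP⟩} : Finset P) :=
    Finset.exists_mem_notMem_of_card_lt_card (lt_of_le_of_lt Finset.card_le_two (by simp [hP4]))
  rw [Finset.mem_insert, Finset.mem_singleton, not_or] at hq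
  have hq1 : (q : G) ≠ 1 := fun e => hq.1 (Subtype.ext e)
  have hqa : (q : G) ≠ a := fun e => hq.2 (Subtype.ext e)
  have hqinv := hinvP q q.2
  have hcube : ∀ w ∈ M, ∀ k : ℤ, w ^ k = 1 ∨ w ^ k = w ∨ w ^ k = w⁻¹ := by
    intro w hw k
    have h3 : w ^ (3 : ℤ) = 1 := by exact_mod_cast h.cube w hw
    obtain ⟨r, hr⟩ : ∃ r, k = 3 * r ∨ k = 3 * r + 1 ∨ k = 3 * r + (-1) :=
      ⟨(k + 1) / 3, by omega⟩
    rcases hr with e | e | e <;> subst e
    · left; rw [zpow_mul, h3, one_zpow]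
    · right; left; rw [zpow_add, zpow_mul, h3, one_zpow, one_mul, zpow_one]
    · right; right; rw [zpow_add, zpow_mul, h3, one_zpow, one_mul, zpow_neg_one]
  have hqx : (q : G) * x = x * q ∨ (q : G) * x = x⁻¹ * q := by
    obtain ⟨i, j, e⟩ := hgen _ ((Subgroup.mem_normalizer_iff.mp (hP q.2) x).mp hx)
    have hfix : a * (x ^ i * y ^ j) = (x ^ i * y ^ j) * a := by
      rw [← e]
      calc a * ((q : G) * x * (q : G)⁻¹) = (a * q) * x * (q : G)⁻¹ := by group
        _ = q * (a * x) * (q : G)⁻¹ := by rw [hcommP a haP q q.2]; group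
        _ = q * x * (a * (q : G)⁻¹) := by rw [hax]; group
        _ = q * x * ((q : G)⁻¹ * a) := by rw [hcommP a haP _ (inv_mem q.2)]
        _ = _ := by group
    have hyj : y ^ j = 1 := by
      refine Axes.eq_one_of_sq h (zpow_mem hy j) ?_
      have e1 : a * (x ^ i * y ^ j) * a⁻¹ = x ^ i * (y ^ j)⁻¹ := by
        rw [show a * (x ^ i * y ^ j) * a⁻¹ = (a * x ^ i * a⁻¹) * (a * y ^ j * a⁻¹) by group,
          ← conj_zpow, ← conj_zpow, hax, hay, mul_inv_cancel_right, mul_inv_cancel_right, inv_zpow]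
      rw [hfix, mul_inv_cancel_right] at e1
      exact mul_eq_one_iff_eq_inv.mpr (mul_left_cancel e1)
    rw [hyj, mul_one] at e
    rcases hcube x hx i with e1 | e1 | e1 <;> rw [e1] at e
    · exact absurd (conj_eq_one_iff.mp e) hx1
    · exact Or.inl (mul_inv_eq_iff_eq_mul.mp e)
    · exact Or.inr (mul_inv_eq_iff_eq_mul.mp e)
  have hqy : (q : G) * y = y * q ∨ (q : G) * y = y⁻¹ * q := by
    obtain ⟨i, j, e⟩ := hgen _ ((Subgroup.mem_normalizer_iff.mp (hP q.2) y).mp hy)
    have hxi : x ^ i = 1 := by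
      refine Axes.eq_one_of_sq h (zpow_mem hx i) ?_
      have e1 : a * (x ^ i * y ^ j) * a⁻¹ = x ^ i * (y ^ j)⁻¹ := by
        rw [show a * (x ^ i * y ^ j) * a⁻¹ = (a * x ^ i * a⁻¹) * (a * y ^ j * a⁻¹) by group,
          ← conj_zpow, ← conj_zpow, hax, hay, mul_inv_cancel_right, mul_inv_cancel_right, inv_zpow]
      have e2 : a * (x ^ i * y ^ j) * a⁻¹ = (x ^ i * y ^ j)⁻¹ := by
        rw [← e]
        calc a * ((q : G) * y * (q : G)⁻¹) * a⁻¹ = (a * q) * y * (a * q)⁻¹ := by group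
          _ = q * (a * y) * a⁻¹ * (q : G)⁻¹ := by rw [hcommP a haP q q.2]; group
          _ = _ := by rw [hay]; group
      rw [e2, mul_inv_rev, h.comm _ (inv_mem (zpow_mem hy j)) _ (inv_mem (zpow_mem hx i))] at e1
      exact mul_eq_one_iff_eq_inv.mpr (mul_right_cancel e1).symm
    rw [hxi, one_mul] at e
    rcases hcube y hy j with e1 | e1 | e1 <;> rw [e1] at e
    · exact absurd (conj_eq_one_iff.mp e) hy1
    · exact Or.inl (mul_inv_eq_iff_eq_mul.mp e)
    · exact Or.inr (mul_inv_eq_iff_eq_mul.mp e)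
  have hall : ∀ t ∈ P, t ≠ 1 → t * x = x * t → t * y = y * t → False := by
    intro t ht ht1 h1 h2
    refine ht1 (hnc t ht fun m hm => ?_)
    obtain ⟨i, j, rfl⟩ := hgen m hm
    exact ((Commute.zpow_right (h1 : Commute t x) i).mul_right
      (Commute.zpow_right (h2 : Commute t y) j)).eq
  have haq1 : a * q ≠ 1 := fun e => hqa ((eq_inv_of_mul_eq_one_right e).trans hainv)
  have hay' : a * y⁻¹ = y * a := by
    calc a * y⁻¹ = y * (y⁻¹ * a) * y⁻¹ := by group
      _ = y * (a * y) * y⁻¹ := by rw [hay]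
      _ = y * a := by group
  obtain ⟨z, hzP, hz1, hza, hzx, hzy⟩ : ∃ z ∈ P, z ≠ 1 ∧ z ≠ a ∧
      z * x = x⁻¹ * z ∧ z * y = y⁻¹ * z := by
    rcases hqx with e1 | e1 <;> rcases hqy with e2 | e2
    · exact (hall q q.2 hq1 e1 e2).elim
    · refine (hall (a * q) (mul_mem haP q.2) haq1 ?_ ?_).elim
      · calc a * q * x = a * (q * x) := by group
          _ = (a * x) * q := by rw [e1]; group
          _ = x * (a * q) := by rw [hax]; group
      · calc a * q * y = a * (q * y) := by group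
          _ = (a * y⁻¹) * q := by rw [e2]; group
          _ = y * (a * q) := by rw [hay']; group
    · refine ⟨a * q, mul_mem haP q.2, haq1, fun e => hq1 (mul_eq_left.mp e), ?_, ?_⟩
      · calc a * q * x = a * (q * x) := by group
          _ = (a * x⁻¹) * q := by rw [e1]; group
          _ = x⁻¹ * (a * q) := by rw [(Commute.inv_right (hax : Commute a x)).eq]; group
      · calc a * q * y = a * (q * y) := by group
          _ = (a * y) * q := by rw [e2]; group
          _ = y⁻¹ * (a * q) := by rw [hay]; group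
    · exact ⟨q, q.2, hq1, hqa, e1, e2⟩
  refine ⟨a, z, x, y, ⟨hP haP, hP hzP, hx, hy, hx1, hy1, hPsq a haP, hPsq z hzP,
    hcommP a haP z hzP, hax, hay, hzx, hzy, hgen, fun n hn => ?_⟩⟩
  obtain ⟨m, hm, p, hp, rfl⟩ := hdec n hn
  refine ⟨m, hm, ?_⟩
  let s : Finset P := {1, ⟨a, haP⟩, ⟨z, hzP⟩, ⟨a * z, mul_mem haP hzP⟩}
  have hs : s = Finset.univ := by
    refine Finset.eq_univ_of_card _ ?_
    have hazne : a * z ≠ 1 := fun e => hza ((eq_inv_of_mul_eq_one_right e).trans hainv)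
    rw [hP4]
    repeat rw [Finset.card_insert_of_notMem]
    · rfl
    all_goals simp [Subtype.ext_iff, ha1, hz1, Ne.symm hz1, Ne.symm ha1, hza, Ne.symm hza, hazne,
      Ne.symm hazne]
  have := hs ▸ Finset.mem_univ (⟨p, hp⟩ : P)
  simp only [s, Finset.mem_insert, Finset.mem_singleton, Subtype.ext_iff, Subgroup.coe_one] at this
  rcases this with rfl | rfl | rfl | rfl <;> simp

namespace Axes

variable {a z x y : G}

theorem not_conj (A : Axes M a z x y) (h : Hyp M) : ¬ IsConj a (a * z) := by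
  haveI : Fact (Nat.Prime 3) := ⟨Nat.prime_three⟩
  intro hc
  obtain ⟨g, hg⟩ := isConj_iff.mp hc
  have hb : (a * z) * y = y * (a * z) := (A.swap h).ax
  -- a Sylow 3-subgroup of `C(a*z)` is generated by `y`
  let C := Subgroup.centralizer ({a * z} : Set G)
  have hyC : y ∈ C := Subgroup.mem_centralizer_singleton_iff.mpr hb.symm
  let yC : C := ⟨y, hyC⟩
  have hy3 : orderOf y = 3 := orderOf_eq_prime (p := 3) (h.cube y A.y_mem) A.y_ne
  have hYp : IsPGroup 3 (Subgroup.zpowers yC) :=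
    IsPGroup.of_card (n := 1) (by rw [Nat.card_zpowers, ← Subgroup.orderOf_coe, hy3, pow_one])
  obtain ⟨S, hS⟩ := hYp.exists_le_sylow
  have hSeq : (S : Subgroup C) = Subgroup.zpowers yC := by
    refine le_antisymm (fun s hs => ?_) hS
    by_contra hns
    -- `S` normalizer condition gives an element normalizing `⟨y⟩`
    have hlt : Subgroup.zpowers yC < (S : Subgroup C) :=
      lt_of_le_of_ne hS fun e => hns (e ▸ hs)
    haveI : Fintype (S : Subgroup C) := Fintype.ofFinite _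
    haveI := S.2.isNilpotent
    have hn := Group.normalizerCondition_of_isNilpotent ((Subgroup.zpowers yC).subgroupOf (S : Subgroup C))
      (lt_top_iff_ne_top.mpr fun e => hlt.not_ge (Subgroup.subgroupOf_eq_top.mp e))
    obtain ⟨⟨r, hrS⟩, hr, hrn⟩ := SetLike.exists_of_lt hn
    rw [Subgroup.mem_subgroupOf] at hrn
    have hry : r * yC * r⁻¹ ∈ Subgroup.zpowers yC :=
      Subgroup.mem_subgroupOf.mp ((Subgroup.mem_normalizer_iff.mp hr ⟨yC, hS (Subgroup.mem_zpowers _)⟩).mp
        (Subgroup.mem_subgroupOf.mpr (Subgroup.mem_zpowers _)))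
    obtain ⟨i, hi⟩ := hry
    have hi' : y ^ i = (r : G) * y * (r : G)⁻¹ := by
      have := congrArg Subtype.val hi
      simpa using this
    have hrN : (r : G) ∈ Subgroup.normalizer (M : Set G) :=
      h.conj_eq A.y_mem A.y_ne (hi' ▸ zpow_mem A.y_mem i)
    have hrM : (r : G) ∈ M := by
      have hp : IsPGroup 3 (Subgroup.zpowers (r : G)) := by
        intro ⟨u, hu⟩
        obtain ⟨k, rfl⟩ := hu
        obtain ⟨n, hn⟩ := S.2 ⟨r, hrS⟩
        refine ⟨n, Subtype.ext ?_⟩
        have h0 : (r : G) ^ (3 ^ n : ℕ) = 1 := by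
          have := congrArg (fun u : (S : Subgroup C) => ((u : C) : G)) hn
          simpa using this
        show ((r : G) ^ k) ^ (3 ^ n : ℕ) = 1
        rw [← zpow_natCast, ← zpow_mul, mul_comm, zpow_mul, zpow_natCast, h0, one_zpow]
      exact h.le_of_pgroup hp (Subgroup.zpowers_le.mpr hrN) (Subgroup.mem_zpowers _)
    obtain ⟨i, j, e⟩ := A.gen _ hrM
    have hcr := Subgroup.mem_centralizer_singleton_iff.mp r.2
    rw [e] at hcr
    have h1 : (a * z) * (x ^ i * y ^ j) * (a * z)⁻¹ = x ^ (-i) * y ^ j := by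
      rw [show (a * z) * (x ^ i * y ^ j) * (a * z)⁻¹ = a * (z * (x ^ i * y ^ j) * z⁻¹) * a⁻¹ by group,
        A.conj_z, A.conj_a, neg_neg]
    rw [← hcr, mul_inv_cancel_right] at h1
    have hxi : x ^ i = 1 := eq_one_of_sq h (zpow_mem A.x_mem i)
      (mul_eq_one_iff_eq_inv.mpr (by rw [← zpow_neg]; exact mul_right_cancel h1))
    rw [hxi, one_mul] at e
    exact hrn ⟨j, Subtype.ext (by simpa using e.symm)⟩
  have hgx : g * x * g⁻¹ ∈ C := Subgroup.mem_centralizer_singleton_iff.mpr (by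
    rw [← hg]
    calc g * x * g⁻¹ * (g * a * g⁻¹) = g * (x * a) * g⁻¹ := by group
      _ = g * (a * x) * g⁻¹ := by rw [A.ax]
      _ = _ := by group)
  have hXp : IsPGroup 3 (Subgroup.zpowers (⟨_, hgx⟩ : C)) := IsPGroup.of_card (n := 1) (by
    rw [Nat.card_zpowers, ← Subgroup.orderOf_coe, pow_one]
    show orderOf (MulAut.conj g x) = 3
    rw [MulEquiv.orderOf_eq]
    exact orderOf_eq_prime (p := 3) (h.cube x A.x_mem) A.x_ne)
  obtain ⟨S', hS'⟩ := hXp.exists_le_sylow
  obtain ⟨c, hc'⟩ := MulAction.exists_smul_eq C S' S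
  have hmem : c * ⟨_, hgx⟩ * c⁻¹ ∈ (S : Subgroup C) := by
    rw [← hc']
    exact ⟨⟨_, hgx⟩, hS' (Subgroup.mem_zpowers _), rfl⟩
  rw [hSeq] at hmem
  obtain ⟨i, hi⟩ := hmem
  have hi' : y ^ i = ((c : G) * g) * x * ((c : G) * g)⁻¹ := by
    have := congrArg Subtype.val hi
    simp only [SubgroupClass.coe_zpow, Subgroup.coe_mul, InvMemClass.coe_inv] at this
    rw [show ((c : G) * g) * x * ((c : G) * g)⁻¹ = (c : G) * (g * x * g⁻¹) * (c : G)⁻¹ by group]
    exact this
  have hN := h.conj_eq A.x_mem A.x_ne (hi' ▸ zpow_mem A.y_mem i)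
  obtain ⟨m, hm, hcase⟩ := A.decomp _ hN
  apply A.x_not_mem h
  have key : ∀ w : G, (c : G) * g = m * w →
      (w * x * w⁻¹ = x ∨ w * x * w⁻¹ = x⁻¹) → x ∈ Subgroup.zpowers y := by
    intro w e hw
    rw [e, show m * w * x * (m * w)⁻¹ = m * (w * x * w⁻¹) * m⁻¹ by group] at hi'
    rcases hw with hw | hw <;> rw [hw] at hi'
    · rw [h.comm m hm x A.x_mem, mul_inv_cancel_right] at hi'
      exact ⟨i, hi'⟩
    · rw [h.comm m hm _ (inv_mem A.x_mem), mul_inv_cancel_right] at hi'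
      exact ⟨-i, by simp [zpow_neg, hi']⟩
  rcases hcase with e | e | e | e
  · exact key 1 (by rw [e, mul_one]) (Or.inl (by group))
  · exact key a e (Or.inl (by rw [A.ax, mul_inv_cancel_right]))
  · exact key z e (Or.inr (by rw [A.zx, mul_inv_cancel_right]))
  · exact key (a * z) e (Or.inr (by rw [(A.swap h).ay, mul_inv_cancel_right]))

/-- The subgroup `⟨y, a, z⟩`. -/
def H (A : Axes M a z x y) : Subgroup G where
  carrier := {g | ∃ j : ℤ, g = y ^ j ∨ g = y ^ j * a ∨ g = y ^ j * z ∨ g = y ^ j * (a * z)}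
  one_mem' := ⟨0, Or.inl (zpow_zero y).symm⟩
  mul_mem' := by
    have h1 : ∀ k : ℤ, a * y ^ k = y ^ (-k) * a := fun k => by
      have : a * y ^ k * a⁻¹ = y ^ (-k) := by
        rw [← conj_zpow, A.ay, mul_inv_cancel_right, inv_zpow, zpow_neg]
      rw [← this, inv_mul_cancel_right]
    have h2 : ∀ k : ℤ, z * y ^ k = y ^ (-k) * z := fun k => by
      have : z * y ^ k * z⁻¹ = y ^ (-k) := by
        rw [← conj_zpow, A.zy, mul_inv_cancel_right, inv_zpow, zpow_neg]
      rw [← this, inv_mul_cancel_right]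
    have h3 : ∀ k : ℤ, (a * z) * y ^ k = y ^ k * (a * z) := fun k => by
      rw [mul_assoc, h2, ← mul_assoc, h1, neg_neg, mul_assoc]
    have a1 : a * (a * z) = z := by rw [← mul_assoc, A.aa, one_mul]
    have a2 : z * a = a * z := A.az.symm
    have a3 : z * (a * z) = a := by rw [← mul_assoc, a2, mul_assoc, A.zz, mul_one]
    have a4 : a * z * a = z := by rw [mul_assoc, a2, a1]
    have a5 : a * z * z = a := by rw [mul_assoc, A.zz, mul_one]
    have a6 : a * z * (a * z) = 1 := by rw [← mul_assoc, a4, A.zz]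
    rintro g g' ⟨j, hg⟩ ⟨k, hg'⟩
    have cases4 : ∀ t s : G, (t = 1 ∨ t = a ∨ t = z ∨ t = a * z) →
        (s = 1 ∨ s = a ∨ s = z ∨ s = a * z) → ∃ l : ℤ,
        y ^ j * t * (y ^ k * s) = y ^ l ∨ y ^ j * t * (y ^ k * s) = y ^ l * a ∨
        y ^ j * t * (y ^ k * s) = y ^ l * z ∨ y ^ j * t * (y ^ k * s) = y ^ l * (a * z) := by
      intro t s ht hs
      obtain ⟨e, ht'⟩ : ∃ e : ℤ, t * y ^ k = y ^ e * t := by
        rcases ht with rfl | rfl | rfl | rfl
        · exact ⟨k, by simp⟩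
        · exact ⟨-k, h1 k⟩
        · exact ⟨-k, h2 k⟩
        · exact ⟨k, h3 k⟩
      refine ⟨j + e, ?_⟩
      rw [show y ^ j * t * (y ^ k * s) = y ^ j * (t * y ^ k) * s by group, ht',
        show y ^ j * (y ^ e * t) * s = y ^ (j + e) * (t * s) by rw [zpow_add]; group]
      rcases ht with rfl | rfl | rfl | rfl <;> rcases hs with rfl | rfl | rfl | rfl <;>
        simp [A.aa, A.zz, a1, a2, a3, a4, a5, a6]
    obtain ⟨t, ht, rfl⟩ : ∃ t, (t = 1 ∨ t = a ∨ t = z ∨ t = a * z) ∧ g = y ^ j * t := by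
      rcases hg with e | e | e | e <;> [exact ⟨1, by tauto, by simp [e]⟩; exact ⟨a, by tauto, e⟩;
        exact ⟨z, by tauto, e⟩; exact ⟨a * z, by tauto, e⟩]
    obtain ⟨s, hs, rfl⟩ : ∃ s, (s = 1 ∨ s = a ∨ s = z ∨ s = a * z) ∧ g' = y ^ k * s := by
      rcases hg' with e | e | e | e <;> [exact ⟨1, by tauto, by simp [e]⟩; exact ⟨a, by tauto, e⟩;
        exact ⟨z, by tauto, e⟩; exact ⟨a * z, by tauto, e⟩]
    exact cases4 t s ht hs
  inv_mem' := by
    rintro g ⟨j, rfl | rfl | rfl | rfl⟩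
    · exact ⟨-j, Or.inl (zpow_neg y j).symm⟩
    · refine ⟨j, Or.inr (Or.inl ?_)⟩
      have : a * y ^ j * a⁻¹ = (y ^ j)⁻¹ := by
        rw [← conj_zpow, A.ay, mul_inv_cancel_right, inv_zpow]
      calc (y ^ j * a)⁻¹ = a⁻¹ * (y ^ j)⁻¹ := by group
        _ = a⁻¹ * (a * y ^ j * a⁻¹) := by rw [this]
        _ = y ^ j * a⁻¹ := by group
        _ = _ := by rw [inv_eq_of_mul_eq_one_left A.aa]
    · refine ⟨j, Or.inr (Or.inr (Or.inl ?_))⟩
      have : z * y ^ j * z⁻¹ = (y ^ j)⁻¹ := by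
        rw [← conj_zpow, A.zy, mul_inv_cancel_right, inv_zpow]
      calc (y ^ j * z)⁻¹ = z⁻¹ * (y ^ j)⁻¹ := by group
        _ = z⁻¹ * (z * y ^ j * z⁻¹) := by rw [this]
        _ = y ^ j * z⁻¹ := by group
        _ = _ := by rw [inv_eq_of_mul_eq_one_left A.zz]
    · refine ⟨-j, Or.inr (Or.inr (Or.inr ?_))⟩
      have hy : (a * z) * y = y * (a * z) := by
        have e : a * y⁻¹ = y * a := by
          calc a * y⁻¹ = y * (y⁻¹ * a) * y⁻¹ := by group
            _ = y * (a * y) * y⁻¹ := by rw [A.ay]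
            _ = y * a := by group
        rw [mul_assoc, A.zy, ← mul_assoc, e, mul_assoc]
      have h6 : (a * z)⁻¹ = a * z := by
        rw [mul_inv_rev, inv_eq_of_mul_eq_one_left A.aa, inv_eq_of_mul_eq_one_left A.zz, A.az]
      rw [mul_inv_rev, h6, zpow_neg]
      exact ((Commute.zpow_right (hy : Commute (a * z) y) j).inv_right).eq

theorem H_le (A : Axes M a z x y) (hN : y ∈ Subgroup.normalizer (M : Set G)) :
    A.H ≤ Subgroup.normalizer (M : Set G) := by
  rintro g ⟨j, rfl | rfl | rfl | rfl⟩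
  · exact zpow_mem hN j
  · exact mul_mem (zpow_mem hN j) A.a_mem
  · exact mul_mem (zpow_mem hN j) A.z_mem
  · exact mul_mem (zpow_mem hN j) (mul_mem A.a_mem A.z_mem)

theorem x_zpow_mem_H (A : Axes M a z x y) (h : Hyp M) {i : ℤ} (hi : x ^ i ∈ A.H) : x ^ i = 1 := by
  obtain ⟨j, hc⟩ := hi
  have key : ∀ t : G, t * t = 1 → x ^ i = y ^ j * t → t = 1 := by
    intro t ht e
    have : t ∈ M := by
      rw [eq_inv_mul_of_mul_eq e.symm]
      exact mul_mem (inv_mem (zpow_mem A.y_mem j)) (zpow_mem A.x_mem i)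
    exact eq_one_of_sq h this ht
  rcases hc with e | e | e | e
  · exact A.x_comp_unique h (j := -j) (by rw [e, zpow_neg, mul_inv_cancel])
  all_goals
    exfalso
  · have ha1 := key a A.aa e
    have := A.ay
    rw [ha1, one_mul, mul_one] at this
    exact A.y_ne (eq_one_of_sq h A.y_mem (mul_eq_one_iff_eq_inv.mpr this))
  · have hz1 := key z A.zz e
    have := A.zy
    rw [hz1, one_mul, mul_one] at this
    exact A.y_ne (eq_one_of_sq h A.y_mem (mul_eq_one_iff_eq_inv.mpr this))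
  · have haz := key (a * z) (A.swap h).aa e
    have := (A.swap h).ay
    rw [haz, one_mul, mul_one] at this
    exact A.x_ne (eq_one_of_sq h A.x_mem (mul_eq_one_iff_eq_inv.mpr this))

end Axes

theorem perm_three (σ : Equiv.Perm (Fin 3)) :
    (2 + ((Equiv.Perm.sign σ : ℤˣ) : ℤ) - ((Finset.univ.filter fun i => σ i = i).card : ℤ) = 0 ∨
      2 + ((Equiv.Perm.sign σ : ℤˣ) : ℤ) - ((Finset.univ.filter fun i => σ i = i).card : ℤ) = 3) ∧
    ((∃ i, σ i = i) →
      2 + ((Equiv.Perm.sign σ : ℤˣ) : ℤ) - ((Finset.univ.filter fun i => σ i = i).card : ℤ) = 0) ∧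
    (σ ≠ 1 → (∃ i, σ i = i) → (Equiv.Perm.sign σ : ℤˣ) = -1) := by
  revert σ; decide

open Cfsg CfsgLib.Char in
theorem exists_normal_of_axes {a z x y : G} (A : Axes M a z x y) (h : Hyp M) (hza : ¬ IsConj a z)
    (hzb : ¬ IsConj a (a * z)) : ∃ K : Subgroup G, K.Normal ∧ K ≠ ⊤ ∧ a ∈ K := by
  classical
  let N := Subgroup.normalizer (M : Set G)
  haveI : Fintype N := Fintype.ofFinite N
  have hyN : y ∈ N := Subgroup.le_normalizer A.y_mem
  have hxN : x ∈ N := Subgroup.le_normalizer A.x_mem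
  let H : Subgroup N := A.H.subgroupOf N
  have hyH : y ∈ A.H := ⟨1, Or.inl (zpow_one y).symm⟩
  have hzH : z ∈ A.H := ⟨0, Or.inr (Or.inr (Or.inl (by simp)))⟩
  have hfull : ∀ n : N, ∃ i : ℤ, ∃ k : N, k ∈ H ∧ (n : G) = x ^ i * k := by
    intro n
    obtain ⟨m, hm, hc⟩ := A.decomp n n.2
    obtain ⟨i, j, rfl⟩ := A.gen m hm
    refine ⟨i, ⟨(x ^ i)⁻¹ * n, mul_mem (inv_mem (zpow_mem hxN i)) n.2⟩, ?_, by simp⟩
    refine Subgroup.mem_subgroupOf.mpr ⟨j, ?_⟩
    rcases hc with e | e | e | e <;> simp [e, mul_assoc]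
  -- the coset space has three points
  let pt : Fin 3 → N ⧸ H := fun i => QuotientGroup.mk (⟨x, hxN⟩ ^ (i : ℕ))
  have hbij : Function.Bijective pt := by
    constructor
    · intro i j e
      rw [QuotientGroup.eq, Subgroup.mem_subgroupOf] at e
      have e' : x ^ (-(i : ℤ) + (j : ℤ)) ∈ A.H := by simpa [zpow_add, zpow_natCast] using e
      have h1 := A.x_zpow_mem_H h e'
      have hd : ((orderOf x : ℕ) : ℤ) ∣ -(i : ℤ) + (j : ℤ) := orderOf_dvd_iff_zpow_eq_one.mpr h1
      haveI : Fact (Nat.Prime 3) := ⟨Nat.prime_three⟩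
      rw [orderOf_eq_prime (p := 3) (h.cube x A.x_mem) A.x_ne] at hd
      have := i.isLt; have := j.isLt
      exact Fin.ext (by omega)
    · intro q
      obtain ⟨n, rfl⟩ := QuotientGroup.mk_surjective q
      obtain ⟨i, k, hk, e⟩ := hfull n
      refine ⟨⟨(i % 3).toNat, by omega⟩, (QuotientGroup.eq).mpr ?_⟩
      have e3 : x ^ ((i % 3).toNat : ℕ) = x ^ i := by
        rw [← zpow_natCast, Int.toNat_of_nonneg (by omega)]
        conv_rhs => rw [← Int.mul_ediv_add_emod i 3, zpow_add, zpow_mul,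
          show x ^ (3 : ℤ) = 1 by exact_mod_cast A.cube_x h, one_zpow, one_mul]
      rw [Subgroup.mem_subgroupOf] at hk ⊢
      simp only [Subgroup.coe_mul, InvMemClass.coe_inv, SubmonoidClass.coe_pow]
      rw [e3, e, inv_mul_cancel_left]
      exact hk
  let eX := (Equiv.ofBijective pt hbij).symm
  let π : N →* Equiv.Perm (Fin 3) :=
    (eX.permCongrHom).toMonoidHom.comp (MulAction.toPermHom N (N ⧸ H))
  let sgn : N →* ℂˣ := (Units.map ((Int.castRingHom ℂ).toMonoidHom)).comp (Equiv.Perm.sign.comp π)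
  let f : N → ℂ := fun n => 2 + (sgn n : ℂ) - (Nat.card (MulAction.fixedBy (N ⧸ H) n) : ℂ)
  haveI : Nonempty (N ⧸ H) := ⟨QuotientGroup.mk 1⟩
  have hgen : IsGeneralizedCharacter N f := by
    have h2 : IsCharacter N (fun _ : N => (2 : ℂ)) := by
      have := isCharacter_add (isCharacter_one (G := N)) (isCharacter_one (G := N))
      have e : ((fun _ : N => (1 : ℂ)) + fun _ => 1) = fun _ => 2 := funext fun _ => by
        simp [one_add_one_eq_two]
      exact e ▸ this
    exact isGeneralized_sub (isGeneralized_of_isCharacter (isCharacter_add h2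
      (isCharacter_monoidHom sgn))) (isGeneralized_of_isCharacter (isCharacter_perm (N ⧸ H)))
  have hfix : ∀ n : N, Nat.card (MulAction.fixedBy (N ⧸ H) n) =
      (Finset.univ.filter fun i => π n i = i).card := by
    intro n
    rw [← Fintype.card_subtype, ← Nat.card_eq_fintype_card]
    refine Nat.card_congr (Equiv.subtypeEquiv eX fun q => ?_)
    rw [MulAction.mem_fixedBy]
    show n • q = q ↔ eX (n • eX.symm (eX q)) = eX q
    rw [Equiv.symm_apply_apply]
    exact eX.injective.eq_iff.symm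
  have hfval : ∀ n : N, f n = ((2 + ((Equiv.Perm.sign (π n) : ℤˣ) : ℤ) -
      ((Finset.univ.filter fun i => π n i = i).card : ℤ) : ℤ) : ℂ) := by
    intro n
    simp only [f, hfix]
    push_cast
    rfl
  have hzero : ∀ n : N, (∃ q : N ⧸ H, n • q = q) → f n = 0 := by
    rintro n ⟨q, hq⟩
    rw [hfval, (perm_three (π n)).2.1 ⟨eX q, by
      show eX (n • eX.symm (eX q)) = eX q
      rw [Equiv.symm_apply_apply, hq]⟩, Int.cast_zero]
  -- description of the support
  have hdesc : ∀ n : N, f n ≠ 0 → ∃ i j : ℤ, x ^ i ≠ 1 ∧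
      ((n : G) = x ^ i * y ^ j ∨ (n : G) = x ^ i * y ^ j * a) := by
    intro n hn
    obtain ⟨m, hm, hc⟩ := A.decomp n n.2
    obtain ⟨i, j, rfl⟩ := A.gen m hm
    have haH : a ∈ A.H := ⟨0, Or.inr (Or.inl (by simp))⟩
    have hfixed : ∀ k : N, (k : G)⁻¹ * n * k ∈ A.H → False := fun k hk => hn (hzero n
      ⟨QuotientGroup.mk k, by
        rw [MulAction.Quotient.smul_mk, smul_eq_mul]
        symm
        rw [QuotientGroup.eq, Subgroup.mem_subgroupOf]
        simpa [mul_assoc] using hk⟩)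
    have hyjH : y ^ j ∈ A.H := zpow_mem hyH j
    by_cases hi : x ^ i = 1
    · exfalso
      refine hfixed 1 ?_
      rcases hc with e | e | e | e <;>
        simp only [e, hi, one_mul, OneMemClass.coe_one, inv_one, mul_one]
      · exact hyjH
      · exact mul_mem hyjH haH
      · exact mul_mem hyjH hzH
      · exact mul_mem hyjH (mul_mem haH hzH)
    have hsand : ∀ t : G, t * x = x⁻¹ * t → t ∈ A.H →
        ((⟨x, hxN⟩ : N) ^ (-i) : G)⁻¹ * (x ^ i * y ^ j * t) * ((⟨x, hxN⟩ : N) ^ (-i) : G) ∈ A.H := by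
      intro t ht htH
      have h1 : t * x ^ (-i) = x ^ i * t := by
        have : t * x ^ (-i) * t⁻¹ = x ^ i := by
          rw [← conj_zpow, ht, mul_inv_cancel_right, inv_zpow, zpow_neg, inv_inv]
        rw [← this, inv_mul_cancel_right]
      simp only [SubgroupClass.coe_zpow]
      rw [show (x ^ (-i))⁻¹ * (x ^ i * y ^ j * t) * x ^ (-i) = x ^ i * (x ^ i * y ^ j) * (t * x ^ (-i)) by
        group, h1, h.comm _ (zpow_mem A.x_mem i) _ (zpow_mem A.y_mem j)]
      have h3 : x ^ i * x ^ i * x ^ i = 1 := by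
        have := h.cube _ (zpow_mem A.x_mem i)
        rwa [pow_succ, pow_two] at this
      have e : x ^ i * (y ^ j * x ^ i) * (x ^ i * t) = y ^ j * t := by
        rw [← h.comm _ (zpow_mem A.x_mem i) _ (zpow_mem A.y_mem j)]
        calc x ^ i * (x ^ i * y ^ j) * (x ^ i * t) = x ^ i * x ^ i * (y ^ j * x ^ i) * t := by group
          _ = x ^ i * x ^ i * (x ^ i * y ^ j) * t := by
            rw [h.comm _ (zpow_mem A.x_mem i) _ (zpow_mem A.y_mem j)]
          _ = (x ^ i * x ^ i * x ^ i) * (y ^ j * t) := by group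
          _ = _ := by rw [h3, one_mul]
      rw [e]
      exact mul_mem hyjH htH
    rcases hc with e | e | e | e
    · exact ⟨i, j, hi, Or.inl e⟩
    · exact ⟨i, j, hi, Or.inr e⟩
    · exact (hfixed ((⟨x, hxN⟩ : N) ^ (-i)) (by rw [e]; exact hsand z A.zx hzH)).elim
    · exact (hfixed ((⟨x, hxN⟩ : N) ^ (-i)) (by rw [e]; exact hsand (a * z) (A.swap h).ay (mul_mem haH hzH))).elim
  let S : Set G := {g | g ∈ N ∧ g * g ≠ 1}
  have hTI : ∀ g : G, g ∉ N → ∀ t ∈ S, g * t * g⁻¹ ∈ S → t = 1 := by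
    intro g hg t ht ht'
    exfalso
    refine hg (h.conj_eq (A.sq_mem ht.1) ht.2 ?_)
    rw [show g * (t * t) * g⁻¹ = (g * t * g⁻¹) * (g * t * g⁻¹) by group]
    exact A.sq_mem ht'.1
  have hsqn : ∀ n : N, f n ≠ 0 → ∃ i k : ℤ, x ^ i ≠ 1 ∧ (n : G) * n = x ^ (2 * i) * y ^ k ∧
      x ^ (2 * i) ≠ 1 := by
    intro n hn
    obtain ⟨i, j, hi, hc⟩ := hdesc n hn
    have hne : x ^ (2 * i) ≠ 1 := fun e => hi (Axes.eq_one_of_sq h (zpow_mem A.x_mem i)
      (by rw [← zpow_add, ← two_mul, e]))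
    have hxy : ∀ k l : ℤ, x ^ i * y ^ k * (x ^ i * y ^ l) = x ^ (2 * i) * y ^ (k + l) := by
      intro k l
      calc x ^ i * y ^ k * (x ^ i * y ^ l) = x ^ i * (y ^ k * x ^ i) * y ^ l := by group
        _ = x ^ i * (x ^ i * y ^ k) * y ^ l := by
          rw [h.comm _ (zpow_mem A.y_mem k) _ (zpow_mem A.x_mem i)]
        _ = _ := by rw [two_mul, zpow_add, zpow_add]; group
    rcases hc with e | e
    · exact ⟨i, j + j, hi, by rw [e, hxy], hne⟩
    · refine ⟨i, j + -j, hi, ?_, hne⟩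
      rw [e, ← hxy, ← A.conj_a]
      have : a⁻¹ = a := inv_eq_of_mul_eq_one_left A.aa
      rw [this]; group
  have hone_sq : ∀ i k : ℤ, x ^ (2 * i) ≠ 1 → x ^ (2 * i) * y ^ k ≠ 1 :=
    fun i k hne e => hne (A.x_comp_unique h e)
  have hsupp : ∀ n : N, (n : G) ∉ S → f n = 0 := by
    intro n hn
    by_contra hne
    obtain ⟨i, k, -, e, h2⟩ := hsqn n hne
    exact hn ⟨n.2, e ▸ hone_sq i k h2⟩
  have h1 : f 1 = 0 := hzero 1 ⟨QuotientGroup.mk 1, one_smul _ _⟩
  have hone : classInner f (fun _ => (1 : ℂ)) = 1 := by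
    have hsum : ∑ n : N, (sgn n : ℂ) = 0 := by
      refine StrongReal.sum_hom_eq_zero sgn fun hs => ?_
      have hz' : π ⟨z, A.z_mem⟩ ≠ 1 := by
        intro e
        have e' := DFunLike.congr_fun e (eX (QuotientGroup.mk ⟨x, hxN⟩))
        change eX ((⟨z, A.z_mem⟩ : N) • eX.symm (eX (QuotientGroup.mk ⟨x, hxN⟩))) = _ at e'
        rw [Equiv.symm_apply_apply, Equiv.Perm.one_apply] at e'
        have e'' := eX.injective e'
        rw [MulAction.Quotient.smul_mk, QuotientGroup.eq, Subgroup.mem_subgroupOf] at e''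
        simp only [smul_eq_mul, mul_inv_rev, Subgroup.coe_mul, InvMemClass.coe_inv] at e''
        have hz' : z⁻¹ = z := inv_eq_of_mul_eq_one_left A.zz
        have h2 : x⁻¹ * z⁻¹ * x = x ^ (-2 : ℤ) * z := by
          rw [hz']
          calc x⁻¹ * z * x = x⁻¹ * (z * x) := by group
            _ = _ := by rw [A.zx]; group
        rw [h2] at e''
        have := A.x_zpow_mem_H h ((A.H.mul_mem_cancel_right hzH).mp e'')
        refine A.x_ne (Axes.eq_one_of_sq h A.x_mem ?_)
        rw [zpow_neg, inv_eq_one, zpow_two] at this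
        exact this
      have hpt : ∃ i, π ⟨z, A.z_mem⟩ i = i := ⟨eX (QuotientGroup.mk 1), by
        show eX ((⟨z, A.z_mem⟩ : N) • eX.symm (eX (QuotientGroup.mk 1))) = _
        rw [Equiv.symm_apply_apply, MulAction.Quotient.smul_mk]
        congr 1
        rw [QuotientGroup.eq, Subgroup.mem_subgroupOf]
        simpa using hzH⟩
      have := congrArg Units.val (DFunLike.congr_fun hs ⟨z, A.z_mem⟩)
      simp only [sgn, MonoidHom.comp_apply, MonoidHom.one_apply, Units.coe_map, Units.val_one,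
        (perm_three _).2.2 hz' hpt] at this
      norm_num at this
    have hburn : ∑ n : N, (Nat.card (MulAction.fixedBy (N ⧸ H) n) : ℂ) = (Nat.card N : ℂ) := by
      haveI : Fintype (N ⧸ H) := Fintype.ofFinite _
      have hb := MulAction.sum_card_fixedBy_eq_card_orbits_mul_card_group N (N ⧸ H)
      haveI : Subsingleton (Quotient (MulAction.orbitRel N (N ⧸ H))) :=
        (MulAction.pretransitive_iff_subsingleton_quotient N (N ⧸ H)).mp inferInstance
      have h1' : Fintype.card (Quotient (MulAction.orbitRel N (N ⧸ H))) = 1 :=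
        Fintype.card_eq_one_iff.mpr ⟨Quotient.mk'' (QuotientGroup.mk 1), fun q => Subsingleton.elim _ _⟩
      have h2' : ∑ n : N, Nat.card (MulAction.fixedBy (N ⧸ H) n) = Nat.card N := by
        simp only [Nat.card_eq_fintype_card]
        rw [h1', one_mul] at hb
        exact hb
      exact_mod_cast h2'
    simp only [classInner, f, map_one, mul_one]
    rw [Finset.sum_sub_distrib, Finset.sum_add_distrib, hsum, hburn, Finset.sum_const,
      Finset.card_univ, nsmul_eq_mul, ← Nat.card_eq_fintype_card, add_zero]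
    have : (Nat.card N : ℂ) ≠ 0 := Nat.cast_ne_zero.mpr Nat.card_pos.ne'
    field_simp
    ring
  have hnorm : classInner f f = 3 := by
    have e : classInner f f = 3 * classInner f (fun _ => (1 : ℂ)) := by
      simp only [classInner, Finset.mul_sum]
      refine Finset.sum_congr rfl fun n _ => ?_
      rcases (perm_three (π n)).1 with e | e <;> rw [hfval n, e] <;> push_cast <;>
        simp only [map_zero, map_ofNat, map_one] <;> ring
    rw [e, hone, mul_one]
  refine exists_normal_of_norm_three N S hTI f hgen hsupp h1 hnorm hone a (fun g hg => hg.2 ?_) ?_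
  · rw [show g * a * g⁻¹ * (g * a * g⁻¹) = g * (a * a) * g⁻¹ by group, A.aa, mul_one, mul_inv_cancel]
  intro n hn u v hu hv e
  have hinv : ∀ w : G, IsConj a w → w * w = 1 := by
    intro w hw
    obtain ⟨g, rfl⟩ := isConj_iff.mp hw
    rw [show g * a * g⁻¹ * (g * a * g⁻¹) = g * (a * a) * g⁻¹ by group, A.aa, mul_one, mul_inv_cancel]
  have huu := hinv u hu
  have hu' : u⁻¹ = u := inv_eq_of_mul_eq_one_left huu
  have hnu : u * n * u⁻¹ = (n : G)⁻¹ := by
    rw [hu', ← e, mul_inv_rev, hu', inv_eq_of_mul_eq_one_left (hinv v hv)]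
    calc u * (u * v) * u = (u * u) * (v * u) := by group
      _ = v * u := by rw [huu, one_mul]
  obtain ⟨i, k, -, en, h2⟩ := hsqn n hn
  have hnu2 : u * (x ^ (2 * i) * y ^ k) * u⁻¹ = (x ^ (2 * i) * y ^ k)⁻¹ := by
    rw [← en, show u * ((n : G) * n) * u⁻¹ = (u * n * u⁻¹) * (u * n * u⁻¹) by group, hnu, mul_inv_rev]
  have hm0 : x ^ (2 * i) * y ^ k ∈ M := mul_mem (zpow_mem A.x_mem _) (zpow_mem A.y_mem _)
  have huN : u ∈ N := h.conj_eq hm0 (hone_sq i k h2) (hnu2 ▸ inv_mem hm0)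
  obtain ⟨m, hm, hc⟩ := A.decomp u huN
  obtain ⟨i', j', rfl⟩ := A.gen m hm
  have hmi : x ^ (2 * i) * y ^ k * (x ^ i' * y ^ j') = x ^ i' * y ^ j' * (x ^ (2 * i) * y ^ k) :=
    h.comm _ hm0 _ (mul_mem (zpow_mem A.x_mem _) (zpow_mem A.y_mem _))
  have hbad : ∀ l : ℤ, x ^ (2 * i) * y ^ l = (x ^ (2 * i) * y ^ k)⁻¹ → False := by
    intro l el
    refine h2 (Axes.eq_one_of_sq h (zpow_mem A.x_mem _) ?_)
    rw [← zpow_add]
    refine A.x_comp_unique h (j := k + l) ?_
    rw [← mul_eq_one_iff_eq_inv.mpr el]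
    calc x ^ (2 * i + 2 * i) * y ^ (k + l) = x ^ (2 * i) * (x ^ (2 * i) * y ^ l) * y ^ k := by group
      _ = x ^ (2 * i) * y ^ l * x ^ (2 * i) * y ^ k := by
        rw [h.comm _ (zpow_mem A.x_mem _) _ (mul_mem (zpow_mem A.x_mem _) (zpow_mem A.y_mem _))]
      _ = _ := by group
  have hmc : ∀ w : G, x ^ i' * y ^ j' * w * (x ^ i' * y ^ j')⁻¹ = (x ^ (2 * i) * y ^ k)⁻¹ →
      w ∈ M → w = (x ^ (2 * i) * y ^ k)⁻¹ := by
    intro w hw hwM
    rwa [h.comm _ (mul_mem (zpow_mem A.x_mem _) (zpow_mem A.y_mem _)) w hwM,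
      mul_inv_cancel_right] at hw
  rcases hc with e' | e' | e' | e'
  · refine hbad k ?_
    rw [e', ← hmi, mul_inv_cancel_right] at hnu2
    exact hnu2
  · refine hbad (-k) ?_
    rw [e', show x ^ i' * y ^ j' * a * (x ^ (2 * i) * y ^ k) * (x ^ i' * y ^ j' * a)⁻¹ =
      x ^ i' * y ^ j' * (a * (x ^ (2 * i) * y ^ k) * a⁻¹) * (x ^ i' * y ^ j')⁻¹ by group,
      A.conj_a] at hnu2
    exact hmc _ hnu2 (mul_mem (zpow_mem A.x_mem _) (zpow_mem A.y_mem _))
  · exact hza (hu.trans (e' ▸ (Axes.isConj_coset h hm A.zz (e' ▸ huu)).symm))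
  · exact hzb (hu.trans (e' ▸ (Axes.isConj_coset h hm (A.swap h).aa (e' ▸ huu)).symm))

theorem normal_of_axes {a z x y : G} (A : Axes M a z x y) (h : Hyp M) (hza : ¬ IsConj a z)
    (hzb : ¬ IsConj a (a * z)) : Subgroup.normalizer (M : Set G) = ⊤ := by
  classical
  haveI : Fact (Nat.Prime 3) := ⟨Nat.prime_three⟩
  obtain ⟨K, hK, hKtop, haK⟩ := exists_normal_of_axes A h hza hzb
  have hyK : y ∈ K := by
    have h1 : a * (y * a⁻¹ * y⁻¹) ∈ K := mul_mem haK (hK.conj_mem _ (inv_mem haK) y)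
    have e : a * (y * a⁻¹ * y⁻¹) = y := by
      calc a * (y * a⁻¹ * y⁻¹) = a * y * a⁻¹ * y⁻¹ := by group
        _ = y⁻¹ * y⁻¹ := by rw [A.ay, mul_inv_cancel_right]
        _ = y⁻¹ * y⁻¹ * y ^ 3 := by rw [h.cube y A.y_mem, mul_one]
        _ = y := by group
    exact e ▸ h1
  have crit : ∀ L : Subgroup G, L.Normal → y ∈ L → x ∉ L →
      Subgroup.normalizer (M : Set G) = ⊤ := by
    intro L hL hyL hxL
    haveI := hL
    refine normalizer_eq_top_of_normal h L A.y_mem A.y_ne hyL (le_antisymm ?_ ?_)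
    · rintro g ⟨hg, hgL⟩
      have hgN := h.loc y A.y_mem A.y_ne hg
      have hgy := Subgroup.mem_centralizer_singleton_iff.mp hg
      obtain ⟨m, hm, hc⟩ := A.decomp g hgN
      obtain ⟨i, j, rfl⟩ := A.gen m hm
      have hflip : ∀ t : G, (t * y = y⁻¹ * t) → g = x ^ i * y ^ j * t → False := by
        intro t ht e
        rw [e] at hgy
        refine A.y_ne (Axes.eq_one_of_sq h A.y_mem (mul_eq_one_iff_eq_inv.mpr ?_))
        have h1 : x ^ i * y ^ j * (y⁻¹ * t) = x ^ i * y ^ j * (y * t) := by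
          calc x ^ i * y ^ j * (y⁻¹ * t) = x ^ i * y ^ j * t * y := by rw [← ht]; group
            _ = y * (x ^ i * y ^ j * t) := hgy
            _ = (y * (x ^ i * y ^ j)) * t := by group
            _ = _ := by
              rw [h.comm _ A.y_mem _ (mul_mem (zpow_mem A.x_mem i) (zpow_mem A.y_mem j))]; group
        exact (mul_right_cancel (mul_left_cancel h1)).symm
      rcases hc with e | e | e | e
      · have hxi : x ^ i ∈ L := by
          have := L.mul_mem hgL (L.inv_mem (L.zpow_mem hyL j))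
          rwa [e, mul_inv_cancel_right] at this
        rcases Classical.em (x ^ i = 1) with h0 | h0
        · exact ⟨j, by simp [e, h0]⟩
        · exfalso
          apply hxL
          have h3 : x ^ (3 : ℤ) = 1 := by exact_mod_cast A.cube_x h
          obtain ⟨k, hk⟩ : ∃ k, i * i = 3 * k + 1 := by
            have h30 : i % 3 ≠ 0 := fun e0 => h0 (by
              obtain ⟨k, rfl⟩ := Int.dvd_of_emod_eq_zero e0
              rw [zpow_mul, h3, one_zpow])
            refine ⟨(i * i) / 3, ?_⟩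
            have : (i * i) % 3 = 1 := by
              rcases (by omega : i % 3 = 1 ∨ i % 3 = 2) with e | e <;> rw [Int.mul_emod, e] <;> norm_num
            omega
          have := zpow_mem hxi i
          rwa [← zpow_mul, hk, zpow_add, zpow_mul, h3, one_zpow, one_mul, zpow_one] at this
      · exact (hflip a A.ay e).elim
      · exact (hflip z A.zy e).elim
      · exfalso
        apply hxL
        have h1 : g * x * g⁻¹ = x⁻¹ := by
          rw [e, show x ^ i * y ^ j * (a * z) * x * (x ^ i * y ^ j * (a * z))⁻¹ =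
            x ^ i * y ^ j * ((a * z) * x * (a * z)⁻¹) * (x ^ i * y ^ j)⁻¹ by group,
            show (a * z) * x * (a * z)⁻¹ = x⁻¹ by rw [(A.swap h).ay, mul_inv_cancel_right],
            h.comm _ (mul_mem (zpow_mem A.x_mem i) (zpow_mem A.y_mem j)) _ (inv_mem A.x_mem),
            mul_inv_cancel_right]
        have h2 : g * (x * g⁻¹ * x⁻¹) ∈ L := mul_mem hgL (hL.conj_mem _ (inv_mem hgL) x)
        have e2 : g * (x * g⁻¹ * x⁻¹) = x := by
          calc g * (x * g⁻¹ * x⁻¹) = g * x * g⁻¹ * x⁻¹ := by group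
            _ = x⁻¹ * x⁻¹ * x ^ 3 := by rw [h1, A.cube_x h, mul_one]
            _ = x := by group
        exact e2 ▸ h2
    · rw [Subgroup.zpowers_le]
      exact ⟨Subgroup.mem_centralizer_singleton_iff.mpr rfl, hyL⟩
  by_cases hxK : x ∈ K
  · have hMK : M ≤ K := fun m hm => by
      obtain ⟨i, j, rfl⟩ := A.gen m hm
      exact mul_mem (zpow_mem hxK i) (zpow_mem hyK j)
    let PM : Sylow 3 G := ⟨M, h.isPGroup, fun hQ hle => h.maximal _ hQ hle⟩
    let PK : Sylow 3 K := PM.subtype hMK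
    have hzK : z ∉ K := by
      intro hzK
      apply hKtop
      haveI := hK
      have hfr := PK.normalizer_sup_eq_top
      have hmap : (PK : Subgroup K).map K.subtype = M := by
        show (M.subgroupOf K).map K.subtype = M
        rw [Subgroup.subgroupOf_map_subtype, inf_eq_left.mpr hMK]
      rw [hmap, sup_eq_right.mpr ?_] at hfr
      · exact hfr
      intro n hn
      obtain ⟨m, hm, hc⟩ := A.decomp n hn
      rcases hc with rfl | rfl | rfl | rfl
      · exact hMK hm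
      · exact mul_mem (hMK hm) haK
      · exact mul_mem (hMK hm) hzK
      · exact mul_mem (hMK hm) (mul_mem haK hzK)
    haveI := hK
    refine crit ⁅K, K⁆ inferInstance ?_ ?_
    · have h1 := Subgroup.commutator_mem_commutator haK hyK
      have e : ⁅a, y⁆ = y := by
        calc ⁅a, y⁆ = a * y * a⁻¹ * y⁻¹ := commutatorElement_def a y
          _ = y⁻¹ * y⁻¹ * y ^ 3 := by rw [A.ay, mul_inv_cancel_right, h.cube y A.y_mem, mul_one]
          _ = y := by group
      exact e ▸ h1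
    · intro hx
      have hx' : (⟨x, hxK⟩ : K) ∈ commutator K ⊓ (PK : Subgroup K) := by
        refine ⟨?_, Subgroup.mem_subgroupOf.mpr A.x_mem⟩
        rw [← Subgroup.map_subtype_commutator] at hx
        obtain ⟨w, hw, e⟩ := hx
        exact (Subtype.ext e : w = ⟨x, hxK⟩) ▸ hw
      haveI : IsMulCommutative (PK : Subgroup K) := ⟨⟨fun p q => Subtype.ext (Subtype.ext
        (h.comm _ (Subgroup.mem_subgroupOf.mp p.2) _ (Subgroup.mem_subgroupOf.mp q.2)))⟩⟩
      rw [CfsgLib.Transfer.commutator_inf_sylow_eq_normalizer PK inferInstance] at hx'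
      have hW : ∀ k : K, k ∈ Subgroup.normalizer ((PK : Subgroup K) : Set K) →
          ∃ i : ℤ, ∃ l ∈ A.H, (k : G) = x ^ i * l ∧ l * x = x * l := by
        intro k hk
        have hkN : (k : G) ∈ Subgroup.normalizer (M : Set G) := by
          refine h.conj_eq A.x_mem A.x_ne ?_
          exact Subgroup.mem_subgroupOf.mp ((Subgroup.mem_normalizer_iff.mp hk ⟨x, hxK⟩).mp
            (Subgroup.mem_subgroupOf.mpr A.x_mem))
        obtain ⟨m, hm, hc⟩ := A.decomp _ hkN
        have hcM : ∀ j : ℤ, y ^ j * x = x * y ^ j := fun j =>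
          h.comm _ (zpow_mem A.y_mem j) _ A.x_mem
        have hmK := hMK hm
        obtain ⟨i, j, rfl⟩ := A.gen m hm
        have haz : z ∈ K → False := hzK
        rcases hc with e | e | e | e
        · exact ⟨i, y ^ j, ⟨j, Or.inl rfl⟩, e, hcM j⟩
        · refine ⟨i, y ^ j * a, ⟨j, Or.inr (Or.inl rfl)⟩, by rw [e, mul_assoc], ?_⟩
          rw [mul_assoc, A.ax, ← mul_assoc, hcM, mul_assoc]
        · exfalso
          have := mul_mem (inv_mem hmK) k.2
          rw [e, inv_mul_cancel_left] at this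
          exact haz this
        · exfalso
          have := mul_mem (inv_mem hmK) k.2
          rw [e, inv_mul_cancel_left] at this
          exact haz ((Subgroup.mul_mem_cancel_left K haK).mp this)
      have hle : ⁅Subgroup.normalizer ((PK : Subgroup K) : Set K),
          Subgroup.normalizer ((PK : Subgroup K) : Set K)⁆ ≤ A.H.subgroupOf K := by
        rw [Subgroup.commutator_le]
        intro p hp q hq
        obtain ⟨i, l, hl, ep, hlx⟩ := hW p hp
        obtain ⟨j, l', hl', eq', hlx'⟩ := hW q hq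
        rw [Subgroup.mem_subgroupOf]
        show ((⁅p, q⁆ : K) : G) ∈ A.H
        rw [commutatorElement_def]
        simp only [Subgroup.coe_mul, InvMemClass.coe_inv]
        rw [ep, eq']
        have c1 : Commute (x ^ i) l := (Commute.zpow_left (hlx : Commute l x).symm i)
        have c2 : Commute (x ^ i) l' := (Commute.zpow_left (hlx' : Commute l' x).symm i)
        have c3 : Commute (x ^ j) l := (Commute.zpow_left (hlx : Commute l x).symm j)
        have c4 : Commute (x ^ j) l' := (Commute.zpow_left (hlx' : Commute l' x).symm j)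
        have c5 : Commute (x ^ i) (x ^ j) := Commute.zpow_zpow (Commute.refl x) i j
        have e : x ^ i * l * (x ^ j * l') * (x ^ i * l)⁻¹ * (x ^ j * l')⁻¹ = l * l' * l⁻¹ * l'⁻¹ := by
          calc x ^ i * l * (x ^ j * l') * (x ^ i * l)⁻¹ * (x ^ j * l')⁻¹
              = x ^ i * (l * x ^ j) * l' * l⁻¹ * (x ^ i)⁻¹ * l'⁻¹ * (x ^ j)⁻¹ := by group
            _ = x ^ i * x ^ j * (l * l' * l⁻¹) * (x ^ i)⁻¹ * l'⁻¹ * (x ^ j)⁻¹ := by
              rw [← c3.eq]; group
            _ = x ^ i * x ^ j * ((l * l' * l⁻¹) * (x ^ i)⁻¹) * l'⁻¹ * (x ^ j)⁻¹ := by group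
            _ = x ^ i * x ^ j * (x ^ i)⁻¹ * ((l * l' * l⁻¹ * l'⁻¹) * (x ^ j)⁻¹) := by
              rw [← (((c1.mul_right c2).mul_right c1.inv_right).inv_left).eq]; group
            _ = x ^ i * x ^ j * (x ^ i)⁻¹ * ((x ^ j)⁻¹ * (l * l' * l⁻¹ * l'⁻¹)) := by
              rw [← ((((c3.mul_right c4).mul_right c3.inv_right).mul_right c4.inv_right).inv_left).eq]
            _ = _ := by rw [c5.eq]; group
        rw [e]
        exact mul_mem (mul_mem (mul_mem hl hl') (inv_mem hl)) (inv_mem hl')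
      have hxH : x ∈ A.H := Subgroup.mem_subgroupOf.mp (hle hx'.1)
      exact A.x_ne (by
        have := A.x_zpow_mem_H h (i := 1) (by rwa [zpow_one])
        rwa [zpow_one] at this)
  · exact crit K hK hyK hxK

theorem normalizer_eq_top_of_klein (h : Hyp M) (P : Subgroup G)
    (hP : P ≤ Subgroup.normalizer (M : Set G)) (hPc : Nat.card P = 4) (hPsq : ∀ p ∈ P, p * p = 1)
    (hdec : ∀ n ∈ Subgroup.normalizer (M : Set G), ∃ m ∈ M, ∃ p ∈ P, n = m * p) :
    Subgroup.normalizer (M : Set G) = ⊤ := by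
  obtain ⟨a, z, x, y, A⟩ := exists_axes h P hP hPc hPsq hdec
  have hab := A.not_conj h
  by_cases haz : IsConj a z
  · have B := A.swap h
    refine normal_of_axes B h (fun hc => hab (haz.trans hc.symm)) ?_
    rw [mul_assoc, A.zz, mul_one]
    exact fun hc => hab hc.symm
  · exact normal_of_axes A h haz hab

end CfsgLib.NineTI
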