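import Mathlib
import Cfsg.Agent.Lib.Char.Central
import Cfsg.Agent.Lib.Char.Orth
import Cfsg.Agent.Lib.Char.Counting
import Cfsg.Agent.Lib.Char.Table

/-!
Integrality helpers: sums over free orbits, subgroup sums of characters, class sum counts.
-/

set_option autoImplicit false

namespace CfsgLib.NineTI

open Cfsg CfsgLib.Char
open scoped ComplexConjugate

/-- A sum over free orbits is divisible by the order of the group. -/
theorem exists_mul_of_free {A α : Type*} [Group A] [Finite A] [MulAction A α] [DecidableEq α]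
    (s : Finset α) (hs : ∀ (a : A), ∀ x ∈ s, a • x ∈ s)
    (hfree : ∀ (a : A), ∀ x ∈ s, a • x = x → a = 1) (f : α → ℂ)
    (hf : ∀ (a : A) (x : α), f (a • x) = f x) (hint : ∀ x ∈ s, IsIntegral ℤ (f x)) :
    ∃ y : ℂ, IsIntegral ℤ y ∧ ∑ x ∈ s, f x = (Nat.card A : ℂ) * y := by
  classical
  haveI : Fintype A := Fintype.ofFinite A
  revert hs hfree hint
  induction s using Finset.strongInduction with
  | _ s ih =>
  intro hs hfree hint
  rcases s.eq_empty_or_nonempty with rfl | ⟨x, hx⟩
  · exact ⟨0, isIntegral_zero, by simp⟩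
  let o : Finset α := Finset.univ.image fun a : A => a • x
  have hos : o ⊆ s := by
    intro y hy
    obtain ⟨a, -, rfl⟩ := Finset.mem_image.mp hy
    exact hs a x hx
  have hxo : x ∈ o := Finset.mem_image.mpr ⟨1, Finset.mem_univ _, one_smul A x⟩
  have hinj : Function.Injective fun a : A => a • x := fun a b e =>
    (inv_mul_eq_one.mp (hfree (b⁻¹ * a) x hx (by
      show (b⁻¹ * a) • x = x
      rw [mul_smul, show a • x = b • x from e, inv_smul_smul]))).symm
  obtain ⟨y, hy, hsum⟩ := ih (s \ o) (Finset.sdiff_ssubset hos ⟨x, hxo⟩) (fun a z hz => by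
      rw [Finset.mem_sdiff] at hz ⊢
      refine ⟨hs a z hz.1, fun hmem => hz.2 ?_⟩
      obtain ⟨b, -, hb⟩ := Finset.mem_image.mp hmem
      exact Finset.mem_image.mpr ⟨a⁻¹ * b, Finset.mem_univ _, by rw [mul_smul, hb, inv_smul_smul]⟩)
    (fun a z hz => hfree a z (Finset.mem_sdiff.mp hz).1) (fun z hz => hint z (Finset.mem_sdiff.mp hz).1)
  refine ⟨y + f x, hy.add (hint x hx), ?_⟩
  rw [← Finset.sum_sdiff hos, hsum, Finset.sum_image fun a _ b _ e => hinj e,
    Finset.sum_congr rfl fun a _ => hf a x, Finset.sum_const, Finset.card_univ, nsmul_eq_mul,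
    ← Nat.card_eq_fintype_card, mul_add]

/-- An algebraic integer equation `a = b + n·y` between integers gives a congruence. -/
theorem dvd_sub_of_integral {a b : ℤ} {n : ℕ} (hn : n ≠ 0) {y : ℂ} (hy : IsIntegral ℤ y)
    (h : (a : ℂ) = b + (n : ℂ) * y) : (n : ℤ) ∣ a - b := by
  have e : ((((a - b : ℤ) : ℚ) / n : ℚ) : ℂ) = y := by
    push_cast
    rw [h, add_sub_cancel_left, mul_div_cancel_left₀ _ (Nat.cast_ne_zero.mpr hn)]
  obtain ⟨m, hm⟩ := exists_int_of_isIntegral_rat (e.symm ▸ hy)
  rw [div_eq_iff (Nat.cast_ne_zero.mpr hn)] at hm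
  exact ⟨m, by rw [mul_comm]; exact_mod_cast hm⟩

variable {G : Type*} [Group G] [Finite G]

/-- The sum of a character over a subgroup is a multiple of its order. -/
theorem exists_sum_subgroup {χ : G → ℂ} (hχ : IsCharacter G χ) (H : Subgroup G) [Fintype H] :
    ∃ n : ℕ, ∑ h : H, χ h = (Nat.card H : ℂ) * n := by
  obtain ⟨n, hn⟩ := exists_nat_classInner (isCharacter_restrict H hχ) (isCharacter_one (G := H))
  refine ⟨n, ?_⟩
  rw [← hn, classInner]
  simp only [map_one, mul_one]
  rw [mul_inv_cancel_left₀ (Nat.cast_ne_zero.mpr Nat.card_pos.ne')]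

/-- The value at an involution is an integer. -/
theorem exists_int_of_sq {χ : G → ℂ} (hχ : IsCharacter G χ) {t : G} (ht : t * t = 1) :
    ∃ n : ℤ, χ t = n := by
  classical
  obtain ⟨d, hd⟩ := exists_nat_degree hχ
  rcases eq_or_ne t 1 with rfl | h1
  · exact ⟨d, by exact_mod_cast hd⟩
  let H : Subgroup G :=
    { carrier := {g | g = 1 ∨ g = t}
      one_mem' := Or.inl rfl
      mul_mem' := by rintro p q (rfl | rfl) (rfl | rfl) <;> simp [ht]
      inv_mem' := by rintro p (rfl | rfl) <;> simp [inv_eq_of_mul_eq_one_left ht] }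
  haveI : Fintype H := Fintype.ofFinite H
  obtain ⟨n, hn⟩ := exists_sum_subgroup hχ H
  have hu : (Finset.univ : Finset H) = {⟨1, Or.inl rfl⟩, ⟨t, Or.inr rfl⟩} := by
    ext ⟨g, hg | hg⟩ <;> simp [hg]
  rw [Nat.card_eq_fintype_card, ← Finset.card_univ, hu,
    Finset.card_pair (fun e => h1 (congrArg Subtype.val e).symm),
    Finset.sum_pair (fun e => h1 (congrArg Subtype.val e).symm)] at hn
  refine ⟨2 * n - d, ?_⟩
  push_cast at hn ⊢
  simp only [hd] at hn
  linear_combination hn

end CfsgLib.NineTI
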