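import Mathlib

/-!
The only admissible decomposition of the Gram matrix of the four virtual characters.
-/

set_option autoImplicit false

namespace CfsgLib.NineTI.Gram

/-- A coefficient vector. -/
abbrev Vec : Type := ℤ × ℤ × ℤ × ℤ

/-- The entries of a coefficient vector. -/
def Vec.get (v : Vec) : Fin 4 → ℤ
  | 0 => v.1
  | 1 => v.2.1
  | 2 => v.2.2.1
  | _ => v.2.2.2

/-- The sum of entries. -/
def Vec.total (v : Vec) : ℤ := v.1 + v.2.1 + v.2.2.1 + v.2.2.2

/-- The upper triangle of `v vᵀ`. -/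
def sq (v : Vec) : List ℤ :=
  [v.1 * v.1, v.2.1 * v.2.1, v.2.2.1 * v.2.2.1, v.2.2.2 * v.2.2.2, v.1 * v.2.1, v.1 * v.2.2.1,
    v.1 * v.2.2.2, v.2.1 * v.2.2.1, v.2.1 * v.2.2.2, v.2.2.1 * v.2.2.2]

/-- The same as a function. -/
def sqf (v : Vec) : Fin 10 → ℤ
  | 0 => v.1 * v.1
  | 1 => v.2.1 * v.2.1
  | 2 => v.2.2.1 * v.2.2.1
  | 3 => v.2.2.2 * v.2.2.2
  | 4 => v.1 * v.2.1
  | 5 => v.1 * v.2.2.1
  | 6 => v.1 * v.2.2.2
  | 7 => v.2.1 * v.2.2.1
  | 8 => v.2.1 * v.2.2.2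
  | _ => v.2.2.1 * v.2.2.2

/-- The pruning test. -/
def ok (r : Fin 10 → ℤ) : Bool :=
  decide (0 ≤ r 0 ∧ 0 ≤ r 1 ∧ 0 ≤ r 2 ∧ 0 ≤ r 3 ∧ |r 4| ≤ r 0 ∧ |r 4| ≤ r 1 ∧ |r 5| ≤ r 0 ∧
    |r 5| ≤ r 2 ∧ |r 6| ≤ r 0 ∧ |r 6| ≤ r 3 ∧ |r 7| ≤ r 1 ∧ |r 7| ≤ r 2 ∧ |r 8| ≤ r 1 ∧
    |r 8| ≤ r 3 ∧ |r 9| ≤ r 2 ∧ |r 9| ≤ r 3)

/-- All multiplicities decomposing `r` along the list. -/
def search : List Vec → (Fin 10 → ℤ) → List (List ℕ)
  | [], r => if (List.finRange 10).all (fun i => r i == 0) then [[]] else []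
  | v :: L, r => (List.range 5).flatMap fun (m : ℕ) =>
      if ok (fun i => r i - (m : ℤ) * sqf v i) then
        (search L (fun i => r i - (m : ℤ) * sqf v i)).map (fun l => m :: l) else []

/-- The admissible types. -/
def types : List Vec :=
  [(1, 1, 1, 1), (-1, 1, 1, 1), (1, -1, 1, 1), (1, 1, -1, 1), (1, 1, 1, -1),
   (-1, 0, 1, 1), (-1, 1, 0, 1), (-1, 1, 1, 0), (0, -1, 1, 1), (0, 1, -1, 1), (0, 1, 1, -1),
   (1, -1, 0, 1), (1, -1, 1, 0), (1, 0, -1, 1), (1, 0, 1, -1), (1, 1, -1, 0), (1, 1, 0, -1),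
   (0, 0, 1, 1), (0, 1, 0, 1), (0, 1, 1, 0), (1, 0, 0, 1), (1, 0, 1, 0), (1, 1, 0, 0),
   (0, 0, 0, 1), (0, 0, 1, 0), (0, 1, 0, 0), (1, 0, 0, 0)]

/-- The standard types. -/
def std : List Vec :=
  [(1, 1, 1, 1), (0, 1, 0, 1), (0, 1, 1, 0), (1, 0, 0, 1), (0, 0, 0, 1), (0, 0, 1, 0),
   (0, 1, 0, 0), (1, 0, 0, 0)]

/-- The target matrix. -/
def target : Fin 10 → ℤ
  | 0 => 3
  | 1 => 4
  | 2 => 3
  | 3 => 4
  | 4 => 1
  | 5 => 1
  | 6 => 2
  | 7 => 2
  | 8 => 2
  | _ => 1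

theorem search_types : search types target = [types.map fun v => if v ∈ std then 1 else 0] := by
  decide +kernel

theorem mem_types : ∀ a b c d : Fin 3, (((a : ℕ) : ℤ) - 1 + (((b : ℕ) : ℤ) - 1) +
    (((c : ℕ) : ℤ) - 1) + (((d : ℕ) : ℤ) - 1) = 1 ∨
    ((a : ℕ) : ℤ) - 1 + (((b : ℕ) : ℤ) - 1) + (((c : ℕ) : ℤ) - 1) + (((d : ℕ) : ℤ) - 1) = 2 ∨
    ((a : ℕ) : ℤ) - 1 + (((b : ℕ) : ℤ) - 1) + (((c : ℕ) : ℤ) - 1) + (((d : ℕ) : ℤ) - 1) = 4) →
    ((((a : ℕ) : ℤ) - 1, ((b : ℕ) : ℤ) - 1, ((c : ℕ) : ℤ) - 1, ((d : ℕ) : ℤ) - 1) : Vec) ∈ types := by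
  decide +kernel

theorem types_nodup : types.Nodup := by decide +kernel

theorem types_bound : ∀ v ∈ types, (∀ i : Fin 4, |v.get i| ≤ 1) ∧
    (sqf v 0 = 1 ∨ sqf v 1 = 1 ∨ sqf v 2 = 1 ∨ sqf v 3 = 1) := by decide +kernel

/-- The value of a multiplicity list. -/
def value (μ : Vec → ℕ) (L : List Vec) (i : Fin 10) : ℤ :=
  (L.map fun v => (μ v : ℤ) * sqf v i).sum

theorem step_bound (m x y A B C : ℤ) (hm : 0 ≤ m) (hx : |x| ≤ 1) (hy : |y| ≤ 1) (hB : |A| ≤ B)
    (hC : |A| ≤ C) : |m * (x * y) + A| ≤ m * (x * x) + B ∧ |m * (x * y) + A| ≤ m * (y * y) + C := by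
  rw [abs_le] at hx hy hB hC
  rw [abs_le, abs_le]
  rcases (by omega : x = -1 ∨ x = 0 ∨ x = 1) with rfl | rfl | rfl <;>
    rcases (by omega : y = -1 ∨ y = 0 ∨ y = 1) with rfl | rfl | rfl <;>
    norm_num <;> omega

theorem sound (μ : Vec → ℕ) : ∀ (L : List Vec) (r : Fin 10 → ℤ),
    (∀ v ∈ L, (∀ i : Fin 4, |v.get i| ≤ 1) ∧
      (sqf v 0 = 1 ∨ sqf v 1 = 1 ∨ sqf v 2 = 1 ∨ sqf v 3 = 1)) →
    (∀ i, value μ L i = r i) → r 0 ≤ 4 → r 1 ≤ 4 → r 2 ≤ 4 → r 3 ≤ 4 →
    L.map μ ∈ search L r := by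
  intro L
  induction L with
  | nil =>
    intro r _ hr _ _ _ _
    simp only [search, List.map_nil]
    rw [if_pos]
    · exact List.mem_singleton.mpr rfl
    · rw [List.all_eq_true]
      intro i _
      have := hr i
      simp only [value, List.map_nil, List.sum_nil] at this
      simp [← this]
  | cons v L ih =>
    intro r hb hr h0 h1 h2 h3
    have hb' := fun w hw => hb w (List.mem_cons_of_mem v hw)
    have hr' : ∀ i, value μ L i = r i - (μ v : ℤ) * sqf v i := fun i => by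
      have := hr i
      simp only [value, List.map_cons, List.sum_cons] at this ⊢
      linarith
    -- the remainder passes the test
    have key : ∀ (L' : List Vec), (∀ w ∈ L', ∀ i : Fin 4, |w.get i| ≤ 1) →
        ok (value μ L') = true := by
      intro L' hL'
      induction L' with
      | nil => simp [ok, value]
      | cons w L'' ih' =>
        have hw := hL' w (List.mem_cons_self)
        have e := ih' fun u hu => hL' u (List.mem_cons_of_mem w hu)
        simp only [ok, decide_eq_true_eq] at e ⊢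
        have hm : (0 : ℤ) ≤ (μ w : ℤ) := Int.natCast_nonneg _
        have hval : ∀ i, value μ (w :: L'') i = (μ w : ℤ) * sqf w i + value μ L'' i := fun i => by
          simp [value]
        have g0 := hw 0; have g1 := hw 1; have g2 := hw 2; have g3 := hw 3
        simp only [Vec.get] at g0 g1 g2 g3
        obtain ⟨e0, e1, e2, e3, e40, e41, e50, e52, e60, e63, e71, e72, e81, e83, e92, e93⟩ := e
        refine ⟨?_, ?_, ?_, ?_, ?_, ?_, ?_, ?_, ?_, ?_, ?_, ?_, ?_, ?_, ?_, ?_⟩ <;>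
          simp only [hval, sqf]
        · nlinarith [mul_self_nonneg w.1]
        · nlinarith [mul_self_nonneg w.2.1]
        · nlinarith [mul_self_nonneg w.2.2.1]
        · nlinarith [mul_self_nonneg w.2.2.2]
        · exact (step_bound _ _ _ _ _ _ hm g0 g1 e40 e41).1
        · exact (step_bound _ _ _ _ _ _ hm g0 g1 e40 e41).2
        · exact (step_bound _ _ _ _ _ _ hm g0 g2 e50 e52).1
        · exact (step_bound _ _ _ _ _ _ hm g0 g2 e50 e52).2
        · exact (step_bound _ _ _ _ _ _ hm g0 g3 e60 e63).1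
        · exact (step_bound _ _ _ _ _ _ hm g0 g3 e60 e63).2
        · exact (step_bound _ _ _ _ _ _ hm g1 g2 e71 e72).1
        · exact (step_bound _ _ _ _ _ _ hm g1 g2 e71 e72).2
        · exact (step_bound _ _ _ _ _ _ hm g1 g3 e81 e83).1
        · exact (step_bound _ _ _ _ _ _ hm g1 g3 e81 e83).2
        · exact (step_bound _ _ _ _ _ _ hm g2 g3 e92 e93).1
        · exact (step_bound _ _ _ _ _ _ hm g2 g3 e92 e93).2
    have hok : ok (fun i => r i - (μ v : ℤ) * sqf v i) = true := by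
      rw [show (fun i => r i - (μ v : ℤ) * sqf v i) = value μ L from funext fun i => (hr' i).symm]
      exact key L fun w hw => (hb' w hw).1
    have hd := hok
    simp only [ok, decide_eq_true_eq] at hd
    have hm : μ v < 5 := by
      rcases (hb v List.mem_cons_self).2 with e | e | e | e
      · have := hd.1; rw [e] at this; omega
      · have := hd.2.1; rw [e] at this; omega
      · have := hd.2.2.1; rw [e] at this; omega
      · have := hd.2.2.2.1; rw [e] at this; omega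
    simp only [search, List.map_cons, List.mem_flatMap, List.mem_range]
    refine ⟨μ v, hm, ?_⟩
    rw [if_pos hok, List.mem_map]
    have hnn : ∀ z : ℤ, 0 ≤ (μ v : ℤ) * (z * z) := fun z =>
      mul_nonneg (Int.natCast_nonneg _) (mul_self_nonneg z)
    refine ⟨L.map μ, ih _ hb' hr' ?_ ?_ ?_ ?_, rfl⟩
    · show r 0 - (μ v : ℤ) * (v.1 * v.1) ≤ 4
      linarith [hnn v.1]
    · show r 1 - (μ v : ℤ) * (v.2.1 * v.2.1) ≤ 4
      linarith [hnn v.2.1]
    · show r 2 - (μ v : ℤ) * (v.2.2.1 * v.2.2.1) ≤ 4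
      linarith [hnn v.2.2.1]
    · show r 3 - (μ v : ℤ) * (v.2.2.2 * v.2.2.2) ≤ 4
      linarith [hnn v.2.2.2]

/-- The classification: a family of admissible vectors with the target Gram matrix has exactly one
member of each standard type up to sign and no others. -/
theorem classify {ι : Type*} [Fintype ι] [DecidableEq ι] (v : ι → Vec)
    (hb : ∀ i k, |(v i).get k| ≤ 1) (hs : ∀ i, (v i).total ≠ 0 ∧ (v i).total ≠ 3 ∧ (v i).total ≠ -3)
    (hsum : ∀ k, ∑ i, sqf (v i) k = target k) :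
    ∃ (e : Fin 8 ≃ ι) (ε : Fin 8 → ℤ), ∀ j, (ε j = 1 ∨ ε j = -1) ∧
      ∀ k, (v (e j)).get k = ε j * (std[(j : ℕ)]!).get k := by
  classical
  let sg : ι → ℤ := fun i => if 0 < (v i).total then 1 else -1
  let w : ι → Vec := fun i => (sg i * (v i).1, sg i * (v i).2.1, sg i * (v i).2.2.1, sg i * (v i).2.2.2)
  have hsg : ∀ i, sg i = 1 ∨ sg i = -1 := fun i => by simp only [sg]; split <;> simp
  have hw : ∀ i, w i ∈ types := by
    intro i
    have b0 := abs_le.mp (hb i 0); have b1 := abs_le.mp (hb i 1)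
    have b2 := abs_le.mp (hb i 2); have b3 := abs_le.mp (hb i 3)
    simp only [Vec.get] at b0 b1 b2 b3
    have ht := hs i
    simp only [Vec.total] at ht
    have hwt : (w i).1 + (w i).2.1 + (w i).2.2.1 + (w i).2.2.2 = 1 ∨
        (w i).1 + (w i).2.1 + (w i).2.2.1 + (w i).2.2.2 = 2 ∨
        (w i).1 + (w i).2.1 + (w i).2.2.1 + (w i).2.2.2 = 4 := by
      by_cases hpos : 0 < (v i).total
      · have e : sg i = 1 := if_pos hpos
        simp only [Vec.total] at hpos
        simp only [w, e]; omega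
      · have e : sg i = -1 := if_neg hpos
        simp only [Vec.total] at hpos
        simp only [w, e]; omega
    have conv : ∀ x : ℤ, -1 ≤ x → x ≤ 1 → ∃ a : Fin 3, x = ((a : ℕ) : ℤ) - 1 := fun x h h' =>
      ⟨⟨(x + 1).toNat, by omega⟩, by show x = (((x + 1).toNat : ℕ) : ℤ) - 1; omega⟩
    have hbd : ∀ x : ℤ, -1 ≤ x → x ≤ 1 → -1 ≤ sg i * x ∧ sg i * x ≤ 1 := fun x h h' => by
      rcases hsg i with e | e <;> rw [e] <;> omega
    obtain ⟨a, ha⟩ := conv _ (hbd _ b0.1 b0.2).1 (hbd _ b0.1 b0.2).2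
    obtain ⟨b, hb'⟩ := conv _ (hbd _ b1.1 b1.2).1 (hbd _ b1.1 b1.2).2
    obtain ⟨c, hc⟩ := conv _ (hbd _ b2.1 b2.2).1 (hbd _ b2.1 b2.2).2
    obtain ⟨d, hd⟩ := conv _ (hbd _ b3.1 b3.2).1 (hbd _ b3.1 b3.2).2
    have e : w i = (((a : ℕ) : ℤ) - 1, ((b : ℕ) : ℤ) - 1, ((c : ℕ) : ℤ) - 1, ((d : ℕ) : ℤ) - 1) := by
      simp only [w, ha, hb', hc, hd]
    rw [e] at hwt ⊢
    exact mem_types a b c d hwt
  have hwsq : ∀ i k, sqf (w i) k = sqf (v i) k := by
    intro i k
    have h1 : sg i * sg i = 1 := by rcases hsg i with e | e <;> rw [e] <;> norm_num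
    have : ∀ x y : ℤ, sg i * x * (sg i * y) = x * y := fun x y => by
      rw [mul_mul_mul_comm, h1, one_mul]
    fin_cases k <;> simp only [sqf, w] <;> exact this _ _
  let μ : Vec → ℕ := fun t => (Finset.univ.filter fun i => w i = t).card
  have hval : ∀ k, value μ types k = target k := by
    intro k
    rw [← hsum k, value, ← List.sum_toFinset _ types_nodup]
    calc ∑ t ∈ types.toFinset, (μ t : ℤ) * sqf t k
        = ∑ t ∈ types.toFinset, ∑ i ∈ Finset.univ.filter (fun i => w i = t), sqf (w i) k := by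
          refine Finset.sum_congr rfl fun t _ => ?_
          rw [Finset.sum_congr rfl (g := fun _ => sqf t k) fun i hi => by rw [(Finset.mem_filter.mp hi).2],
            Finset.sum_const, nsmul_eq_mul]
      _ = ∑ i, sqf (w i) k :=
          Finset.sum_fiberwise_of_maps_to (fun i _ => List.mem_toFinset.mpr (hw i)) _
      _ = _ := Finset.sum_congr rfl fun i _ => hwsq i k
  have hmem := sound μ types target types_bound hval (by decide) (by decide) (by decide) (by decide)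
  rw [search_types, List.mem_singleton] at hmem
  have hμ : ∀ t ∈ types, μ t = if t ∈ std then 1 else 0 := List.map_inj_left.mp hmem
  have hex : ∀ j : Fin 8, ∃! i, w i = std[(j : ℕ)]! := by
    intro j
    have hj : (std[(j : ℕ)]!) ∈ types ∧ (std[(j : ℕ)]!) ∈ std := by revert j; decide +kernel
    have h1 := hμ _ hj.1
    rw [if_pos hj.2, Finset.card_eq_one] at h1
    obtain ⟨i, hi⟩ := h1
    exact ⟨i, (Finset.mem_filter.mp (show i ∈ Finset.univ.filter (fun i => w i = std[(j : ℕ)]!) by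
      rw [hi]; exact Finset.mem_singleton_self i)).2, fun i' hi' =>
      Finset.mem_singleton.mp (by rw [← hi]; exact Finset.mem_filter.mpr ⟨Finset.mem_univ _, hi'⟩)⟩
  choose f hf huniq using hex
  have hbij : Function.Bijective f := by
    constructor
    · intro j j' e
      have := (hf j).symm.trans ((congrArg w e).trans (hf j'))
      exact (show ∀ j j' : Fin 8, std[(j : ℕ)]! = std[(j' : ℕ)]! → j = j' by decide +kernel) j j' this
    · intro i
      have h1 := hμ _ (hw i)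
      have hpos : 0 < μ (w i) := Finset.card_pos.mpr ⟨i, by simp⟩
      have hstd : w i ∈ std := by
        by_contra hn; rw [if_neg hn] at h1; omega
      obtain ⟨n, hn, he⟩ := List.getElem_of_mem hstd
      have hn8 : n < 8 := hn
      refine ⟨⟨n, hn8⟩, (huniq ⟨n, hn8⟩ i ?_).symm⟩
      show w i = std[n]!
      exact he.symm.trans (getElem!_pos std n hn).symm
  refine ⟨Equiv.ofBijective f hbij, fun j => sg (f j), fun j => ⟨hsg _, fun k => ?_⟩⟩
  have e := hf j
  have h1 : sg (f j) * sg (f j) = 1 := by rcases hsg (f j) with e | e <;> rw [e] <;> norm_num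
  rw [← e]
  show (v (f j)).get k = sg (f j) * (w (f j)).get k
  have hget : ∀ (z : Vec), Vec.get ((sg (f j)) * z.1, sg (f j) * z.2.1, sg (f j) * z.2.2.1, sg (f j) * z.2.2.2) k =
      sg (f j) * z.get k := by intro z; fin_cases k <;> rfl
  show (v (f j)).get k = sg (f j) * Vec.get ((sg (f j)) * (v (f j)).1, sg (f j) * (v (f j)).2.1,
    sg (f j) * (v (f j)).2.2.1, sg (f j) * (v (f j)).2.2.2) k
  rw [hget, ← mul_assoc, h1, one_mul]

end CfsgLib.NineTI.Gram
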