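import Mathlib

/-!
Plane quadratic forms attached to four-term relations, and the resulting degree computation.
-/

set_option autoImplicit false

namespace CfsgLib.NineTI

/-- The bilinear form of a four term relation `Σ x²/L - (Σ x)²/(ΣL)`. -/
def form (L1 L2 R x1 x2 x y1 y2 y : ℚ) : ℚ :=
  x1 * y1 / L1 + x2 * y2 / L2 + x * y / R - (x1 + x2 + x) * (y1 + y2 + y) / (L1 + L2 + R)

theorem form_eq {L1 L2 R : ℚ} (h1 : L1 ≠ 0) (h2 : L2 ≠ 0) (hR : R ≠ 0) (hQ : L1 + L2 + R ≠ 0)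
    (x1 x2 x y1 y2 y : ℚ) :
    form L1 L2 R x1 x2 x y1 y2 y * (L1 * L2 * (L1 + L2 + R) * R ^ 2) =
      L2 * (L2 + R) * (R * x1 - L1 * x) * (R * y1 - L1 * y)
      + L1 * (L1 + R) * (R * x2 - L2 * x) * (R * y2 - L2 * y)
      - L1 * L2 * ((R * x1 - L1 * x) * (R * y2 - L2 * y) + (R * x2 - L2 * x) * (R * y1 - L1 * y)) := by
  unfold form
  field_simp
  ring

/-- Completeness relations of an orthogonal basis. -/
theorem plane {L1 L2 R α β p1 p2 p v1 v2 v : ℚ} (h1 : L1 ≠ 0) (h2 : L2 ≠ 0) (hR : R ≠ 0)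
    (hQ : L1 + L2 + R ≠ 0)
    (hpp : form L1 L2 R p1 p2 p p1 p2 p = α) (hvv : form L1 L2 R v1 v2 v v1 v2 v = β)
    (hpv : form L1 L2 R p1 p2 p v1 v2 v = 0) :
    β * (R * p1 - L1 * p) ^ 2 + α * (R * v1 - L1 * v) ^ 2 = α * β * R * L1 * (R + L1) ∧
    β * (R * p1 - L1 * p) * (R * p2 - L2 * p) + α * (R * v1 - L1 * v) * (R * v2 - L2 * v) =
      α * β * R * L1 * L2 ∧
    β * (R * p2 - L2 * p) ^ 2 + α * (R * v2 - L2 * v) ^ 2 = α * β * R * L2 * (R + L2) := by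
  have e1 := form_eq h1 h2 hR hQ p1 p2 p p1 p2 p
  have e2 := form_eq h1 h2 hR hQ v1 v2 v v1 v2 v
  have e3 := form_eq h1 h2 hR hQ p1 p2 p v1 v2 v
  rw [hpp] at e1; rw [hvv] at e2; rw [hpv, zero_mul] at e3
  set P1 := R * p1 - L1 * p
  set P2 := R * p2 - L2 * p
  set V1 := R * v1 - L1 * v
  set V2 := R * v2 - L2 * v
  set E := L1 * L2 * (L1 + L2 + R) * R ^ 2 with hE
  set a := L2 * (L2 + R)
  set b := -(L1 * L2)
  set c := L1 * (L1 + R)
  set D := P1 * V2 - P2 * V1 with hD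
  have hEne : E ≠ 0 := by
    simp only [hE]
    exact mul_ne_zero (mul_ne_zero (mul_ne_zero h1 h2) hQ) (pow_ne_zero 2 hR)
  have hdet : a * c - b ^ 2 = L1 * L2 * R * (L1 + L2 + R) := by simp only [a, b, c]; ring
  have hdne : L1 * L2 * R * (L1 + L2 + R) ≠ 0 :=
    mul_ne_zero (mul_ne_zero (mul_ne_zero h1 h2) hR) hQ
  have e1' : α * E = a * P1 * P1 + c * P2 * P2 + 2 * b * P1 * P2 := by rw [e1]; simp only [a, b, c]; ring
  have e2' : β * E = a * V1 * V1 + c * V2 * V2 + 2 * b * V1 * V2 := by rw [e2]; simp only [a, b, c]; ring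
  have e3' : 0 = a * P1 * V1 + c * P2 * V2 + b * (P1 * V2 + P2 * V1) := by
    rw [e3]; simp only [a, b, c]; ring
  have hsq : (a * c - b ^ 2) * D ^ 2 = α * β * E ^ 2 := by
    have : (α * E) * (β * E) = α * β * E ^ 2 := by ring
    rw [← this, e1', e2', hD]
    linear_combination (a * P1 * V1 + c * P2 * V2 + b * (P1 * V2 + P2 * V1)) * e3'
  have k11 : β * E * P1 ^ 2 + α * E * V1 ^ 2 = c * D ^ 2 := by
    rw [e1', e2', hD]; linear_combination 2 * P1 * V1 * e3'.symm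
  have k12 : β * E * P1 * P2 + α * E * V1 * V2 = -b * D ^ 2 := by
    rw [e1', e2', hD]; linear_combination (P1 * V2 + P2 * V1) * e3'.symm
  have k22 : β * E * P2 ^ 2 + α * E * V2 ^ 2 = a * D ^ 2 := by
    rw [e1', e2', hD]; linear_combination 2 * P2 * V2 * e3'.symm
  rw [hdet] at hsq
  have hD2 : D ^ 2 = α * β * L1 * L2 * (L1 + L2 + R) * R ^ 3 := by
    apply mul_left_cancel₀ hdne
    rw [hsq]; simp only [hE]; ring
  rw [hD2] at k11 k12 k22
  refine ⟨mul_left_cancel₀ hEne ?_, mul_left_cancel₀ hEne ?_, mul_left_cancel₀ hEne ?_⟩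
  · linear_combination k11
  · linear_combination k12
  · linear_combination k22

/-- The degree computation. -/
theorem linear_of_forms {l2 l3 l4 r p2 p3 p4 p q2 q3 q4 q : ℤ} {γ : ℚ}
    (h2 : l2 ≠ 0) (h3 : l3 % 3 = 1) (h4 : l4 % 3 = 1) (hr : r % 9 = 2)
    (hp3 : 3 ∣ p3) (hp4 : 3 ∣ p4) (hp : p % 9 = 6) (hq : q % 9 = 6) (hγ : γ ≠ 0)
    (hA : 1 + l2 + r ≠ 0) (hB : l3 + l4 + r ≠ 0) (hC : 1 + l3 + r ≠ 0) (hD : l2 + l4 + r ≠ 0)
    (Aaa : form 1 l2 r 0 p2 p 0 p2 p = γ / 2)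
    (Aaz : form 1 l2 r 0 p2 p 0 q2 q = 3 / 2 * γ)
    (Azz : form 1 l2 r 0 q2 q 0 q2 q = 11 / 2 * γ)
    (Baa : form l3 l4 r p3 p4 p p3 p4 p = γ / 2)
    (Baz : form l3 l4 r p3 p4 p q3 q4 q = -(3 / 2) * γ)
    (Bzz : form l3 l4 r q3 q4 q q3 q4 q = 11 / 2 * γ)
    (Caa : form 1 l3 r 0 p3 p 0 p3 p = γ)
    (Caz : form 1 l3 r 0 p3 p 0 q3 q = 0)
    (Czz : form 1 l3 r 0 q3 q 0 q3 q = 8 * γ)
    (Daa : form l2 l4 r p2 p4 p p2 p4 p = γ)
    (Daz : form l2 l4 r p2 p4 p q2 q4 q = 0)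
    (Dzz : form l2 l4 r q2 q4 q q2 q4 q = 2 * γ) : l4 = 1 := by
  have n3 : (l3 : ℚ) ≠ 0 := Int.cast_ne_zero.mpr (by omega)
  have n4 : (l4 : ℚ) ≠ 0 := Int.cast_ne_zero.mpr (by omega)
  have n2 : (l2 : ℚ) ≠ 0 := Int.cast_ne_zero.mpr h2
  have nr : (r : ℚ) ≠ 0 := Int.cast_ne_zero.mpr (by omega)
  have nr1 : (r : ℚ) + 1 ≠ 0 := by exact_mod_cast (show r + 1 ≠ 0 by omega)
  have np : (p : ℚ) ≠ 0 := Int.cast_ne_zero.mpr (by omega)
  have nA : (1 : ℚ) + l2 + r ≠ 0 := by exact_mod_cast hA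
  have nB : (l3 : ℚ) + l4 + r ≠ 0 := by exact_mod_cast hB
  have nC : (1 : ℚ) + l3 + r ≠ 0 := by exact_mod_cast hC
  have nD : (l2 : ℚ) + l4 + r ≠ 0 := by exact_mod_cast hD
  have bilin : ∀ L1 L2 R x1 x2 x y1 y2 y k : ℚ,
      form L1 L2 R x1 x2 x (y1 + k * x1) (y2 + k * x2) (y + k * x) =
        form L1 L2 R x1 x2 x y1 y2 y + k * form L1 L2 R x1 x2 x x1 x2 x ∧
      form L1 L2 R (y1 + k * x1) (y2 + k * x2) (y + k * x) (y1 + k * x1) (y2 + k * x2) (y + k * x) =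
        form L1 L2 R y1 y2 y y1 y2 y + 2 * k * form L1 L2 R x1 x2 x y1 y2 y
          + k ^ 2 * form L1 L2 R x1 x2 x x1 x2 x := by
    intros; unfold form; constructor <;> ring
  have A := plane (one_ne_zero) n2 nr nA Aaa
    (v1 := 0 + (-3) * 0) (v2 := q2 + (-3) * p2) (v := q + (-3) * p) (β := γ)
    (by rw [(bilin _ _ _ _ _ _ _ _ _ _).2, Aaa, Aaz, Azz]; ring)
    (by rw [(bilin _ _ _ _ _ _ _ _ _ _).1, Aaa, Aaz]; ring)
  have B := plane n3 n4 nr nB Baa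
    (v1 := q3 + 3 * p3) (v2 := q4 + 3 * p4) (v := q + 3 * p) (β := γ)
    (by rw [(bilin _ _ _ _ _ _ _ _ _ _).2, Baa, Baz, Bzz]; ring)
    (by rw [(bilin _ _ _ _ _ _ _ _ _ _).1, Baa, Baz]; ring)
  have C := plane one_ne_zero n3 nr nC Caa Czz Caz
  have D := plane n2 n4 nr nD Daa Dzz Daz
  obtain ⟨a11, -, -⟩ := A
  obtain ⟨b11, b12, b22⟩ := B
  obtain ⟨c11, c12, c22⟩ := C
  obtain ⟨-, -, d22⟩ := D
  clear Aaa Aaz Azz Baa Baz Bzz Caa Caz Czz Daa Daz Dzz bilin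
  -- the ratio of the two values at the doubled character
  have hrr : 2 * (p : ℚ) ^ 2 + (q - 3 * p) ^ 2 = γ * (r * (r + 1)) := by
    apply mul_left_cancel₀ hγ; linear_combination 2 * a11
  have hrr' : 8 * (p : ℚ) ^ 2 + q ^ 2 = 8 * γ * (r * (r + 1)) := by
    apply mul_left_cancel₀ hγ; linear_combination c11
  have hq4 : (q : ℚ) = 4 * p := by
    have e : ((q : ℚ) - 4 * p) * (7 * q - 20 * p) = 0 := by linear_combination 8 * hrr - hrr'
    rcases mul_eq_zero.mp e with e | e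
    · linarith
    · have : 7 * q - 20 * p = 0 := by exact_mod_cast e
      omega
  have hp2 : 3 * (p : ℚ) ^ 2 = γ * (r * (r + 1)) := by rw [hq4] at hrr; linear_combination hrr
  obtain ⟨u, hu⟩ : ∃ u : ℚ, u = l3 * p / (r + 1) := ⟨_, rfl⟩
  have hu' : u * (r + 1) = l3 * p := by rw [hu]; field_simp
  have nu : u ≠ 0 := by rw [hu]; exact div_ne_zero (mul_ne_zero n3 np) nr1
  obtain ⟨x, hx⟩ : ∃ x : ℚ, x = ((r : ℚ) * p3 - l3 * p) / u := ⟨_, rfl⟩
  obtain ⟨x', hx'⟩ : ∃ x : ℚ, x = ((r : ℚ) * q3 - l3 * q) / u := ⟨_, rfl⟩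
  have ex : (r : ℚ) * p3 - l3 * p = x * u := by rw [hx]; field_simp
  have ex' : (r : ℚ) * q3 - l3 * q = x' * u := by rw [hx']; field_simp
  have hγ' : γ * r = 3 * (p : ℚ) ^ 2 / (r + 1) := by rw [hp2]; field_simp
  have hlin : x' = -6 - 2 * x := by
    have e : ((x' + 2 * x + 6) * (p * u)) * (4 * γ) = 0 := by
      rw [hq4] at ex' c12
      have hgu : 6 * (p : ℚ) * u = 2 * γ * r * l3 := by
        calc 6 * (p : ℚ) * u = 2 * (3 * (p : ℚ) ^ 2 / (r + 1)) * l3 := by rw [hu]; field_simp; ring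
          _ = _ := by rw [← hγ']; ring
      linear_combination (-1 : ℚ) * c12 - 4 * γ * p * ex' - 8 * γ * p * ex + 4 * γ * hgu
    rcases mul_eq_zero.mp e with e | e
    · rcases mul_eq_zero.mp e with e | e
      · linarith
      · exact absurd e (mul_ne_zero np nu)
    · exact absurd e (mul_ne_zero four_ne_zero hγ)
  obtain ⟨T, hT⟩ : ∃ T : ℚ, T = (r + 1) * (r + l3) / l3 := ⟨_, rfl⟩
  have hTu : γ * r * l3 * (r + l3) = 3 * u ^ 2 * T := by rw [hγ', hu, hT]; field_simp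
  have c22' : 8 * x ^ 2 + x' ^ 2 = 24 * T := by
    apply mul_left_cancel₀ (mul_ne_zero hγ (pow_ne_zero 2 nu))
    rw [ex, ex'] at c22
    linear_combination c22 + 8 * γ * hTu
  have b11' : 2 * x ^ 2 + (x' + 3 * x) ^ 2 = 3 * T := by
    apply mul_left_cancel₀ (mul_ne_zero hγ (pow_ne_zero 2 nu))
    rw [show (r : ℚ) * (q3 + 3 * p3) - l3 * (q + 3 * p) = (x' + 3 * x) * u by
      linear_combination ex' + 3 * ex, ex] at b11
    linear_combination 2 * b11 + γ * hTu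
  have hx3 : x = 3 := by
    have e : (x - 3) * (x - 7) = 0 := by
      rw [hlin] at c22' b11'
      linear_combination (1 / 12 : ℚ) * (8 * b11' - c22')
    rcases mul_eq_zero.mp e with e | e
    · linarith
    · exfalso
      have e7 : x = 7 := by linarith
      have : ((r + 1) * (r * p3 - l3 * p) : ℤ) = 7 * l3 * p := by
        have : ((r : ℚ) + 1) * (r * p3 - l3 * p) = 7 * l3 * p := by rw [ex, e7]; linear_combination 7 * hu'
        exact_mod_cast this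
      obtain ⟨k, rfl⟩ := hp3
      obtain ⟨j, hj⟩ : ∃ j, r + 1 = 3 * j := ⟨(r + 1) / 3, by omega⟩
      obtain ⟨i, rfl⟩ : ∃ i, p = 3 * i := ⟨p / 3, by omega⟩
      have h' : 9 * (j * (r * k - l3 * i)) = 3 * (7 * l3 * i) := by
        rw [hj] at this; linear_combination this
      have h'' : (3 : ℤ) ∣ 7 * l3 * i := ⟨j * (r * k - l3 * i), by linarith⟩
      rcases (Int.prime_three).dvd_mul.mp h'' with h | h
      · omega
      · omega
  have hT9 : T = 9 := by rw [hlin, hx3] at b11'; linarith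
  -- the second coordinate
  obtain ⟨η, hη⟩ : ∃ η : ℚ, η = ((r : ℚ) * p4 - l4 * p) / p := ⟨_, rfl⟩
  obtain ⟨θ, hθ⟩ : ∃ θ : ℚ, θ = ((r : ℚ) * q4 - l4 * q) / p := ⟨_, rfl⟩
  have eη : (r : ℚ) * p4 - l4 * p = η * p := by rw [hη]; field_simp
  have eθ : (r : ℚ) * q4 - l4 * q = θ * p := by rw [hθ]; field_simp
  have eB : (r : ℚ) * (q4 + 3 * p4) - l4 * (q + 3 * p) = (θ + 3 * η) * p := by
    linear_combination eθ + 3 * eη
  rw [eB, eη, ex, hx3, show (r : ℚ) * (q3 + 3 * p3) - l3 * (q + 3 * p) = (x' + 3 * x) * u by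
    linear_combination ex' + 3 * ex, hlin, hx3] at b12
  rw [eB, eη] at b22
  rw [eη, eθ] at d22
  have hcross : θ = -η - l4 := by
    have e : ((θ + η + l4) * (p * u)) * γ = 0 := by
      have hgu : 3 * (p : ℚ) * u = γ * r * l3 := by rw [hγ', hu]; field_simp
      linear_combination (-(2 / 3) : ℚ) * b12 + (γ * l4 / 3) * hgu
    rcases mul_eq_zero.mp e with e | e
    · rcases mul_eq_zero.mp e with e | e
      · linarith
      · exact absurd e (mul_ne_zero np nu)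
    · exact absurd e hγ
  have hR : γ * r * l4 * (r + l4) * (r + 1) = 3 * (p : ℚ) ^ 2 * l4 * (r + l4) := by
    rw [hγ']; field_simp
  have bb : (2 * η ^ 2 + (θ + 3 * η) ^ 2) * (r + 1) = 3 * l4 * (r + l4) := by
    apply mul_left_cancel₀ (mul_ne_zero hγ (pow_ne_zero 2 np))
    linear_combination 2 * (r + 1) * b22 + γ * hR
  have dd : (2 * η ^ 2 + θ ^ 2) * (r + 1) = 6 * l4 * (r + l4) := by
    apply mul_left_cancel₀ (mul_ne_zero hγ (pow_ne_zero 2 np))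
    linear_combination (r + 1) * d22 + 2 * γ * hR
  have hη4 : η = l4 := by
    have e : (η - l4) * (9 * η - l4) = 0 := by
      apply mul_left_cancel₀ nr1
      rw [hcross] at bb dd
      linear_combination 2 * bb - dd
    rcases mul_eq_zero.mp e with e | e
    · linarith
    · exfalso
      have : (9 * (r * p4 - l4 * p) : ℤ) = l4 * p := by
        have : (9 : ℚ) * (r * p4 - l4 * p) = l4 * p := by rw [eη]; linear_combination (p : ℚ) * e
        exact_mod_cast this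
      have h9 : (9 : ℤ) ∣ l4 * p := ⟨r * p4 - l4 * p, this.symm⟩
      obtain ⟨i, rfl⟩ : ∃ i, p = 3 * i := ⟨p / 3, by omega⟩
      obtain ⟨k, hk⟩ := h9
      have : (3 : ℤ) ∣ l4 * i := ⟨k, by linarith⟩
      rcases (Int.prime_three).dvd_mul.mp this with h | h <;> omega
  have e : (l4 : ℚ) * r * (l4 - 1) = 0 := by
    rw [hcross, hη4] at bb
    linear_combination (1 / 3 : ℚ) * bb
  rcases mul_eq_zero.mp e with e | e
  · exact absurd e (mul_ne_zero n4 nr)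
  · exact_mod_cast (by linarith : (l4 : ℚ) = 1)

end CfsgLib.NineTI
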