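import Cfsg.Agent.Lib.NineTI.DihedralSetup
import Cfsg.Agent.Lib.NineTI.PlaneForm
import Cfsg.Agent.Lib.NineTI.GramSearch
import Cfsg.Agent.Lib.NineTI.FreeSum
import Cfsg.Agent.Lib.Char.TI

/-!
A dihedral automizer of order eight forces a nontrivial linear character.
-/

set_option autoImplicit false
set_option maxRecDepth 10000

namespace CfsgLib.NineTI

open Cfsg CfsgLib.Char D8
open scoped ComplexConjugate

universe u

variable {G : Type u} [Group G] [Finite G] {M : Subgroup G}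

/-- Data of a dihedral automizer. -/
structure DData (M : Subgroup G) where
  hyp : Hyp M
  ψ : K ≃* Subgroup.normalizer (M : Set G)
  mem_M : ∀ k : K, (ψ k : G) ∈ M ↔ k.t = 1

namespace DData

variable (D : DData M)

/-- The embedding of the model. -/
def em : K →* G := (Subgroup.normalizer (M : Set G)).subtype.comp D.ψ.toMonoidHom

theorem em_injective : Function.Injective D.em :=
  (Subgroup.normalizer (M : Set G)).subtype_injective.comp D.ψ.injective

theorem em_mem (k : K) : D.em k ∈ Subgroup.normalizer (M : Set G) := (D.ψ k).2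

theorem exists_em {g : G} (hg : g ∈ Subgroup.normalizer (M : Set G)) : ∃ k, D.em k = g :=
  ⟨D.ψ.symm ⟨g, hg⟩, congrArg Subtype.val (D.ψ.apply_symm_apply ⟨g, hg⟩)⟩

/-- Exchange axes and diagonals. -/
noncomputable def flip : DData M where
  hyp := D.hyp
  ψ := phi.trans D.ψ
  mem_M k := by
    show (D.ψ (phi k) : G) ∈ M ↔ _
    rw [D.mem_M, phi_apply]
    exact (show ∀ k : K, (phiFun k).t = 1 ↔ k.t = 1 by decide +kernel) k

/-- The distinguished involutions. -/
def a : G := D.em ⟨0, .sr 0⟩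

/-- The central involution. -/
def z : G := D.em ⟨0, .r 2⟩

/-- The diagonal reflection. -/
def c : G := D.em ⟨0, .sr 3⟩

theorem not_conj_ac : ¬ IsConj D.a D.c := by
  have hx : D.em ⟨(1, 0), 1⟩ ∈ M := (D.mem_M _).mpr rfl
  have hd : D.em ⟨(1, 1), 1⟩ ∈ M := (D.mem_M _).mpr rfl
  refine not_isConj_of_axes D.hyp hx hd ?_ ?_ ?_ ?_ ?_ ?_
  · exact fun e => absurd (D.em_injective (e.trans (map_one D.em).symm)) (by decide +kernel)
  · exact fun e => absurd (D.em_injective (e.trans (map_one D.em).symm)) (by decide +kernel)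
  · show D.em _ * D.em _ = D.em _ * D.em _
    rw [← map_mul, ← map_mul]; exact congrArg D.em (by decide +kernel)
  · show D.em _ * D.em _ = D.em _ * D.em _
    rw [← map_mul, ← map_mul]; exact congrArg D.em (by decide +kernel)
  · intro m hm hcm
    obtain ⟨k, rfl⟩ := D.exists_em (Subgroup.le_normalizer hm)
    have hk := (D.mem_M k).mp hm
    have e : (⟨0, .sr 3⟩ : K) * k = k * ⟨0, .sr 3⟩ :=
      D.em_injective (by rw [map_mul, map_mul]; exact hcm)
    obtain ⟨i, rfl⟩ := (show ∀ k : K, k.t = 1 → (⟨0, .sr 3⟩ : K) * k = k * ⟨0, .sr 3⟩ →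
      ∃ i : Fin 3, k = (⟨(1, 1), 1⟩ : K) ^ (i : ℕ) by decide +kernel) k hk e
    rw [map_pow]
    exact Subgroup.npow_mem_zpowers _ _
  · intro n hn
    obtain ⟨k, rfl⟩ := D.exists_em hn
    rw [← map_inv, ← map_mul, ← map_mul]
    rintro ⟨i, hi⟩
    have h3 : D.em ⟨(1, 1), 1⟩ ^ (3 : ℤ) = 1 := by exact_mod_cast D.hyp.cube _ hd
    obtain ⟨q, hq⟩ : ∃ q, i = 3 * q + (i % 3).toNat := ⟨i / 3, by omega⟩
    simp only at hi
    rw [hq, zpow_add, zpow_mul, h3, one_zpow, one_mul, zpow_natCast, ← map_pow] at hi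
    exact (show ∀ k : K, ∀ j : Fin 3, (⟨(1, 1), 1⟩ : K) ^ (j : ℕ) ≠ k * ⟨(1, 0), 1⟩ * k⁻¹ by
      decide +kernel) k ⟨(i % 3).toNat, by omega⟩ (D.em_injective hi)

variable [Fintype G]

/-- Conjugates of `a`. -/
noncomputable def SA : Finset G := by
  classical exact Finset.univ.filter fun g => IsConj D.a g

/-- Conjugates of `z` or `c`. -/
noncomputable def SZ : Finset G := by
  classical exact Finset.univ.filter fun g => IsConj D.z g ∨ IsConj D.c g

theorem mem_SA {g : G} : g ∈ D.SA ↔ IsConj D.a g := by simp [SA]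

theorem mem_SZ {g : G} : g ∈ D.SZ ↔ IsConj D.z g ∨ IsConj D.c g := by simp [SZ]

theorem sq_SA {g : G} (hg : IsConj D.a g) : g * g = 1 := by
  obtain ⟨h, rfl⟩ := isConj_iff.mp hg
  rw [show h * D.a * h⁻¹ * (h * D.a * h⁻¹) = h * (D.a * D.a) * h⁻¹ by group,
    show D.a * D.a = 1 by
      show D.em _ * D.em _ = 1
      rw [← map_mul, ← map_one D.em]; exact congrArg D.em (by decide +kernel),
    mul_one, mul_inv_cancel]

theorem sq_SZ {g : G} (hg : IsConj D.z g ∨ IsConj D.c g) : g * g = 1 := by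
  have key : ∀ t : G, t * t = 1 → IsConj t g → g * g = 1 := fun t ht hc => by
    obtain ⟨h, rfl⟩ := isConj_iff.mp hc
    rw [show h * t * h⁻¹ * (h * t * h⁻¹) = h * (t * t) * h⁻¹ by group, ht, mul_one, mul_inv_cancel]
  rcases hg with hg | hg
  · refine key _ ?_ hg
    show D.em _ * D.em _ = 1
    rw [← map_mul, ← map_one D.em]; exact congrArg D.em (by decide +kernel)
  · refine key _ ?_ hg
    show D.em _ * D.em _ = 1
    rw [← map_mul, ← map_one D.em]; exact congrArg D.em (by decide +kernel)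

theorem em_mem_SA (hza : ¬ IsConj D.a D.z) (k : K) : D.em k ∈ D.SA ↔ isA k := by
  rw [mem_SA]
  constructor
  · intro hk
    have h2 : k * k = 1 := D.em_injective (by rw [map_mul, D.sq_SA hk, map_one])
    rcases sq_eq_one_cases k h2 with rfl | h | h
    · exfalso
      rw [map_one] at hk
      have e := isConj_one_left.mp hk
      exact absurd (D.em_injective (e.trans (map_one D.em).symm)) (by decide +kernel)
    · exact h
    · exfalso
      obtain ⟨g, hg | hg⟩ := isZ_conj k h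
      · exact hza (hk.trans (D.em.map_isConj (isConj_iff.mpr ⟨g, hg⟩)).symm)
      · exact D.not_conj_ac (hk.trans (D.em.map_isConj (isConj_iff.mpr ⟨g, hg⟩)).symm)
  · intro hk
    obtain ⟨g, hg⟩ := isA_conj k hk
    exact D.em.map_isConj (isConj_iff.mpr ⟨g, hg⟩)

theorem em_mem_SZ (hza : ¬ IsConj D.a D.z) (k : K) : D.em k ∈ D.SZ ↔ isZ k := by
  rw [mem_SZ]
  constructor
  · intro hk
    have h2 : k * k = 1 := D.em_injective (by rw [map_mul, D.sq_SZ hk, map_one])
    rcases sq_eq_one_cases k h2 with rfl | h | h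
    · exfalso
      rw [map_one] at hk
      rcases hk with hk | hk <;>
        exact absurd (D.em_injective ((isConj_one_left.mp hk).trans (map_one D.em).symm))
          (by decide +kernel)
    · exfalso
      obtain ⟨g, hg⟩ := isA_conj k h
      have hak : IsConj D.a (D.em k) := D.em.map_isConj (isConj_iff.mpr ⟨g, hg⟩)
      rcases hk with hk | hk
      · exact hza (hak.trans hk.symm)
      · exact D.not_conj_ac (hak.trans hk.symm)
    · exact h
  · intro hk
    obtain ⟨g, hg | hg⟩ := isZ_conj k hk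
    · exact Or.inl (D.em.map_isConj (isConj_iff.mpr ⟨g, hg⟩))
    · exact Or.inr (D.em.map_isConj (isConj_iff.mpr ⟨g, hg⟩))

include D in
/-- Elements of order three centralizing a nontrivial element of `M` lie in `M`. -/
theorem mem_of_cube {u m : G} (hu : u ^ 3 = 1) (hm : m ∈ M) (hm1 : m ≠ 1) (hc : u * m = m * u) :
    u ∈ M := by
  have hN := D.hyp.loc m hm hm1 (Subgroup.mem_centralizer_singleton_iff.mpr hc)
  exact D.hyp.le_of_pgroup (Q := Subgroup.zpowers u) (fun ⟨q, hq⟩ => ⟨1, by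
    obtain ⟨i, rfl⟩ := hq
    refine Subtype.ext ?_
    show (u ^ i) ^ (3 ^ 1 : ℕ) = 1
    rw [pow_one, ← zpow_natCast, ← zpow_mul, mul_comm, zpow_mul, zpow_natCast, hu, one_zpow]⟩)
    (Subgroup.zpowers_le.mpr hN) (Subgroup.mem_zpowers u)

/-- The lifted virtual character. -/
noncomputable def f (i : Fin 4) (n : Subgroup.normalizer (M : Set G)) : ℂ := (F i (D.ψ.symm n) : ℂ)

theorem isGeneralized_f (i : Fin 4) :
    IsGeneralizedCharacter (Subgroup.normalizer (M : Set G)) (D.f i) :=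
  isGeneralized_comp D.ψ.symm.toMonoidHom (isGeneralized_F i)

/-- The set carrying the virtual characters. -/
def supp (_D : DData M) : Set G := {g | g ∈ Subgroup.normalizer (M : Set G) ∧ g * g ≠ 1}

theorem sq_mem {i : Fin 4} {k : K} (h : F i k ≠ 0) : (D.em k * D.em k ∈ M) ∧ D.em k * D.em k ≠ 1 := by
  have hty : ty k ≠ 4 := fun e => h (by unfold F; rw [e]; exact (show ∀ j : Fin 4, tab j 4 = 0 by decide) i)
  obtain ⟨h1, h2⟩ := sq_ty k hty
  rw [← map_mul]
  exact ⟨(D.mem_M _).mpr h1, fun e => h2 (D.em_injective (e.trans (map_one D.em).symm))⟩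

theorem ti : ∀ g : G, g ∉ Subgroup.normalizer (M : Set G) →
    ∀ t ∈ D.supp, g * t * g⁻¹ ∈ D.supp → g * t * g⁻¹ * (g * t * g⁻¹) ∈ M → t * t ∈ M → t = 1 := by
  intro g hg t ht _ h' h
  refine absurd (D.hyp.conj_eq h ht.2 ?_) hg
  rw [show g * (t * t) * g⁻¹ = g * t * g⁻¹ * (g * t * g⁻¹) by group]
  exact h'

/-- The support with squares in `M`. -/
def supp' : Set G := {g | g ∈ D.supp ∧ g * g ∈ M}

theorem ti' : ∀ g : G, g ∉ Subgroup.normalizer (M : Set G) →
    ∀ t ∈ D.supp', g * t * g⁻¹ ∈ D.supp' → t = 1 :=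
  fun g hg t ht ht' => D.ti g hg t ht.1 ht'.1 ht'.2 ht.2

theorem f_supp (i : Fin 4) (n : Subgroup.normalizer (M : Set G)) (hn : (n : G) ∉ D.supp') :
    D.f i n = 0 := by
  by_contra h
  have hne : F i (D.ψ.symm n) ≠ 0 := fun e => h (by unfold f; rw [e, Int.cast_zero])
  have e : D.em (D.ψ.symm n) = n := congrArg Subtype.val (D.ψ.apply_symm_apply n)
  have h2 := D.sq_mem hne
  rw [e] at h2
  exact hn ⟨⟨n.2, h2.2⟩, h2.1⟩

theorem f_one (i : Fin 4) : D.f i 1 = 0 := by
  unfold f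
  rw [map_one, show F i (1 : K) = 0 by revert i; decide +kernel, Int.cast_zero]

theorem sum_f [Fintype (Subgroup.normalizer (M : Set G))]
    (φ : Subgroup.normalizer (M : Set G) → ℂ) :
    ∑ n, φ n = ∑ k : K, φ (D.ψ k) :=
  (Fintype.sum_equiv D.ψ.toEquiv _ _ fun _ => rfl).symm

include D in
theorem card_N : Nat.card (Subgroup.normalizer (M : Set G)) = 72 := by
  rw [← Nat.card_congr D.ψ.toEquiv, Nat.card_eq_fintype_card, card_K]

/-- Values at the representatives. -/
noncomputable def val (χ : G → ℂ) (j : Fin 4) : ℂ := χ (D.em (rep j))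

end DData

/-- Sum of `χ(g) - χ(1)` over a set. -/
noncomputable def psi {G : Type u} [Group G] (S : Finset G) (χ : G → ℂ) : ℂ :=
  ∑ g ∈ S, (χ g - χ 1)

theorem conv_class [Fintype G] [DecidableEq G] (a b n : G) (S T : Finset G)
    (hS : ∀ g, g ∈ S ↔ IsConj a g) (hT : ∀ g, g ∈ T ↔ IsConj b g) :
    ((S.filter fun s => s⁻¹ * n ∈ T).card : ℂ) * (Nat.card G : ℂ) =
      ∑ χ : IrrCharacter G, (∑ s ∈ S, (χ : G → ℂ) s) * (∑ t ∈ T, (χ : G → ℂ) t) *
        conj ((χ : G → ℂ) n) / (χ : G → ℂ) 1 := by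
  classical
  have hcard : ∀ (t : G) (U : Finset G), (∀ g, g ∈ U ↔ IsConj t g) →
      U.card = (Subgroup.centralizer ({t} : Set G)).index := fun t U hU => by
    rw [← card_isConj_eq_index t, Nat.card_eq_fintype_card, Fintype.card_subtype]
    refine congrArg Finset.card (Finset.ext fun g => ?_)
    rw [Finset.mem_filter, hU]
    exact ⟨fun h => ⟨Finset.mem_univ _, h.symm⟩, fun h => h.2.symm⟩
  have hm := class_mult a b n
  have hcount : (Nat.card {p : G × G // IsConj a p.1 ∧ IsConj b p.2 ∧ p.1 * p.2 = n}) =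
      (S.filter fun s => s⁻¹ * n ∈ T).card := by
    rw [← Fintype.card_coe, ← Nat.card_eq_fintype_card]
    refine Nat.card_congr
      ⟨fun p => ⟨p.1.1, Finset.mem_filter.mpr ⟨(hS _).mpr p.2.1, (hT _).mpr ?_⟩⟩,
        fun s => ⟨(s.1, s.1⁻¹ * n), (hS _).mp (Finset.mem_filter.mp s.2).1,
          (hT _).mp (Finset.mem_filter.mp s.2).2, by group⟩, fun p => ?_, fun s => rfl⟩
    · rw [show p.1.1⁻¹ * n = p.1.2 from inv_mul_eq_iff_eq_mul.mpr p.2.2.2.symm]
      exact p.2.2.1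
    · refine Subtype.ext (Prod.ext rfl ?_)
      show p.1.1⁻¹ * n = p.1.2
      exact inv_mul_eq_iff_eq_mul.mpr p.2.2.2.symm
  rw [hcount] at hm
  have hsum : ∀ (t : G) (U : Finset G), (∀ g, g ∈ U ↔ IsConj t g) → ∀ χ : IrrCharacter G,
      ∑ s ∈ U, (χ : G → ℂ) s = ((Subgroup.centralizer ({t} : Set G)).index : ℂ) * (χ : G → ℂ) t := by
    intro t U hU χ
    rw [Finset.sum_congr rfl fun s hs => eq_of_isConj (isClassFunction_irr χ) ((hU s).mp hs).symm,
      Finset.sum_const, nsmul_eq_mul, hcard t U hU]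
  rw [hm]
  simp only [hsum a S hS, hsum b T hT]
  have hG : (Nat.card G : ℂ) ≠ 0 := Nat.cast_ne_zero.mpr Nat.card_pos.ne'
  rw [mul_right_comm, div_mul_cancel₀ _ hG, Finset.mul_sum]
  exact Finset.sum_congr rfl fun χ _ => by ring

/-- The counting identity. -/
def Conv [Fintype G] [DecidableEq G] (n : G) (S T : Finset G) : Prop :=
  ((S.filter fun s => s⁻¹ * n ∈ T).card : ℂ) * (Nat.card G : ℂ) =
    ∑ χ : IrrCharacter G, (∑ s ∈ S, (χ : G → ℂ) s) * (∑ t ∈ T, (χ : G → ℂ) t) *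
      conj ((χ : G → ℂ) n) / (χ : G → ℂ) 1

theorem conv_union_left [Fintype G] [DecidableEq G] {n : G} {S S' T : Finset G} (hd : Disjoint S S')
    (h : Conv n S T) (h' : Conv n S' T) : Conv n (S ∪ S') T := by
  unfold Conv at *
  rw [Finset.filter_union, Finset.card_union_of_disjoint
    (Finset.disjoint_filter_filter hd), Nat.cast_add, add_mul, h, h', ← Finset.sum_add_distrib]
  refine Finset.sum_congr rfl fun χ _ => ?_
  rw [Finset.sum_union hd]; ring

theorem conv_union_right [Fintype G] [DecidableEq G] {n : G} {S T T' : Finset G} (hd : Disjoint T T')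
    (h : Conv n S T) (h' : Conv n S T') : Conv n S (T ∪ T') := by
  unfold Conv at *
  rw [show (S.filter fun s => s⁻¹ * n ∈ T ∪ T') =
      (S.filter fun s => s⁻¹ * n ∈ T) ∪ (S.filter fun s => s⁻¹ * n ∈ T') by
        simp [Finset.filter_or, Finset.mem_union],
    Finset.card_union_of_disjoint (Finset.disjoint_filter.mpr fun s _ h1 h2 =>
      Finset.disjoint_left.mp hd h1 h2), Nat.cast_add, add_mul, h, h', ← Finset.sum_add_distrib]
  refine Finset.sum_congr rfl fun χ _ => ?_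
  rw [Finset.sum_union hd]; ring

namespace DData

variable (D : DData M) [Fintype G]

theorem conv_all [DecidableEq G] (n : G) :
    Conv n D.SA D.SA ∧ Conv n D.SA D.SZ ∧ Conv n D.SZ D.SA ∧ Conv n D.SZ D.SZ := by
  classical
  let Sz : Finset G := Finset.univ.filter fun g => IsConj D.z g
  let Sc : Finset G := Finset.univ.filter fun g => IsConj D.c g
  have hz : ∀ g, g ∈ Sz ↔ IsConj D.z g := fun g => by simp [Sz]
  have hc : ∀ g, g ∈ Sc ↔ IsConj D.c g := fun g => by simp [Sc]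
  have ha : ∀ g, g ∈ D.SA ↔ IsConj D.a g := fun g => D.mem_SA
  by_cases hzc : IsConj D.z D.c
  · have hs : ∀ g, g ∈ D.SZ ↔ IsConj D.z g := fun g =>
      D.mem_SZ.trans ⟨fun h => h.elim id (hzc.trans ·), Or.inl⟩
    exact ⟨conv_class _ _ n _ _ ha ha, conv_class _ _ n _ _ ha hs, conv_class _ _ n _ _ hs ha,
      conv_class _ _ n _ _ hs hs⟩
  · have hd : Disjoint Sz Sc := Finset.disjoint_left.mpr fun g h1 h2 =>
      hzc (((hz g).mp h1).trans ((hc g).mp h2).symm)
    have e : D.SZ = Sz ∪ Sc := Finset.ext fun g => by rw [mem_SZ, Finset.mem_union, hz, hc]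
    rw [e]
    refine ⟨conv_class _ _ n _ _ ha ha,
      conv_union_right hd (conv_class _ _ n _ _ ha hz) (conv_class _ _ n _ _ ha hc),
      conv_union_left hd (conv_class _ _ n _ _ hz ha) (conv_class _ _ n _ _ hc ha), ?_⟩
    exact conv_union_left hd
      (conv_union_right hd (conv_class _ _ n _ _ hz hz) (conv_class _ _ n _ _ hz hc))
      (conv_union_right hd (conv_class _ _ n _ _ hc hz) (conv_class _ _ n _ _ hc hc))

theorem count_eq [DecidableEq G] (hS : Finset G) (hT : Finset G) (PS PT : K → Prop) [DecidablePred PS]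
    [DecidablePred PT] (h1 : ∀ k, D.em k ∈ hS ↔ PS k) (h2 : ∀ k, D.em k ∈ hT ↔ PT k)
    (sS : ∀ g ∈ hS, g * g = 1) (sT : ∀ g ∈ hT, g * g = 1) {i : Fin 4} {k : K} (hk : F i k ≠ 0) :
    (hS.filter fun s => s⁻¹ * D.em k ∈ hT).card =
      (Finset.univ.filter fun u : K => PS u ∧ PT (u * k)).card := by
  classical
  refine (Finset.card_bij (fun u _ => D.em u) ?_ ?_ ?_).symm
  · intro u hu
    obtain ⟨-, hu1, hu2⟩ := Finset.mem_filter.mp hu
    refine Finset.mem_filter.mpr ⟨(h1 u).mpr hu1, ?_⟩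
    rw [inv_eq_of_mul_eq_one_left (sS _ ((h1 u).mpr hu1)), ← map_mul]
    exact (h2 _).mpr hu2
  · exact fun u _ v _ e => D.em_injective e
  · intro s hs
    obtain ⟨hs1, hs2⟩ := Finset.mem_filter.mp hs
    have hs' : s⁻¹ = s := inv_eq_of_mul_eq_one_left (sS s hs1)
    rw [hs'] at hs2
    have hinv : s * D.em k * s⁻¹ = (D.em k)⁻¹ := by
      rw [hs']
      refine eq_inv_of_mul_eq_one_left ?_
      calc s * D.em k * s * D.em k = (s * D.em k) * (s * D.em k) := by group
        _ = 1 := sT _ hs2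
    have hsq := D.sq_mem hk
    have hsN : s ∈ Subgroup.normalizer (M : Set G) := by
      refine D.hyp.conj_eq hsq.1 hsq.2 ?_
      rw [show s * (D.em k * D.em k) * s⁻¹ = (s * D.em k * s⁻¹) * (s * D.em k * s⁻¹) by group, hinv,
        ← mul_inv_rev]
      exact M.inv_mem hsq.1
    obtain ⟨u, rfl⟩ := D.exists_em hsN
    refine ⟨u, Finset.mem_filter.mpr ⟨Finset.mem_univ _, (h1 u).mp hs1, (h2 _).mp ?_⟩, rfl⟩
    rw [map_mul]; exact hs2

/-- The coefficient of an irreducible in the induced virtual character. -/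
noncomputable def coef (i : Fin 4) (χ : G → ℂ) : ℂ := classInner (indFun _ (D.f i)) χ

theorem coef_eq (i : Fin 4) (χ : IrrCharacter G) :
    72 * D.coef i (χ : G → ℂ) = ∑ k : K, (F i k : ℂ) * conj ((χ : G → ℂ) (D.em k)) := by
  classical
  haveI : Fintype (Subgroup.normalizer (M : Set G)) := Fintype.ofFinite _
  rw [coef, frobenius_reciprocity _ _ (isClassFunction_irr χ), classInner, D.card_N, D.sum_f]
  push_cast
  rw [mul_inv_cancel_left₀ (by norm_num)]
  refine Finset.sum_congr rfl fun k _ => ?_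
  simp only [f, MulEquiv.symm_apply_apply]
  rfl

theorem exists_int_coef (i : Fin 4) (χ : IrrCharacter G) :
    ∃ n : ℤ, D.coef i (χ : G → ℂ) = n := by
  classical
  haveI : Fintype (Subgroup.normalizer (M : Set G)) := Fintype.ofFinite _
  exact exists_int_classInner (isGeneralized_indFun _ (D.isGeneralized_f i)) (isGeneralized_of_isIrr χ.2)

theorem coef_values (χ : IrrCharacter G) (i : Fin 4) :
    72 * D.coef i (χ : G → ℂ) = 4 * ((tab i 0 : ℤ) : ℂ) * conj (D.val χ 0) +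
      4 * ((tab i 1 : ℤ) : ℂ) * conj (D.val χ 1) + 12 * ((tab i 2 : ℤ) : ℂ) * conj (D.val χ 2) +
      12 * ((tab i 3 : ℤ) : ℂ) * conj (D.val χ 3) := by
  classical
  have hterm : ∀ k : K, (F i k : ℂ) * conj ((χ : G → ℂ) (D.em k)) =
      ∑ j : Fin 4, if ((ty k : Fin 5) : ℕ) = (j : ℕ) then ((tab i (ty k) : ℤ) : ℂ) * conj (D.val χ j) else 0 := by
    intro k
    by_cases h4 : ty k = 4
    · rw [show F i k = 0 by unfold F; rw [h4]; revert i; decide, Int.cast_zero, zero_mul]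
      refine (Finset.sum_eq_zero fun j _ => if_neg ?_).symm
      rw [h4]; revert j; decide
    · obtain ⟨g, j, hj, hg⟩ := ty_conj k h4
      rw [Finset.sum_eq_single j (fun j' _ hne => if_neg fun e => hne (Fin.ext (by omega)))
        (by simp), if_pos hj]
      show ((tab i (ty k) : ℤ) : ℂ) * _ = _
      congr 2
      exact eq_of_isConj (isClassFunction_irr χ) (D.em.map_isConj (isConj_iff.mpr ⟨g, hg⟩)).symm
  rw [D.coef_eq, Finset.sum_congr rfl fun k _ => hterm k, Finset.sum_comm]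
  have hconst : ∀ j : Fin 4, (∑ k : K, if ((ty k : Fin 5) : ℕ) = (j : ℕ) then
      ((tab i (ty k) : ℤ) : ℂ) * conj (D.val χ j) else 0) =
      ((∑ k : K, if ((ty k : Fin 5) : ℕ) = (j : ℕ) then tab i (ty k) else 0 : ℤ) : ℂ) * conj (D.val χ j) := by
    intro j
    push_cast
    rw [Finset.sum_mul]
    refine Finset.sum_congr rfl fun k _ => ?_
    by_cases e : ((ty k : Fin 5) : ℕ) = (j : ℕ)
    · simp [e]
    · simp [e]
  rw [Finset.sum_congr rfl fun j _ => hconst j, Fin.sum_univ_four]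
  have t := (show ∀ i : Fin 4, ∀ j : Fin 4,
    (∑ k : K, if ((ty k : Fin 5) : ℕ) = (j : ℕ) then tab i (ty k) else 0) =
      (if (j : ℕ) < 2 then 4 else 12) * tab i ⟨(j : ℕ), by omega⟩ by decide +kernel) i
  rw [t 0, t 1, t 2, t 3]
  push_cast
  norm_num
  rfl

theorem val_eq (χ : IrrCharacter G) (c : Fin 4 → ℤ) (hc : ∀ i, D.coef i (χ : G → ℂ) = c i) :
    D.val χ 0 = ((2 * (c 2 + c 3) - (c 0 + c 1) : ℤ) : ℂ) ∧
    D.val χ 1 = ((2 * (c 0 + c 1) - (c 2 + c 3) : ℤ) : ℂ) ∧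
    D.val χ 2 = ((c 0 - c 1 : ℤ) : ℂ) ∧ D.val χ 3 = ((c 2 - c 3 : ℤ) : ℂ) := by
  have e : ∀ i, _ := fun i => D.coef_values χ i
  have e0 := e 0; have e1 := e 1; have e2 := e 2; have e3 := e 3
  simp only [hc] at e0 e1 e2 e3
  simp only [tab, Int.cast_ofNat, Int.cast_neg] at e0 e1 e2 e3
  push_cast at e0 e1 e2 e3
  refine ⟨?_, ?_, ?_, ?_⟩ <;> apply (starRingEnd ℂ).injective <;> rw [map_intCast] <;> push_cast
  · linear_combination (1 / 72 : ℂ) * e0 + (1 / 72 : ℂ) * e1 - (1 / 36 : ℂ) * e2 - (1 / 36 : ℂ) * e3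
  · linear_combination (1 / 72 : ℂ) * e2 + (1 / 72 : ℂ) * e3 - (1 / 36 : ℂ) * e0 - (1 / 36 : ℂ) * e1
  · linear_combination -(1 / 72 : ℂ) * e0 + (1 / 72 : ℂ) * e1
  · linear_combination -(1 / 72 : ℂ) * e2 + (1 / 72 : ℂ) * e3

/-- The index of the centralizer of an element commuting with a nontrivial element of `M`. -/
theorem index_three (k : K) (hk : (k * ⟨(1, 0), 1⟩ = ⟨(1, 0), 1⟩ * k) ∨ (k * ⟨(1, 1), 1⟩ = ⟨(1, 1), 1⟩ * k)) :
    ¬ 9 ∣ (Subgroup.centralizer ({D.em k} : Set G)).index := by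
  intro h9
  have key : ∀ m : K, m ≠ 1 → m ^ 3 = 1 → k * m = m * k → False := by
    intro m hm1 hm3 hc
    have h3 : 3 ∣ Nat.card (Subgroup.centralizer ({D.em k} : Set G)) := by
      haveI : Fact (Nat.Prime 3) := ⟨Nat.prime_three⟩
      have ho : orderOf (D.em m) = 3 := orderOf_eq_prime (p := 3) (by rw [← map_pow, hm3, map_one])
        (fun e => hm1 (D.em_injective (e.trans (map_one D.em).symm)))
      rw [← ho]
      exact Subgroup.orderOf_dvd_natCard _ (Subgroup.mem_centralizer_singleton_iff.mpr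
        (by rw [← map_mul, ← map_mul, hc]))
    have h27 : 27 ∣ Nat.card G := by
      rw [← (Subgroup.centralizer ({D.em k} : Set G)).card_mul_index]
      exact (Nat.mul_dvd_mul h3 h9)
    haveI : Fact (Nat.Prime 3) := ⟨Nat.prime_three⟩
    let PM : Sylow 3 G := ⟨M, D.hyp.isPGroup, fun hQ hle => D.hyp.maximal _ hQ hle⟩
    have hd := Sylow.pow_dvd_card_of_pow_dvd_card (n := 3) (p := 3) PM (by rwa [show (3 : ℕ) ^ 3 = 27 by norm_num])
    change 3 ^ 3 ∣ Nat.card M at hd
    rw [D.hyp.card] at hd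
    norm_num at hd
  rcases hk with h | h
  · exact key _ (by decide +kernel) (by decide +kernel) h
  · exact key _ (by decide +kernel) (by decide +kernel) h

theorem not_dvd_of_zero (χ : IrrCharacter G) (d : ℕ) (hd : (χ : G → ℂ) 1 = d) (h9 : 9 ∣ d) (k : K)
    (hk : (k * ⟨(1, 0), 1⟩ = ⟨(1, 0), 1⟩ * k) ∨ (k * ⟨(1, 1), 1⟩ = ⟨(1, 1), 1⟩ * k))
    (w : ℤ) (hw : (χ : G → ℂ) (D.em k) = w) : (3 : ℤ) ∣ w := by
  have h := isIntegral_omega_irr χ.2 (D.em k)
  rw [omega, hw, hd] at h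
  obtain ⟨m, hm⟩ := exists_int_of_isIntegral_rat
    (q := (((Subgroup.centralizer ({D.em k} : Set G)).index : ℚ) * w / d)) (by push_cast; exact h)
  have hd0 : (d : ℚ) ≠ 0 := by
    intro e
    have : d = 0 := by exact_mod_cast e
    exact irr_degree_ne_zero χ.2 (by rw [hd, this, Nat.cast_zero])
  rw [div_eq_iff hd0] at hm
  have e : ((Subgroup.centralizer ({D.em k} : Set G)).index : ℤ) * w = m * d := by exact_mod_cast hm
  have h9' : (9 : ℤ) ∣ ((Subgroup.centralizer ({D.em k} : Set G)).index : ℤ) * w :=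
    e ▸ Dvd.dvd.mul_left (by exact_mod_cast h9) m
  by_contra h3
  refine D.index_three k hk ?_
  have hc : IsCoprime (9 : ℤ) w := by
    have : IsCoprime (3 : ℤ) w := (Int.prime_three.coprime_iff_not_dvd).mpr h3
    exact show IsCoprime ((3 : ℤ) * 3) w from this.mul_left this
  exact_mod_cast hc.dvd_of_dvd_mul_right h9'

theorem conj_ty (g k : K) : ty (g * k * g⁻¹) = ty k :=
  (show ∀ g k : K, ty (g * k * g⁻¹) = ty k by decide +kernel) g k

theorem class_in_N {j : Fin 4} (hj : (rep j).t = 1) {k : K}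
    (hconj : IsConj (D.em (rep j)) (D.em k)) (hk : k.t = 1) : ty k = ty (rep j) := by
  obtain ⟨g, hg⟩ := isConj_iff.mp hconj
  have hne : D.em (rep j) ≠ 1 := fun e =>
    (show ∀ j : Fin 4, (rep j).t = 1 → rep j ≠ 1 by decide +kernel) j hj (D.em_injective (e.trans (map_one D.em).symm))
  obtain ⟨n, rfl⟩ := D.exists_em
    (D.hyp.conj_eq (k := D.em (rep j)) ((D.mem_M _).mpr hj) hne (by rw [hg]; exact (D.mem_M k).mpr hk))
  rw [← map_inv, ← map_mul, ← map_mul] at hg
  rw [← D.em_injective hg, conj_ty]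

/-- The congruence at a vanishing `x` or `d` value. -/
theorem sum_eight (χ : IrrCharacter G) :
    ∃ y : ℂ, IsIntegral ℤ y ∧ omega (χ : G → ℂ) (D.em (rep 0)) * omega (χ : G → ℂ) (D.em (rep 1)) *
      (χ : G → ℂ) 1 = 8 * D.val χ 0 + 8 * D.val χ 1 + 9 * y := by
  classical
  obtain ⟨n, ρ, hρ, e⟩ := χ.2
  haveI := hρ
  rw [← e, ← sum_char_mul ρ (D.em (rep 0)) (D.em (rep 1)), e, ← Finset.sum_product']
  set P := (Finset.univ.filter (fun x : G => IsConj x (D.em (rep 0)))) ×ˢ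
    (Finset.univ.filter (fun x : G => IsConj x (D.em (rep 1)))) with hP
  letI : MulAction M (G × G) :=
    { smul := fun m p => ((m : G) * p.1 * (m : G)⁻¹, (m : G) * p.2 * (m : G)⁻¹)
      one_smul := fun p => by
        show (((1 : M) : G) * p.1 * ((1 : M) : G)⁻¹, ((1 : M) : G) * p.2 * ((1 : M) : G)⁻¹) = p
        simp
      mul_smul := fun m m' p => by
        show (((m * m' : M) : G) * p.1 * ((m * m' : M) : G)⁻¹, ((m * m' : M) : G) * p.2 * ((m * m' : M) : G)⁻¹) =
          ((m : G) * ((m' : G) * p.1 * (m' : G)⁻¹) * (m : G)⁻¹, (m : G) * ((m' : G) * p.2 * (m' : G)⁻¹) * (m : G)⁻¹)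
        simp [mul_assoc] }
  have hcube : ∀ {j : Fin 4}, (rep j).t = 1 → ∀ u, IsConj u (D.em (rep j)) → u ^ 3 = 1 := by
    intro j hj u hu
    obtain ⟨g, rfl⟩ := isConj_iff.mp hu.symm
    rw [conj_pow, D.hyp.cube (D.em (rep j)) ((D.mem_M _).mpr hj), mul_one, mul_inv_cancel]
  obtain ⟨y, hy, hsum⟩ := exists_mul_of_free (A := M) (P.filter fun p => ¬ (p.1 ∈ M ∧ p.2 ∈ M))
    (fun m p hp => by
      rw [Finset.mem_filter, hP, Finset.mem_product, Finset.mem_filter, Finset.mem_filter] at hp ⊢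
      have hc : ∀ u : G, IsConj ((m : G) * u * (m : G)⁻¹) u := fun u =>
        (isConj_iff.mpr ⟨(m : G), rfl⟩ : IsConj u _).symm
      have hmem : ∀ u : G, (m : G) * u * (m : G)⁻¹ ∈ M → u ∈ M := fun u hu => by
        have := M.mul_mem (M.mul_mem (M.inv_mem m.2) hu) m.2
        rwa [show (m : G)⁻¹ * ((m : G) * u * (m : G)⁻¹) * (m : G) = u by group] at this
      exact ⟨⟨⟨Finset.mem_univ _, (hc _).trans hp.1.1.2⟩, ⟨Finset.mem_univ _, (hc _).trans hp.1.2.2⟩⟩,
        fun h => hp.2 ⟨hmem _ h.1, hmem _ h.2⟩⟩)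
    (fun m p hp hfix => by
      rw [Finset.mem_filter, hP, Finset.mem_product, Finset.mem_filter, Finset.mem_filter] at hp
      by_contra hm
      have hm' : (m : G) ≠ 1 := fun e => hm (Subtype.ext e)
      have e1 := congrArg Prod.fst hfix
      have e2 := congrArg Prod.snd hfix
      change (m : G) * p.1 * (m : G)⁻¹ = p.1 at e1
      change (m : G) * p.2 * (m : G)⁻¹ = p.2 at e2
      exact hp.2 ⟨D.mem_of_cube (hcube (j := 0) rfl _ hp.1.1.2) m.2 hm' (mul_inv_eq_iff_eq_mul.mp e1).symm,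
        D.mem_of_cube (hcube (j := 1) rfl _ hp.1.2.2) m.2 hm' (mul_inv_eq_iff_eq_mul.mp e2).symm⟩)
    (fun p => (χ : G → ℂ) (p.1 * p.2))
    (fun m p => by
      show (χ : G → ℂ) ((m : G) * p.1 * (m : G)⁻¹ * ((m : G) * p.2 * (m : G)⁻¹)) = _
      rw [show (m : G) * p.1 * (m : G)⁻¹ * ((m : G) * p.2 * (m : G)⁻¹) = (m : G) * (p.1 * p.2) * (m : G)⁻¹ by
        group]
      exact isClassFunction_irr χ _ _)
    (fun p _ => isIntegral_value (isCharacter_of_isIrr χ.2) _)
  refine ⟨y, hy, ?_⟩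
  rw [D.hyp.card] at hsum
  push_cast at hsum
  rw [← Finset.sum_filter_add_sum_filter_not P (fun p => p.1 ∈ M ∧ p.2 ∈ M), hsum]
  congr 1
  let Q : Finset (K × K) := Finset.univ.filter fun p => ty p.1 = 0 ∧ ty p.2 = 1
  have hbij : ∑ p ∈ P.filter (fun p => p.1 ∈ M ∧ p.2 ∈ M), (χ : G → ℂ) (p.1 * p.2) =
      ∑ p ∈ Q, (χ : G → ℂ) (D.em (p.1 * p.2)) := by
    symm
    refine Finset.sum_bij (fun p _ => (D.em p.1, D.em p.2)) ?_ ?_ ?_ ?_
    · intro p hp
      obtain ⟨-, h0, h1⟩ := Finset.mem_filter.mp hp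
      have fact := (show ∀ k : K, ∀ j : Fin 2, ((ty k : Fin 5) : ℕ) = (j : ℕ) →
          k.t = 1 ∧ ∃ g : K, g * k * g⁻¹ = rep (Fin.castLE (by decide) j) by decide +kernel)
      obtain ⟨t0, g0, c0⟩ := fact p.1 0 (by rw [h0]; rfl)
      obtain ⟨t1, g1, c1⟩ := fact p.2 1 (by rw [h1]; rfl)
      rw [Finset.mem_filter, hP, Finset.mem_product, Finset.mem_filter, Finset.mem_filter]
      exact ⟨⟨⟨Finset.mem_univ _, D.em.map_isConj (isConj_iff.mpr ⟨g0, c0⟩)⟩,
        ⟨Finset.mem_univ _, D.em.map_isConj (isConj_iff.mpr ⟨g1, c1⟩)⟩⟩,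
        (D.mem_M _).mpr t0, (D.mem_M _).mpr t1⟩
    · intro p _ q _ e
      exact Prod.ext (D.em_injective (congrArg Prod.fst e)) (D.em_injective (congrArg Prod.snd e))
    · intro p hp
      obtain ⟨hP', h1, h2⟩ := Finset.mem_filter.mp hp
      obtain ⟨k, hk⟩ := D.exists_em (Subgroup.le_normalizer h1)
      obtain ⟨l, hl⟩ := D.exists_em (Subgroup.le_normalizer h2)
      rw [hP, Finset.mem_product, Finset.mem_filter, Finset.mem_filter] at hP'
      have tk : k.t = 1 := (D.mem_M k).mp (by show D.em k ∈ M; rw [hk]; exact h1)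
      have tl : l.t = 1 := (D.mem_M l).mp (by show D.em l ∈ M; rw [hl]; exact h2)
      refine ⟨(k, l), Finset.mem_filter.mpr ⟨Finset.mem_univ _, ?_, ?_⟩, Prod.ext hk hl⟩
      · exact (D.class_in_N (j := 0) rfl (hk ▸ hP'.1.2.symm) tk).trans (by decide +kernel)
      · exact (D.class_in_N (j := 1) rfl (hl ▸ hP'.2.2.symm) tl).trans (by decide +kernel)
    · intro p _
      rw [map_mul]
  rw [hbij]
  have hval : ∀ p ∈ Q, (χ : G → ℂ) (D.em (p.1 * p.2)) =
      if ty (p.1 * p.2) = 0 then D.val χ 0 else D.val χ 1 := by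
    intro p hp
    obtain ⟨-, h0, h1⟩ := Finset.mem_filter.mp hp
    rcases rep_products.2.2.1 p.1 p.2 h0 h1 with h | h
    · rw [if_pos h]
      obtain ⟨g, j, hj, hg⟩ := ty_conj (p.1 * p.2) (by rw [h]; decide)
      rw [h] at hj
      obtain rfl : j = 0 := Fin.ext hj.symm
      exact eq_of_isConj (isClassFunction_irr χ) (D.em.map_isConj (isConj_iff.mpr ⟨g, hg⟩)).symm
    · rw [if_neg (by rw [h]; decide)]
      obtain ⟨g, j, hj, hg⟩ := ty_conj (p.1 * p.2) (by rw [h]; decide)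
      rw [h] at hj
      obtain rfl : j = 1 := Fin.ext hj.symm
      exact eq_of_isConj (isClassFunction_irr χ) (D.em.map_isConj (isConj_iff.mpr ⟨g, hg⟩)).symm
  rw [Finset.sum_congr rfl hval, Finset.sum_ite, Finset.sum_const, Finset.sum_const, nsmul_eq_mul,
    nsmul_eq_mul, show (Q.filter fun p => ty (p.1 * p.2) = 0).card = 8 by decide +kernel,
    show (Q.filter fun p => ¬ ty (p.1 * p.2) = 0).card = 8 by decide +kernel]
  norm_num

theorem degree_congr (χ : IrrCharacter G) (d : ℕ) (hd : (χ : G → ℂ) 1 = d) (X Y : ℤ)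
    (hX : D.val χ 0 = X) (hY : D.val χ 1 = Y) : (9 : ℤ) ∣ (d : ℤ) + 4 * X + 4 * Y := by
  classical
  haveI : Fintype M := Fintype.ofFinite M
  obtain ⟨n, hn⟩ := exists_sum_subgroup (isCharacter_of_isIrr χ.2) M
  rw [D.hyp.card] at hn
  have e : ∑ h : M, (χ : G → ℂ) h =
      ∑ k ∈ Finset.univ.filter (fun k : K => k.t = 1), (χ : G → ℂ) (D.em k) := by
    symm
    refine Finset.sum_bij (fun k hk => (⟨D.em k, (D.mem_M k).mpr (Finset.mem_filter.mp hk).2⟩ : M))
      (fun k _ => Finset.mem_univ _) (fun k _ l _ e => D.em_injective (congrArg (fun m : M => (m : G)) e))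
      (fun m _ => ?_) (fun k _ => rfl)
    obtain ⟨k, hk⟩ := D.exists_em (Subgroup.le_normalizer m.2)
    exact ⟨k, Finset.mem_filter.mpr ⟨Finset.mem_univ _, (D.mem_M k).mp
      (by show D.em k ∈ M; rw [hk]; exact m.2)⟩, Subtype.ext hk⟩
  have hval : ∀ k ∈ Finset.univ.filter (fun k : K => k.t = 1), (χ : G → ℂ) (D.em k) =
      (((if ty k = 0 then X else if ty k = 1 then Y else (d : ℤ)) : ℤ) : ℂ) := by
    intro k hk
    have hk1 := (Finset.mem_filter.mp hk).2
    rcases (show ∀ k : K, k.t = 1 → k = 1 ∨ ty k = 0 ∨ ty k = 1 by decide +kernel) k hk1 with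
      rfl | h | h
    · rw [map_one, hd, if_neg (by decide +kernel), if_neg (by decide +kernel)]; simp
    · obtain ⟨g, j, hj, hg⟩ := ty_conj k (by rw [h]; decide)
      rw [h] at hj
      obtain rfl : j = 0 := Fin.ext hj.symm
      rw [if_pos h, ← hX]
      exact eq_of_isConj (isClassFunction_irr χ) (D.em.map_isConj (isConj_iff.mpr ⟨g, hg⟩)).symm
    · obtain ⟨g, j, hj, hg⟩ := ty_conj k (by rw [h]; decide)
      rw [h] at hj
      obtain rfl : j = 1 := Fin.ext hj.symm
      rw [if_neg (by rw [h]; decide), if_pos h, ← hY]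
      exact eq_of_isConj (isClassFunction_irr χ) (D.em.map_isConj (isConj_iff.mpr ⟨g, hg⟩)).symm
  rw [e, Finset.sum_congr rfl hval, ← Int.cast_sum, Finset.sum_ite, Finset.sum_ite] at hn
  simp only [Finset.sum_const, Finset.filter_filter, and_assoc] at hn
  rw [show (Finset.univ.filter fun k : K => k.t = 1 ∧ ty k = 0).card = 4 by decide +kernel,
    show (Finset.univ.filter fun k : K => k.t = 1 ∧ (¬ ty k = 0 ∧ ty k = 1)).card = 4 by decide +kernel,
    show (Finset.univ.filter fun k : K => k.t = 1 ∧ (¬ ty k = 0 ∧ ¬ ty k = 1)).card = 1 by decide +kernel] at hn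
  have h' : (4 * X + (4 * Y + d) : ℤ) = 9 * (n : ℤ) := by
    simp only [nsmul_eq_mul, Nat.cast_ofNat, Nat.cast_one, one_mul] at hn
    exact_mod_cast hn
  exact ⟨n, by linarith⟩

end DData

end CfsgLib.NineTI
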