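import Cfsg.Agent.Lib.NineTI.DihedralChar

/-!
A dihedral automizer forces a linear character which is nontrivial at two involutions.
-/

set_option autoImplicit false
set_option maxRecDepth 10000

namespace CfsgLib.NineTI

open Cfsg CfsgLib.Char D8 Gram
open scoped ComplexConjugate

universe u

variable {G : Type u} [Group G] [Finite G] {M : Subgroup G}

theorem get_eqs (v : Vec) : v.get 0 = v.1 ∧ v.get 1 = v.2.1 ∧ v.get 2 = v.2.2.1 ∧ v.get 3 = v.2.2.2 :=
  ⟨rfl, rfl, rfl, rfl⟩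

theorem std_facts : ∀ s ∈ [(1 : ℤ), -1], ∀ j : Fin 8,
    (¬ ∀ k : Fin 4, s * (std[(j : ℕ)]!).get k = if k = 0 ∨ k = 2 then 1 else 0) ∧
    (¬ ∀ k : Fin 4, s * (std[(j : ℕ)]!).get k = 0) ∧
    ∀ s' ∈ [(1 : ℤ), -1], ∀ j' : Fin 8,
      (∀ k : Fin 4, s * (std[(j : ℕ)]!).get k = s' * (std[(j' : ℕ)]!).get k) → j = j' ∧ s = s' := by
  decide +kernel

namespace DData

variable (D : DData M) [Fintype G]

theorem exists_classFun_value (χ : IrrCharacter G) {k : K} {j : Fin 4}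
    (h : ((ty k : Fin 5) : ℕ) = (j : ℕ)) : (χ : G → ℂ) (D.em k) = D.val χ j := by
  obtain ⟨g, j', hj', hg⟩ := ty_conj k (fun e => by rw [e] at h; revert h; revert j; decide)
  obtain rfl : j = j' := Fin.ext (h.symm.trans hj')
  exact eq_of_isConj (isClassFunction_irr χ) (D.em.map_isConj (isConj_iff.mpr ⟨g, hg⟩)).symm

theorem indFun_zero_of_sq (i : Fin 4) {g : G} (hg : g * g = 1) :
    indFun (Subgroup.normalizer (M : Set G)) (D.f i) g = 0 := by
  unfold indFun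
  refine mul_eq_zero.mpr (Or.inr (Finset.sum_eq_zero fun x _ => ?_))
  by_cases hx : x⁻¹ * g * x ∈ Subgroup.normalizer (M : Set G)
  · rw [extendByZero_mem _ _ hx]
    refine D.f_supp i _ fun h => h.1.2 ?_
    show x⁻¹ * g * x * (x⁻¹ * g * x) = 1
    rw [show x⁻¹ * g * x * (x⁻¹ * g * x) = x⁻¹ * (g * g) * x by group, hg, mul_one, inv_mul_cancel]
  · exact extendByZero_notMem _ _ hx

theorem coef_sum_eq_zero (i : Fin 4) {g : G} (hg : g * g = 1) :
    ∑ χ : IrrCharacter G, D.coef i (χ : G → ℂ) * (χ : G → ℂ) g = 0 := by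
  have e := congrFun (classFunction_expansion
    (isClassFunction_indFun (Subgroup.normalizer (M : Set G)) (D.f i))) g
  rw [Finset.sum_apply, D.indFun_zero_of_sq i hg] at e
  exact e.symm

theorem coef_gram (i j : Fin 4) (c : IrrCharacter G → Fin 4 → ℤ)
    (hc : ∀ (χ : IrrCharacter G) i, D.coef i (χ : G → ℂ) = c χ i) :
    ∑ χ : IrrCharacter G, c χ i * c χ j = if i = j then 4 else
      if (i = 0 ∧ j = 1) ∨ (i = 1 ∧ j = 0) ∨ (i = 2 ∧ j = 3) ∨ (i = 3 ∧ j = 2) then 1 else 2 := by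
  classical
  haveI : Fintype (Subgroup.normalizer (M : Set G)) := Fintype.ofFinite _
  have h1 : classInner (indFun _ (D.f i)) (indFun _ (D.f j)) = classInner (D.f i) (D.f j) :=
    classInner_indFun_of_ti _ D.supp' D.ti' _ _
      (isClassFunction_of_isGeneralized (D.isGeneralized_f j)) (D.f_supp i) (D.f_supp j) (D.f_one i)
  have h2 : classInner (indFun (Subgroup.normalizer (M : Set G)) (D.f i))
      (indFun (Subgroup.normalizer (M : Set G)) (D.f j)) =
      ((∑ χ : IrrCharacter G, c χ i * c χ j : ℤ) : ℂ) := by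
    rw [classFunction_expansion (isClassFunction_indFun (Subgroup.normalizer (M : Set G)) (D.f i)),
      classFunction_expansion (isClassFunction_indFun (Subgroup.normalizer (M : Set G)) (D.f j)),
      classInner_sum_smul_sum_smul]
    push_cast
    refine Finset.sum_congr rfl fun χ _ => ?_
    show D.coef i _ * conj (D.coef j _) = _
    rw [hc, hc, map_intCast]
  have h3 : 72 * classInner (D.f i) (D.f j) = ((∑ k : K, F i k * F j k : ℤ) : ℂ) := by
    rw [classInner, D.card_N, D.sum_f]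
    push_cast
    rw [mul_inv_cancel_left₀ (by norm_num)]
    refine Finset.sum_congr rfl fun k _ => ?_
    simp only [f, MulEquiv.symm_apply_apply, map_intCast]
  rw [← h1, h2, inner_table] at h3
  refine mul_left_cancel₀ (show (72 : ℤ) ≠ 0 by norm_num) ?_
  exact_mod_cast h3

theorem coef_principal (i : Fin 4) :
    D.coef i (fun _ : G => (1 : ℂ)) = ((if i = 0 ∨ i = 2 then 1 else 0 : ℤ) : ℂ) := by
  have h := D.coef_eq i ⟨_, isIrrCharacter_one⟩
  refine mul_left_cancel₀ (show (72 : ℂ) ≠ 0 by norm_num) ?_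
  rw [h]
  simp only [map_one, mul_one]
  rw [← Int.cast_sum, one_table]
  push_cast
  rfl

theorem coef_conv [DecidableEq G] (i : Fin 4) (S T : Finset G) (PS PT : K → Prop) [DecidablePred PS]
    [DecidablePred PT] (h1 : ∀ k, D.em k ∈ S ↔ PS k) (h2 : ∀ k, D.em k ∈ T ↔ PT k)
    (sS : ∀ g ∈ S, g * g = 1) (sT : ∀ g ∈ T, g * g = 1) (hconv : ∀ n, Conv n S T) (w : ℤ)
    (hw : 2 * (∑ k : K, F i k * ((Finset.univ.filter fun u : K => PS u ∧ PT (u * k)).card : ℤ)) = 72 * w) :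
    ∑ χ : IrrCharacter G, D.coef i (χ : G → ℂ) *
      (psi S (χ : G → ℂ) * psi T (χ : G → ℂ) / (χ : G → ℂ) 1) = (Nat.card G : ℂ) * w / 2 := by
  classical
  have hsum : ∀ U : Finset G, (∀ g ∈ U, g * g = 1) →
      ∑ χ : IrrCharacter G, D.coef i (χ : G → ℂ) * ∑ g ∈ U, (χ : G → ℂ) g = 0 := by
    intro U hU
    simp only [Finset.mul_sum]
    rw [Finset.sum_comm]
    exact Finset.sum_eq_zero fun g hg => D.coef_sum_eq_zero i (hU g hg)
  have hpsi : ∀ χ : IrrCharacter G, D.coef i (χ : G → ℂ) *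
      (psi S (χ : G → ℂ) * psi T (χ : G → ℂ) / (χ : G → ℂ) 1) =
      D.coef i (χ : G → ℂ) *
        ((∑ g ∈ S, (χ : G → ℂ) g) * (∑ g ∈ T, (χ : G → ℂ) g) / (χ : G → ℂ) 1)
      - (T.card : ℂ) * (D.coef i (χ : G → ℂ) * ∑ g ∈ S, (χ : G → ℂ) g)
      - (S.card : ℂ) * (D.coef i (χ : G → ℂ) * ∑ g ∈ T, (χ : G → ℂ) g)
      + (S.card : ℂ) * (T.card : ℂ) * (D.coef i (χ : G → ℂ) * (χ : G → ℂ) 1) := by
    intro χ
    have hd := irr_degree_ne_zero χ.2
    simp only [psi, Finset.sum_sub_distrib, Finset.sum_const, nsmul_eq_mul]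
    field_simp
    ring
  rw [Finset.sum_congr rfl fun χ _ => hpsi χ, Finset.sum_add_distrib, Finset.sum_sub_distrib,
    Finset.sum_sub_distrib, ← Finset.mul_sum, ← Finset.mul_sum, ← Finset.mul_sum, hsum S sS, hsum T sT,
    D.coef_sum_eq_zero i (mul_one (1 : G)), mul_zero, mul_zero, sub_zero, sub_zero, mul_zero, add_zero]
  refine mul_left_cancel₀ (show (72 : ℂ) ≠ 0 by norm_num) ?_
  rw [Finset.mul_sum]
  calc ∑ χ : IrrCharacter G, 72 * (D.coef i (χ : G → ℂ) *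
        ((∑ g ∈ S, (χ : G → ℂ) g) * (∑ g ∈ T, (χ : G → ℂ) g) / (χ : G → ℂ) 1))
      = ∑ χ : IrrCharacter G, ∑ k : K, (F i k : ℂ) * ((∑ g ∈ S, (χ : G → ℂ) g) *
          (∑ g ∈ T, (χ : G → ℂ) g) * conj ((χ : G → ℂ) (D.em k)) / (χ : G → ℂ) 1) := by
        refine Finset.sum_congr rfl fun χ _ => ?_
        rw [← mul_assoc, D.coef_eq, Finset.sum_mul]
        exact Finset.sum_congr rfl fun k _ => by ring
    _ = ∑ k : K, (F i k : ℂ) * (((S.filter fun s => s⁻¹ * D.em k ∈ T).card : ℂ) * (Nat.card G : ℂ)) := by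
        rw [Finset.sum_comm]
        refine Finset.sum_congr rfl fun k _ => ?_
        rw [← Finset.mul_sum, ← hconv (D.em k)]
    _ = ((∑ k : K, F i k * ((Finset.univ.filter fun u : K => PS u ∧ PT (u * k)).card : ℤ) : ℤ) : ℂ) *
          (Nat.card G : ℂ) := by
        push_cast
        rw [Finset.sum_mul]
        refine Finset.sum_congr rfl fun k _ => ?_
        rcases eq_or_ne (F i k) 0 with h | h
        · simp [h]
        · rw [D.count_eq S T PS PT h1 h2 sS sT h, mul_assoc]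
    _ = _ := by
        have hw' : (2 : ℂ) * ((∑ k : K, F i k *
            ((Finset.univ.filter fun u : K => PS u ∧ PT (u * k)).card : ℤ) : ℤ) : ℂ) = 72 * (w : ℂ) := by
          exact_mod_cast hw
        linear_combination ((Nat.card G : ℂ) / 2) * hw'

/-- A sum over a set of involutions closed under `M` is congruent to the part in the normalizer. -/
theorem sum_closed (S : Finset G) (PS : K → Prop) [DecidablePred PS]
    (h1 : ∀ k, D.em k ∈ S ↔ PS k) (hcl : ∀ (h g : G), g ∈ S → h * g * h⁻¹ ∈ S)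
    (f : G → ℂ) (hf : ∀ g h : G, f (h * g * h⁻¹) = f g) (hint : ∀ g, IsIntegral ℤ (f g)) :
    ∃ y : ℂ, IsIntegral ℤ y ∧
      ∑ s ∈ S, f s = (∑ k ∈ Finset.univ.filter PS, f (D.em k)) + 9 * y := by
  classical
  letI : MulAction M G :=
    { smul := fun m g => (m : G) * g * (m : G)⁻¹
      one_smul := fun g => by
        show ((1 : M) : G) * g * ((1 : M) : G)⁻¹ = g
        simp
      mul_smul := fun m m' g => by
        show ((m * m' : M) : G) * g * ((m * m' : M) : G)⁻¹ = (m : G) * ((m' : G) * g * (m' : G)⁻¹) * (m : G)⁻¹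
        simp [mul_assoc] }
  obtain ⟨y, hy, hsum⟩ := exists_mul_of_free (A := M)
    (S.filter fun s => s ∉ Subgroup.normalizer (M : Set G))
    (fun m s hs => by
      rw [Finset.mem_filter] at hs ⊢
      refine ⟨hcl _ _ hs.1, fun h => hs.2 ?_⟩
      change (m : G) * s * (m : G)⁻¹ ∈ _ at h
      have hm := Subgroup.le_normalizer (H := M) m.2
      have e := mul_mem (mul_mem (inv_mem hm) h) hm
      rwa [show (m : G)⁻¹ * ((m : G) * s * (m : G)⁻¹) * (m : G) = s by group] at e)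
    (fun m s hs hfix => by
      rw [Finset.mem_filter] at hs
      by_contra hm
      exact hs.2 (D.hyp.loc m m.2 (fun e => hm (Subtype.ext e))
        (Subgroup.mem_centralizer_singleton_iff.mpr (mul_inv_eq_iff_eq_mul.mp hfix).symm)))
    f (fun m s => hf s m) (fun s _ => hint s)
  refine ⟨y, hy, ?_⟩
  rw [D.hyp.card] at hsum
  push_cast at hsum
  rw [← Finset.sum_filter_add_sum_filter_not S (fun s => s ∈ Subgroup.normalizer (M : Set G)), hsum]
  congr 1
  symm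
  refine Finset.sum_bij (fun k _ => D.em k)
    (fun k hk => Finset.mem_filter.mpr ⟨(h1 k).mpr (Finset.mem_filter.mp hk).2, D.em_mem k⟩)
    (fun k _ l _ e => D.em_injective e) (fun s hs => ?_) (fun k _ => rfl)
  obtain ⟨k, rfl⟩ := D.exists_em (Finset.mem_filter.mp hs).2
  exact ⟨k, Finset.mem_filter.mpr ⟨Finset.mem_univ _, (h1 k).mp (Finset.mem_filter.mp hs).1⟩, rfl⟩

theorem psi_congr (hza : ¬ IsConj D.a D.z) (χ : IrrCharacter G) (d : ℕ) (hd : (χ : G → ℂ) 1 = d) :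
    ∃ a' c' PA PZ : ℤ, (χ : G → ℂ) D.a = a' ∧ (χ : G → ℂ) D.c = c' ∧
      psi D.SA (χ : G → ℂ) = PA ∧ psi D.SZ (χ : G → ℂ) = PZ ∧
      (9 : ℤ) ∣ PA - 6 * (a' - d) ∧ (9 : ℤ) ∣ PZ - 6 * (c' - d) := by
  classical
  have hχ := isCharacter_of_isIrr χ.2
  have hcls := isClassFunction_irr χ
  have sq : ∀ k : K, k * k = 1 → D.em k * D.em k = 1 := fun k h => by rw [← map_mul, h, map_one]
  obtain ⟨a', ha'⟩ := exists_int_of_sq hχ (t := D.a) (sq _ (by decide +kernel))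
  obtain ⟨z', hz'⟩ := exists_int_of_sq hχ (t := D.z) (sq _ (by decide +kernel))
  obtain ⟨c', hc'⟩ := exists_int_of_sq hχ (t := D.c) (sq _ (by decide +kernel))
  have hint : ∀ S : Finset G, (∀ g ∈ S, g * g = 1) → ∃ P : ℤ, psi S (χ : G → ℂ) = P := by
    intro S hS
    have h : ∀ g ∈ S, ∃ n : ℤ, (χ : G → ℂ) g - (χ : G → ℂ) 1 = n := fun g hg => by
      obtain ⟨n, hn⟩ := exists_int_of_sq hχ (hS g hg)
      exact ⟨n - d, by rw [hn, hd]; push_cast; rfl⟩
    choose n hn using h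
    refine ⟨∑ g ∈ S.attach, n g g.2, ?_⟩
    rw [psi, ← Finset.sum_attach]
    push_cast
    exact Finset.sum_congr rfl fun g _ => hn g g.2
  obtain ⟨PA, hPA⟩ := hint D.SA fun g hg => D.sq_SA (D.mem_SA.mp hg)
  obtain ⟨PZ, hPZ⟩ := hint D.SZ fun g hg => D.sq_SZ (D.mem_SZ.mp hg)
  have hgi : ∀ g, IsIntegral ℤ ((χ : G → ℂ) g - (χ : G → ℂ) 1) := fun g =>
    (isIntegral_value hχ g).sub (isIntegral_value hχ 1)
  have hgc : ∀ g h : G, (χ : G → ℂ) (h * g * h⁻¹) - (χ : G → ℂ) 1 = (χ : G → ℂ) g - (χ : G → ℂ) 1 :=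
    fun g h => by rw [hcls g h]
  have hconjN : ∀ {k : K} {t : K}, (∃ g : K, g * t * g⁻¹ = k) →
      (χ : G → ℂ) (D.em k) = (χ : G → ℂ) (D.em t) := fun ⟨g, hg⟩ =>
    eq_of_isConj hcls (D.em.map_isConj (isConj_iff.mpr ⟨g, hg⟩)).symm
  obtain ⟨y, hy, eA⟩ := D.sum_closed D.SA isA (D.em_mem_SA hza) (fun h g hg =>
    D.mem_SA.mpr ((D.mem_SA.mp hg).trans (isConj_iff.mpr ⟨h, rfl⟩)))
    (fun g => (χ : G → ℂ) g - (χ : G → ℂ) 1) hgc hgi
  obtain ⟨w, hw, eZ⟩ := D.sum_closed D.SZ isZ (D.em_mem_SZ hza) (fun h g hg =>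
    D.mem_SZ.mpr ((D.mem_SZ.mp hg).imp (fun e => e.trans (isConj_iff.mpr ⟨h, rfl⟩))
      (fun e => e.trans (isConj_iff.mpr ⟨h, rfl⟩))))
    (fun g => (χ : G → ℂ) g - (χ : G → ℂ) 1) hgc hgi
  have sA : ∑ k ∈ Finset.univ.filter isA, ((χ : G → ℂ) (D.em k) - (χ : G → ℂ) 1) =
      ((6 * (a' - d) : ℤ) : ℂ) := by
    rw [Finset.sum_congr rfl (g := fun _ => ((a' - d : ℤ) : ℂ)) fun k hk => by
        rw [hconjN (isA_conj k (Finset.mem_filter.mp hk).2), show D.em ⟨0, .sr 0⟩ = D.a from rfl, ha', hd]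
        push_cast; rfl,
      Finset.sum_const, card_types.1, nsmul_eq_mul]
    push_cast; rfl
  let isz : K → Prop := fun k => ∃ g : K, g * ⟨0, .r 2⟩ * g⁻¹ = k
  have sZ : ∑ k ∈ Finset.univ.filter isZ, ((χ : G → ℂ) (D.em k) - (χ : G → ℂ) 1) =
      ((9 * (z' - d) + 6 * (c' - d) : ℤ) : ℂ) := by
    rw [Finset.sum_congr rfl
      (g := fun k => if isz k then ((z' - d : ℤ) : ℂ) else ((c' - d : ℤ) : ℂ)) fun k hk => ?_]
    · rw [Finset.sum_ite, Finset.sum_const, Finset.sum_const, Finset.filter_filter, Finset.filter_filter,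
        show (Finset.univ.filter fun k : K => isZ k ∧ isz k).card = 9 from card_types.2.1,
        show (Finset.univ.filter fun k : K => isZ k ∧ ¬ isz k).card = 6 by decide +kernel,
        nsmul_eq_mul, nsmul_eq_mul]
      push_cast; rfl
    · by_cases hk' : isz k
      · rw [if_pos hk', hconjN hk', show D.em ⟨0, .r 2⟩ = D.z from rfl, hz', hd]
        push_cast; rfl
      · rw [if_neg hk']
        obtain ⟨g, hg | hg⟩ := isZ_conj k (Finset.mem_filter.mp hk).2
        · exact absurd ⟨g, hg⟩ hk'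
        · rw [hconjN ⟨g, hg⟩, show D.em ⟨0, .sr 3⟩ = D.c from rfl, hc', hd]
          push_cast; rfl
  rw [sA, ← psi, hPA] at eA
  rw [sZ, ← psi, hPZ] at eZ
  refine ⟨a', c', PA, PZ, ha', hc', hPA, hPZ,
    dvd_sub_of_integral (n := 9) (by norm_num) hy (by exact_mod_cast eA), ?_⟩
  have e := dvd_sub_of_integral (n := 9) (by norm_num) hw
    (show (PZ : ℂ) = ((9 * (z' - d) + 6 * (c' - d) : ℤ) : ℂ) + ((9 : ℕ) : ℂ) * w by exact_mod_cast eZ)
  push_cast at e
  omega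

/-- Congruences at the involutions from the cyclic subgroups of order six. -/
theorem involution_congr (χ : IrrCharacter G) (d : ℕ) (hd : (χ : G → ℂ) 1 = d) (j j' : Fin 4)
    (t : K) (ht : t = rep j' ^ 3) (ho : orderOf (rep j') = 6) (h2 : ((ty (rep j' ^ 2) : Fin 5) : ℕ) = j)
    (h4 : ((ty (rep j' ^ 4) : Fin 5) : ℕ) = j) (h5 : ((ty (rep j' ^ 5) : Fin 5) : ℕ) = j')
    (X E a' : ℤ) (hX : D.val χ j = X) (hE : D.val χ j' = E) (ha : (χ : G → ℂ) (D.em t) = a') :
    (3 : ℤ) ∣ a' - E := by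
  have cyc : ∀ (k : K) (n : ℕ), orderOf k = n →
      ∃ m : ℕ, ∑ i ∈ Finset.range n, (χ : G → ℂ) (D.em k ^ i) = (n : ℂ) * m := by
    intro k n hn
    classical
    haveI : Fintype (Subgroup.zpowers (D.em k)) := Fintype.ofFinite _
    obtain ⟨m, hm⟩ := exists_sum_subgroup (isCharacter_of_isIrr χ.2) (Subgroup.zpowers (D.em k))
    have ho' : orderOf (D.em k) = n := by rw [orderOf_injective D.em D.em_injective, hn]
    refine ⟨m, ?_⟩
    rw [Nat.card_zpowers, ho'] at hm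
    rw [← hm, ← ho', ← Fin.sum_univ_eq_sum_range (fun i => (χ : G → ℂ) (D.em k ^ i))]
    exact Fintype.sum_equiv (finEquivZPowers (isOfFinOrder_of_finite _)) _ _ fun i => rfl
  have hv1 : (χ : G → ℂ) (D.em (rep j')) = E := hE
  have hv : ∀ i (q : Fin 4), ((ty (rep j' ^ i) : Fin 5) : ℕ) = q →
      (χ : G → ℂ) (D.em (rep j') ^ i) = D.val χ q := fun i q h => by
    rw [← map_pow]; exact D.exists_classFun_value χ h
  obtain ⟨m, hm⟩ := cyc (rep j') 6 ho
  obtain ⟨n, hn⟩ := cyc (rep j' ^ 2) 3 (by rw [orderOf_pow, ho]; rfl)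
  simp only [Finset.sum_range_succ, Finset.sum_range_zero, zero_add, pow_zero, pow_one, map_pow,
    ← pow_mul] at hm hn
  rw [hd, hv1, hv 2 j h2, hv 4 j h4, hv 5 j' h5, ← map_pow, ← ht, ha, hX, hE] at hm
  simp only [Nat.reduceMul, pow_zero] at hn
  rw [hd, hv 2 j h2, hv 4 j h4, hX] at hn
  have e1 : ((d : ℤ) + E + X + a' + X + E) = 6 * m := by exact_mod_cast hm
  have e2 : ((d : ℤ) + X + X) = 3 * n := by exact_mod_cast hn
  omega

theorem nine_dvd (χ : IrrCharacter G) (d : ℕ) (hd : (χ : G → ℂ) 1 = d) (h9 : 9 ∣ d) {k : K}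
    (hk : k.t = 1) (hk1 : k ≠ 1) (w : ℤ) (hw : (χ : G → ℂ) (D.em k) = w) : (9 : ℤ) ∣ w := by
  have h := isIntegral_omega_irr χ.2 (D.em k)
  rw [omega, hw, hd] at h
  obtain ⟨m, hm⟩ := exists_int_of_isIntegral_rat
    (q := (((Subgroup.centralizer ({D.em k} : Set G)).index : ℚ) * w / d)) (by push_cast; exact h)
  have hd0 : (d : ℚ) ≠ 0 := by
    intro e
    have : d = 0 := by exact_mod_cast e
    exact irr_degree_ne_zero χ.2 (by rw [hd, this, Nat.cast_zero])
  rw [div_eq_iff hd0] at hm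
  have e : ((Subgroup.centralizer ({D.em k} : Set G)).index : ℤ) * w = m * d := by exact_mod_cast hm
  have h9' : (9 : ℤ) ∣ ((Subgroup.centralizer ({D.em k} : Set G)).index : ℤ) * w :=
    e ▸ Dvd.dvd.mul_left (by exact_mod_cast h9) m
  have h3 : ¬ (3 : ℤ) ∣ ((Subgroup.centralizer ({D.em k} : Set G)).index : ℤ) := by
    intro h3
    haveI : Fact (Nat.Prime 3) := ⟨Nat.prime_three⟩
    have hle : M ≤ Subgroup.centralizer ({D.em k} : Set G) := D.hyp.le_centralizer ((D.mem_M k).mpr hk)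
    have h27 : 3 ^ 3 ∣ Nat.card G := by
      rw [← (Subgroup.centralizer ({D.em k} : Set G)).card_mul_index, pow_succ]
      exact Nat.mul_dvd_mul (by rw [show (3 : ℕ) ^ 2 = 9 by norm_num, ← D.hyp.card]
                                exact Subgroup.card_dvd_of_le hle) (by exact_mod_cast h3)
    let PM : Sylow 3 G := ⟨M, D.hyp.isPGroup, fun hQ hle => D.hyp.maximal _ hQ hle⟩
    have hd' := Sylow.pow_dvd_card_of_pow_dvd_card (n := 3) (p := 3) PM h27
    change 3 ^ 3 ∣ Nat.card M at hd'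
    rw [D.hyp.card] at hd'
    norm_num at hd'
  have hc : IsCoprime (9 : ℤ) ((Subgroup.centralizer ({D.em k} : Set G)).index : ℤ) := by
    have : IsCoprime (3 : ℤ) ((Subgroup.centralizer ({D.em k} : Set G)).index : ℤ) :=
      (Int.prime_three.coprime_iff_not_dvd).mpr h3
    exact show IsCoprime ((3 : ℤ) * 3) _ from this.mul_left this
  exact hc.dvd_of_dvd_mul_left h9'

theorem total_ne (χ : IrrCharacter G) (c : Fin 4 → ℤ) (hc : ∀ i, D.coef i (χ : G → ℂ) = c i)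
    (hb : ∀ i, |c i| ≤ 1) (hne : ∃ i, c i ≠ 0) :
    c 0 + c 1 + c 2 + c 3 ≠ 0 ∧ c 0 + c 1 + c 2 + c 3 ≠ 3 ∧ c 0 + c 1 + c 2 + c 3 ≠ -3 := by
  obtain ⟨v0, v1, v2, v3⟩ := D.val_eq χ c hc
  obtain ⟨d, hd0, hd⟩ := exists_nat_degree_irr χ.2
  have hcg := D.degree_congr χ d hd _ _ v0 v1
  have b0 := abs_le.mp (hb 0); have b1 := abs_le.mp (hb 1)
  have b2 := abs_le.mp (hb 2); have b3 := abs_le.mp (hb 3)
  have hs0 : c 0 + c 1 + c 2 + c 3 ≠ 0 := by
    intro hs
    have h9 : 9 ∣ d := by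
      have : (9 : ℤ) ∣ (d : ℤ) := by omega
      exact_mod_cast this
    have h0 := D.nine_dvd χ d hd h9 (k := rep 0) rfl (by decide +kernel) _ v0
    have h2 := D.not_dvd_of_zero χ d hd h9 (rep 2) (Or.inl (by decide +kernel)) _ v2
    have h3 := D.not_dvd_of_zero χ d hd h9 (rep 3) (Or.inr (by decide +kernel)) _ v3
    obtain ⟨i, hi⟩ := hne
    fin_cases i <;> simp at hi <;> omega
  refine ⟨hs0, ?_⟩
  by_contra hcon
  have hs3 : c 0 + c 1 + c 2 + c 3 = 3 ∨ c 0 + c 1 + c 2 + c 3 = -3 := by omega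
  obtain ⟨y, hy, hy'⟩ := D.sum_eight χ
  have hz : D.val χ 0 = 0 ∨ D.val χ 1 = 0 := by
    rw [v0, v1]
    rcases (show 2 * (c 2 + c 3) - (c 0 + c 1) = 0 ∨ 2 * (c 0 + c 1) - (c 2 + c 3) = 0 by omega)
      with h | h <;> rw [h] <;> simp
  have hl : omega (χ : G → ℂ) (D.em (rep 0)) * omega (χ : G → ℂ) (D.em (rep 1)) * (χ : G → ℂ) 1 = 0 := by
    rcases hz with h | h <;> (unfold val at h; simp [omega, h])
  rw [hl, v0, v1] at hy'
  have h9 := dvd_sub_of_integral (a := 0) (n := 9) (by norm_num) hy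
    (show ((0 : ℤ) : ℂ) = ((8 * (2 * (c 2 + c 3) - (c 0 + c 1)) + 8 * (2 * (c 0 + c 1) - (c 2 + c 3)) : ℤ) : ℂ)
      + ((9 : ℕ) : ℂ) * y by push_cast; push_cast at hy'; linear_combination hy')
  push_cast at h9
  omega

/-- The principal character. -/
noncomputable def oneIrr (G : Type u) [Group G] : IrrCharacter G :=
  ⟨fun _ => (1 : ℂ), isIrrCharacter_one⟩

/-- The eight irreducible constituents of the four virtual characters, besides the principal one. -/
structure Std where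
  χ : Fin 8 → IrrCharacter G
  ε : Fin 8 → ℤ
  d : Fin 8 → ℕ
  injective : Function.Injective χ
  sign : ∀ j, ε j = 1 ∨ ε j = -1
  degree : ∀ j, (χ j : G → ℂ) 1 = d j
  degree_ne : ∀ j, d j ≠ 0
  ne_one : ∀ j, χ j ≠ oneIrr G
  coef_eq : ∀ j k, D.coef k (χ j : G → ℂ) = ((ε j * (std[(j : ℕ)]!).get k : ℤ) : ℂ)
  unique : ∀ ξ, ξ ≠ oneIrr G → (∀ i, D.coef i (ξ : G → ℂ) = 0) ∨ ∃ j, ξ = χ j
  split : ∀ h : IrrCharacter G → ℂ,
    (∀ ξ, ξ ≠ oneIrr G → (∀ i, D.coef i (ξ : G → ℂ) = 0) → h ξ = 0) →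
      ∑ ξ, h ξ = h (oneIrr G) + ∑ j : Fin 8, h (χ j)

theorem exists_std : Nonempty D.Std := by
  classical
  choose c hc using fun (χ : IrrCharacter G) (i : Fin 4) => D.exists_int_coef i χ
  let one : IrrCharacter G := ⟨_, isIrrCharacter_one⟩
  have hone : ∀ i, c one i = if i = 0 ∨ i = 2 then 1 else 0 := fun i =>
    Int.cast_injective ((hc one i).symm.trans (D.coef_principal i))
  have hgram := fun i j => D.coef_gram i j c hc
  have hgram' : ∀ i j : Fin 4, ∑ χ ∈ Finset.univ.erase one, c χ i * c χ j =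
      (if i = j then 4 else if (i = 0 ∧ j = 1) ∨ (i = 1 ∧ j = 0) ∨ (i = 2 ∧ j = 3) ∨ (i = 3 ∧ j = 2)
        then 1 else 2) - (if i = 0 ∨ i = 2 then 1 else 0) * (if j = 0 ∨ j = 2 then 1 else 0) := by
    intro i j
    rw [Finset.sum_erase_eq_sub (Finset.mem_univ _), hgram, hone, hone]
  have hdeg : ∀ i, ∑ χ : IrrCharacter G, (c χ i : ℂ) * (χ : G → ℂ) 1 = 0 := fun i => by
    rw [← D.coef_sum_eq_zero i (mul_one (1 : G))]
    exact Finset.sum_congr rfl fun χ _ => by rw [hc]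
  have hb : ∀ χ i, χ ≠ one → |c χ i| ≤ 1 := by
    intro χ i hne
    have hsum := hgram' i i
    have hle : c χ i * c χ i ≤ ∑ ξ ∈ Finset.univ.erase one, c ξ i * c ξ i :=
      Finset.single_le_sum (f := fun ξ => c ξ i * c ξ i) (fun ξ _ => mul_self_nonneg _)
        (Finset.mem_erase.mpr ⟨hne, Finset.mem_univ _⟩)
    rw [hsum] at hle
    simp only [if_true] at hle hsum
    by_cases h02 : i = 0 ∨ i = 2
    · simp only [h02, if_true] at hle
      rw [abs_le]; constructor <;> nlinarith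
    · simp only [h02, if_false, mul_zero, sub_zero] at hle hsum
      by_contra hgt
      have habs : c χ i = 2 ∨ c χ i = -2 := by
        have h2 : |c χ i| ≤ 2 := by rw [abs_le]; constructor <;> nlinarith
        rw [abs_le] at hgt h2
        omega
      have hzero : ∀ ξ ∈ Finset.univ.erase χ, (c ξ i : ℂ) * (ξ : G → ℂ) 1 = 0 := by
        intro ξ hξ
        have hall := hgram i i
        rw [if_pos rfl, ← Finset.add_sum_erase _ _ (Finset.mem_univ χ)] at hall
        have h0 : ∑ η ∈ Finset.univ.erase χ, c η i * c η i = 0 := by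
          rcases habs with h | h <;> (rw [h] at hall; linarith)
        have := (Finset.sum_eq_zero_iff_of_nonneg fun η _ => mul_self_nonneg _).mp h0 ξ hξ
        rw [mul_self_eq_zero] at this
        rw [this, Int.cast_zero, zero_mul]
      have h := hdeg i
      rw [← Finset.add_sum_erase _ _ (Finset.mem_univ χ), Finset.sum_eq_zero hzero, add_zero] at h
      rcases mul_eq_zero.mp h with h | h
      · have : c χ i = 0 := by exact_mod_cast h
        omega
      · exact irr_degree_ne_zero χ.2 h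
  let ι := {χ : IrrCharacter G // χ ≠ one ∧ ∃ i, c χ i ≠ 0}
  haveI : Fintype ι := Fintype.ofFinite ι
  let v : ι → Vec := fun χ => (c χ.1 0, c χ.1 1, c χ.1 2, c χ.1 3)
  have hget : ∀ (χ : ι) k, (v χ).get k = c χ.1 k := fun χ k => by fin_cases k <;> rfl
  have hsplit : ∀ (h : IrrCharacter G → ℂ), (∀ χ, χ ≠ one → (∀ i, c χ i = 0) → h χ = 0) →
      ∑ χ, h χ = h one + ∑ χ : ι, h χ.1 := by
    intro h hh
    rw [← Finset.add_sum_erase _ _ (Finset.mem_univ one)]
    congr 1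
    rw [← Finset.sum_subtype ((Finset.univ.erase one).filter fun χ => ∃ i, c χ i ≠ 0)
      (fun χ => by simp) h]
    refine (Finset.sum_filter_of_ne fun χ hχ hne => ?_).symm
    by_contra hall
    exact hne (hh χ (Finset.mem_erase.mp hχ).1 fun i => not_not.mp fun hi => hall ⟨i, hi⟩)
  have hpair : ∀ i j : Fin 4, ∑ χ : ι, c χ.1 i * c χ.1 j = (if i = j then (4 : ℤ) else
      if (i = 0 ∧ j = 1) ∨ (i = 1 ∧ j = 0) ∨ (i = 2 ∧ j = 3) ∨ (i = 3 ∧ j = 2)
        then 1 else 2) - (if i = 0 ∨ i = 2 then 1 else 0) * (if j = 0 ∨ j = 2 then 1 else 0) := by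
    intro i j
    have h := hsplit (fun χ => ((c χ i * c χ j : ℤ) : ℂ)) fun χ _ h => by simp [h i]
    rw [← Int.cast_sum, ← Int.cast_sum, ← Int.cast_add, Int.cast_inj, hgram, hone, hone] at h
    linarith
  obtain ⟨e, ε, he⟩ := classify v (fun χ k => by rw [hget]; exact hb _ _ χ.2.1)
    (fun χ => D.total_ne χ.1 (c χ.1) (hc χ.1) (fun i => hb _ _ χ.2.1) χ.2.2)
    (fun k => by
      match k with
      | 0 => exact (hpair 0 0).trans rfl
      | 1 => exact (hpair 1 1).trans rfl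
      | 2 => exact (hpair 2 2).trans rfl
      | 3 => exact (hpair 3 3).trans rfl
      | 4 => exact (hpair 0 1).trans rfl
      | 5 => exact (hpair 0 2).trans rfl
      | 6 => exact (hpair 0 3).trans rfl
      | 7 => exact (hpair 1 2).trans rfl
      | 8 => exact (hpair 1 3).trans rfl
      | 9 => exact (hpair 2 3).trans rfl)
  have hcv : ∀ j k, c (e j).1 k = ε j * (std[(j : ℕ)]!).get k := fun j k => by rw [← hget, (he j).2]
  choose d hd0 hd using fun j => exists_nat_degree_irr (e j).1.2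
  have hz : ∀ ξ : IrrCharacter G, (∀ i, D.coef i (ξ : G → ℂ) = 0) ↔ ∀ i, c ξ i = 0 := fun ξ =>
    forall_congr' fun i => by rw [hc]; exact Int.cast_eq_zero
  refine ⟨⟨fun j => (e j).1, ε, d, fun a b h => e.injective (Subtype.ext h), fun j => (he j).1, hd,
    fun j => (hd0 j).ne', fun j => (e j).2.1, fun j k => by rw [hc, hcv], fun ξ hξ => ?_, fun h hh => ?_⟩⟩
  · by_cases hall : ∀ i, c ξ i = 0
    · exact Or.inl ((hz ξ).mpr hall)
    · exact Or.inr ⟨e.symm ⟨ξ, hξ, not_forall.mp hall⟩, by rw [Equiv.apply_symm_apply]⟩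
  · refine (hsplit h fun ξ hξ hi => hh ξ hξ ((hz ξ).mpr hi)).trans ?_
    congr 1
    exact (e.sum_comp fun x => h x.1).symm

namespace Std

variable {D} (T : D.Std)

/-- Signed degrees. -/
def L (j : Fin 8) : ℤ := T.ε j * T.d j

theorem sign_mul (j : Fin 8) : T.ε j * T.ε j = 1 := by
  rcases T.sign j with h | h <;> rw [h] <;> norm_num

theorem sign_mul' (j : Fin 8) : (T.ε j : ℂ) * T.ε j = 1 := by exact_mod_cast T.sign_mul j

theorem L_ne (j : Fin 8) : T.L j ≠ 0 := by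
  have h := T.degree_ne j
  rcases T.sign j with e | e <;> simp only [L, e] <;> omega

theorem lin (i : Fin 4) (h : IrrCharacter G → ℂ) : ∑ ξ : IrrCharacter G, D.coef i (ξ : G → ℂ) * h ξ =
    ((if i = 0 ∨ i = 2 then 1 else 0 : ℤ) : ℂ) * h (oneIrr G) +
      ∑ j : Fin 8, ((std[(j : ℕ)]!).get i : ℂ) * ((T.ε j : ℂ) * h (T.χ j)) := by
  rw [T.split _ fun ξ _ hz => by rw [hz i, zero_mul],
    show D.coef i (oneIrr G : G → ℂ) = _ from D.coef_principal i]
  congr 1
  exact Finset.sum_congr rfl fun j _ => by rw [T.coef_eq]; push_cast; ring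

theorem sum_value (i : Fin 4) {g : G} (hg : g * g = 1) (v : Fin 8 → ℤ)
    (hv : ∀ j, (T.ε j : ℂ) * (T.χ j : G → ℂ) g = v j) :
    (if i = 0 ∨ i = 2 then 1 else 0 : ℤ) + ∑ j : Fin 8, (std[(j : ℕ)]!).get i * v j = 0 := by
  have h := T.lin i fun ξ => (ξ : G → ℂ) g
  rw [D.coef_sum_eq_zero i hg, show (oneIrr G : G → ℂ) g = 1 from rfl, mul_one] at h
  refine Int.cast_injective (α := ℂ) ?_
  push_cast at h ⊢
  refine Eq.trans ?_ h.symm
  exact congrArg₂ (· + ·) rfl (Finset.sum_congr rfl fun j _ => by rw [hv])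

theorem sum_L (i : Fin 4) :
    (if i = 0 ∨ i = 2 then 1 else 0 : ℤ) + ∑ j : Fin 8, (std[(j : ℕ)]!).get i * T.L j = 0 :=
  T.sum_value i (mul_one 1) T.L fun j => by rw [T.degree, L]; push_cast; rfl

theorem sum_psi (i : Fin 4) (S : Finset G) (P : Fin 8 → ℤ) (hS : ∀ g ∈ S, g * g = 1)
    (hP : ∀ j, psi S (T.χ j : G → ℂ) = T.ε j * P j) :
    ∑ j : Fin 8, (std[(j : ℕ)]!).get i * P j = 0 := by
  have h := T.lin i fun ξ => psi S (ξ : G → ℂ)
  have h0 : ∑ ξ : IrrCharacter G, D.coef i (ξ : G → ℂ) * psi S (ξ : G → ℂ) = 0 := by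
    simp only [psi, Finset.mul_sum, mul_sub]
    rw [Finset.sum_comm]
    refine Finset.sum_eq_zero fun g hg => ?_
    rw [Finset.sum_sub_distrib, D.coef_sum_eq_zero i (hS g hg), D.coef_sum_eq_zero i (mul_one (1 : G)), sub_zero]
  rw [h0, show psi S (oneIrr G : G → ℂ) = 0 by simp [psi, oneIrr], mul_zero, zero_add] at h
  refine Int.cast_injective (α := ℂ) ?_
  push_cast
  refine Eq.trans ?_ h.symm
  refine Finset.sum_congr rfl fun j _ => ?_
  rw [hP, ← mul_assoc (T.ε j : ℂ), T.sign_mul', one_mul]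

theorem sum_quad (i : Fin 4) (S S' : Finset G) (P Q : Fin 8 → ℤ) (w : ℤ)
    (hP : ∀ j, psi S (T.χ j : G → ℂ) = T.ε j * P j) (hQ : ∀ j, psi S' (T.χ j : G → ℂ) = T.ε j * Q j)
    (h : ∑ ξ : IrrCharacter G, D.coef i (ξ : G → ℂ) *
      (psi S (ξ : G → ℂ) * psi S' (ξ : G → ℂ) / (ξ : G → ℂ) 1) = (Nat.card G : ℂ) * w / 2) :
    ∑ j : Fin 8, ((std[(j : ℕ)]!).get i : ℚ) * ((P j : ℚ) * Q j / T.L j) = (Nat.card G : ℚ) * w / 2 := by
  rw [T.lin i fun ξ => psi S (ξ : G → ℂ) * psi S' (ξ : G → ℂ) / (ξ : G → ℂ) 1,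
    show psi S (oneIrr G : G → ℂ) = 0 by simp [psi, oneIrr], zero_mul, zero_div, mul_zero, zero_add] at h
  refine Rat.cast_injective (α := ℂ) ?_
  push_cast
  rw [← h]
  refine Finset.sum_congr rfl fun j _ => ?_
  have hdj : (T.d j : ℂ) ≠ 0 := Nat.cast_ne_zero.mpr (T.degree_ne j)
  rw [hP, hQ, T.degree]
  congr 1
  rcases T.sign j with h | h <;> simp only [L, h] <;> push_cast <;> field_simp

theorem eq_member (ξ : IrrCharacter G) (j : Fin 8) (s : ℤ) (hs : s = 1 ∨ s = -1)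
    (h : ∀ k, D.coef k (ξ : G → ℂ) = ((s * (std[(j : ℕ)]!).get k : ℤ) : ℂ)) :
    ξ = T.χ j ∧ s = T.ε j := by
  have hne : ξ ≠ oneIrr G := by
    rintro rfl
    have e : ∀ k, s * (std[(j : ℕ)]!).get k = if k = 0 ∨ k = 2 then 1 else 0 := fun k =>
      Int.cast_injective ((h k).symm.trans (D.coef_principal k))
    exact (std_facts s (by simpa using hs) j).1 e
  rcases T.unique ξ hne with h0 | ⟨j', rfl⟩
  · exfalso
    have e : ∀ k, s * (std[(j : ℕ)]!).get k = 0 := fun k => by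
      exact_mod_cast (h k).symm.trans (h0 k)
    exact (std_facts s (by simpa using hs) j).2.1 e
  · have e : ∀ k, s * (std[(j : ℕ)]!).get k = T.ε j' * (std[(j' : ℕ)]!).get k := fun k =>
      Int.cast_injective ((h k).symm.trans (T.coef_eq j' k))
    have key : j = j' ∧ s = T.ε j' :=
      (std_facts s (by simpa using hs) j).2.2 (T.ε j') (by simpa using T.sign j') j' e
    exact ⟨congrArg T.χ key.1.symm, key.1 ▸ key.2⟩

end Std

theorem exists_linear_of_not_conj (hza : ¬ IsConj D.a D.z) :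
    ∃ χ : G →* ℂˣ, χ D.a ≠ 1 ∧ χ D.c ≠ 1 := by
  classical
  obtain ⟨T⟩ := D.exists_std
  let ε := T.ε
  let e := T.χ
  have he : ∀ j, ε j = 1 ∨ ε j = -1 := T.sign
  have hex : ∀ j : Fin 8, ∃ a' c' PA PZ : ℤ,
      (e j : G → ℂ) D.a = a' ∧ (e j : G → ℂ) D.c = c' ∧
      psi D.SA (e j : G → ℂ) = PA ∧ psi D.SZ (e j : G → ℂ) = PZ ∧
      (9 : ℤ) ∣ PA - 6 * (a' - T.d j) ∧ (9 : ℤ) ∣ PZ - 6 * (c' - T.d j) ∧
      (9 : ℤ) ∣ (T.d j : ℤ) + 4 * (ε j * (std[(j : ℕ)]!).get 0 + ε j * (std[(j : ℕ)]!).get 1 +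
        ε j * (std[(j : ℕ)]!).get 2 + ε j * (std[(j : ℕ)]!).get 3) ∧
      (3 : ℤ) ∣ a' - (ε j * (std[(j : ℕ)]!).get 0 - ε j * (std[(j : ℕ)]!).get 1) ∧
      (3 : ℤ) ∣ c' - (ε j * (std[(j : ℕ)]!).get 2 - ε j * (std[(j : ℕ)]!).get 3) := by
    intro j
    have hd := T.degree j
    obtain ⟨a', c', PA, PZ, h1, h2, h3, h4, h5, h6⟩ := D.psi_congr hza (e j) _ hd
    obtain ⟨v0, v1, v2, v3⟩ := D.val_eq (e j) (fun k => ε j * (std[(j : ℕ)]!).get k) (T.coef_eq j)
    have hcg := D.degree_congr (e j) _ hd _ _ v0 v1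
    refine ⟨a', c', PA, PZ, h1, h2, h3, h4, h5, h6, ?_, ?_, ?_⟩
    · omega
    · exact D.involution_congr (e j) _ hd 0 2 ⟨0, .sr 0⟩ (by decide +kernel)
        ((orderOf_eq_iff (by norm_num)).mpr ⟨by decide +kernel, fun m hm hm0 => by
          interval_cases m <;> decide +kernel⟩)
        (by decide +kernel) (by decide +kernel) (by decide +kernel) _ _ a' v0 v2 h1
    · exact D.involution_congr (e j) _ hd 1 3 ⟨0, .sr 3⟩ (by decide +kernel)
        ((orderOf_eq_iff (by norm_num)).mpr ⟨by decide +kernel, fun m hm hm0 => by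
          interval_cases m <;> decide +kernel⟩)
        (by decide +kernel) (by decide +kernel) (by decide +kernel) _ _ c' v1 v3 h2
  choose a' c' PA PZ hva hvc hPA hPZ hcA hcZ hcd hca hcc using hex
  let d := T.d
  let L : Fin 8 → ℤ := fun j => ε j * d j
  let A : Fin 8 → ℤ := fun j => ε j * PA j
  let Z : Fin 8 → ℤ := fun j => ε j * PZ j
  have hεε : ∀ j, ε j * ε j = 1 := T.sign_mul
  have hL0 : ∀ j, (L j : ℂ) ≠ 0 := fun j => Int.cast_ne_zero.mpr (T.L_ne j)
  have sumL := T.sum_L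
  have eA : ∀ j, psi D.SA (e j : G → ℂ) = ε j * A j := fun j => by
    rw [hPA, show A j = ε j * PA j from rfl]; push_cast
    rw [← mul_assoc, ← Int.cast_mul, hεε]; simp
  have eZ : ∀ j, psi D.SZ (e j : G → ℂ) = ε j * Z j := fun j => by
    rw [hPZ, show Z j = ε j * PZ j from rfl]; push_cast
    rw [← mul_assoc, ← Int.cast_mul, hεε]; simp
  have sA := fun i => T.sum_psi i D.SA A (fun g hg => D.sq_SA (D.mem_SA.mp hg)) eA
  have sZ := fun i => T.sum_psi i D.SZ Z (fun g hg => D.sq_SZ (D.mem_SZ.mp hg)) eZ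
  have qAA := fun i => T.sum_quad i _ _ A A _ eA eA (D.coef_conv i _ _ isA isA (D.em_mem_SA hza) (D.em_mem_SA hza)
    (fun g hg => D.sq_SA (D.mem_SA.mp hg)) (fun g hg => D.sq_SA (D.mem_SA.mp hg))
    (fun n => (D.conv_all n).1) _ (count_table i).1)
  have qAZ := fun i => T.sum_quad i _ _ A Z _ eA eZ (D.coef_conv i _ _ isA isZ (D.em_mem_SA hza) (D.em_mem_SZ hza)
    (fun g hg => D.sq_SA (D.mem_SA.mp hg)) (fun g hg => D.sq_SZ (D.mem_SZ.mp hg))
    (fun n => (D.conv_all n).2.1) _ (count_table i).2.1)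
  have qZZ := fun i => T.sum_quad i _ _ Z Z _ eZ eZ (D.coef_conv i _ _ isZ isZ (D.em_mem_SZ hza) (D.em_mem_SZ hza)
    (fun g hg => D.sq_SZ (D.mem_SZ.mp hg)) (fun g hg => D.sq_SZ (D.mem_SZ.mp hg))
    (fun n => (D.conv_all n).2.2.2) _ (count_table i).2.2.2)
  have hcong : ∀ (j : Fin 8) (s u w : ℤ),
      (std[(j : ℕ)]!).get 0 + (std[(j : ℕ)]!).get 1 + (std[(j : ℕ)]!).get 2 + (std[(j : ℕ)]!).get 3 = s →
      (std[(j : ℕ)]!).get 0 - (std[(j : ℕ)]!).get 1 = u →
      (std[(j : ℕ)]!).get 2 - (std[(j : ℕ)]!).get 3 = w →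
      (9 : ℤ) ∣ L j + 4 * s ∧ (9 : ℤ) ∣ A j - 6 * (u - L j) ∧ (9 : ℤ) ∣ Z j - 6 * (w - L j) := by
    intro j s u w hs hu hw
    have h1 := hcd j; have h2 := hca j; have h3 := hcc j
    have h4 := hcA j; have h5 := hcZ j
    rcases he j with hj | hj <;> simp only [L, A, Z, d, hj] at h1 h2 h3 h4 h5 ⊢ <;> omega
  obtain ⟨r0, r1, r2⟩ := hcong 0 4 0 0 (by decide) (by decide) (by decide)
  obtain ⟨k0, k1, k2⟩ := hcong 1 2 (-1) (-1) (by decide) (by decide) (by decide)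
  obtain ⟨m0, m1, m2⟩ := hcong 2 2 (-1) 1 (by decide) (by decide) (by decide)
  simp only [Fin.sum_univ_eight, show ∀ j, T.L j = L j from fun _ => rfl] at sumL sA sZ qAA qAZ qZZ
  have l0 := sumL 0; have l1 := sumL 1; have l2 := sumL 2; have l3 := sumL 3
  have a0 := sA 0; have a1 := sA 1; have a2 := sA 2; have a3 := sA 3
  have z0 := sZ 0; have z1 := sZ 1; have z2 := sZ 2; have z3 := sZ 3
  simp +decide [std, (get_eqs _).1, (get_eqs _).2.1, (get_eqs _).2.2.1, (get_eqs _).2.2.2] at l0 l1 l2 l3 a0 a1 a2 a3 z0 z1 z2 z3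
  have hne : ∀ j, L j ≠ 0 := fun j => by exact_mod_cast hL0 j
  have hfin := linear_of_forms (l2 := L 3) (l3 := L 2) (l4 := L 1) (r := L 0) (p2 := A 3) (p3 := A 2)
    (p4 := A 1) (p := A 0) (q2 := Z 3) (q3 := Z 2) (q4 := Z 1) (q := Z 0) (γ := (Nat.card G : ℚ))
    (hne 3) (by omega) (by omega) (by omega) (by omega) (by omega) (by omega) (by omega)
    (Nat.cast_ne_zero.mpr Nat.card_pos.ne')
    (by have := hne 7; omega) (by have := hne 6; omega) (by have := hne 5; omega) (by have := hne 4; omega)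
  have fl0 : (L 7 : ℚ) = -(1 + L 3 + L 0) := by exact_mod_cast (show L 7 = -(1 + L 3 + L 0) by omega)
  have fl1 : (L 6 : ℚ) = -(L 2 + L 1 + L 0) := by exact_mod_cast (show L 6 = -(L 2 + L 1 + L 0) by omega)
  have fl2 : (L 5 : ℚ) = -(1 + L 2 + L 0) := by exact_mod_cast (show L 5 = -(1 + L 2 + L 0) by omega)
  have fl3 : (L 4 : ℚ) = -(L 3 + L 1 + L 0) := by exact_mod_cast (show L 4 = -(L 3 + L 1 + L 0) by omega)
  have fa0 : (A 7 : ℚ) = -(A 3 + A 0) := by exact_mod_cast (show A 7 = -(A 3 + A 0) by omega)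
  have fa1 : (A 6 : ℚ) = -(A 2 + A 1 + A 0) := by exact_mod_cast (show A 6 = -(A 2 + A 1 + A 0) by omega)
  have fa2 : (A 5 : ℚ) = -(A 2 + A 0) := by exact_mod_cast (show A 5 = -(A 2 + A 0) by omega)
  have fa3 : (A 4 : ℚ) = -(A 3 + A 1 + A 0) := by exact_mod_cast (show A 4 = -(A 3 + A 1 + A 0) by omega)
  have fz0 : (Z 7 : ℚ) = -(Z 3 + Z 0) := by exact_mod_cast (show Z 7 = -(Z 3 + Z 0) by omega)
  have fz1 : (Z 6 : ℚ) = -(Z 2 + Z 1 + Z 0) := by exact_mod_cast (show Z 6 = -(Z 2 + Z 1 + Z 0) by omega)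
  have fz2 : (Z 5 : ℚ) = -(Z 2 + Z 0) := by exact_mod_cast (show Z 5 = -(Z 2 + Z 0) by omega)
  have fz3 : (Z 4 : ℚ) = -(Z 3 + Z 1 + Z 0) := by exact_mod_cast (show Z 4 = -(Z 3 + Z 1 + Z 0) by omega)
  have Aaa := qAA 0; have Aaz := qAZ 0; have Azz := qZZ 0
  have Baa := qAA 1; have Baz := qAZ 1; have Bzz := qZZ 1
  have Caa := qAA 2; have Caz := qAZ 2; have Czz := qZZ 2
  have Daa := qAA 3; have Daz := qAZ 3; have Dzz := qZZ 3
  simp +decide [std, (get_eqs _).1, (get_eqs _).2.1, (get_eqs _).2.2.1, (get_eqs _).2.2.2, -Nat.card_eq_fintype_card] at Aaa Aaz Azz Baa Baz Bzz Caa Caz Czz Daa Daz Dzz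
  rw [fl0, fa0] at Aaa
  rw [fl0, fa0, fz0] at Aaz
  rw [fl0, fz0] at Azz
  rw [fl1, fa1] at Baa
  rw [fl1, fa1, fz1] at Baz
  rw [fl1, fz1] at Bzz
  rw [fl2, fa2] at Caa
  rw [fl2, fa2, fz2] at Caz
  rw [fl2, fz2] at Czz
  rw [fl3, fa3] at Daa
  rw [fl3, fa3, fz3] at Daz
  rw [fl3, fz3] at Dzz
  simp only [div_neg] at Aaa Aaz Azz Baa Baz Bzz Caa Caz Czz Daa Daz Dzz
  have hl1 : L 1 = 1 := by
    refine hfin ?_ ?_ ?_ ?_ ?_ ?_ ?_ ?_ ?_ ?_ ?_ ?_ <;> unfold form
    · linear_combination Aaa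
    · linear_combination Aaz
    · linear_combination Azz
    · linear_combination Baa
    · linear_combination Baz
    · linear_combination Bzz
    · linear_combination Caa
    · linear_combination Caz
    · linear_combination Czz
    · linear_combination Daa
    · linear_combination Daz
    · linear_combination Dzz
  have hd1 : ε 1 = 1 ∧ d 1 = 1 := by
    rcases he 1 with h | h <;> simp only [L, h] at hl1 <;> refine ⟨?_, ?_⟩ <;> omega
  have h1 : (e 1 : G → ℂ) 1 = 1 := by rw [T.degree, show T.d 1 = 1 from hd1.2, Nat.cast_one]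
  have hna := hca 1; have hnc := hcc 1
  simp only [hd1.1] at hna hnc
  simp +decide [std, (get_eqs _).1, (get_eqs _).2.1, (get_eqs _).2.2.1, (get_eqs _).2.2.2] at hna hnc
  refine ⟨linearHom (isCharacter_of_isIrr (e 1).2) h1, fun h => ?_, fun h => ?_⟩
  · have e' := congrArg (Units.val : ℂˣ → ℂ) h
    rw [linearHom_apply, hva, Units.val_one] at e'
    have : a' 1 = 1 := by exact_mod_cast e'
    omega
  · have e' := congrArg (Units.val : ℂˣ → ℂ) h
    rw [linearHom_apply, hvc, Units.val_one] at e'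
    have : c' 1 = 1 := by exact_mod_cast e'
    omega

end DData

/-- A dihedral automizer gives a nontrivial linear character. -/
theorem exists_linear (D : DData M) : ∃ χ : G →* ℂˣ, χ D.a ≠ 1 ∧ χ D.c ≠ 1 := by
  classical
  haveI : Fintype G := Fintype.ofFinite G
  by_cases h : IsConj D.a D.z
  · have ea : D.flip.a = D.c := congrArg D.em (show phi _ = _ from (phi_apply _).trans phi_values.1)
    have ez : D.flip.z = D.z := congrArg D.em (show phi _ = _ from (phi_apply _).trans phi_values.2.2)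
    have ec : D.flip.c = D.a := congrArg D.em (show phi _ = _ from (phi_apply _).trans phi_values.2.1)
    have h' : ¬ IsConj D.flip.a D.flip.z := by
      rw [ea, ez]
      exact fun h' => D.not_conj_ac (h.trans h'.symm)
    obtain ⟨χ, h1, h2⟩ := D.flip.exists_linear_of_not_conj h'
    rw [ea] at h1
    rw [ec] at h2
    exact ⟨χ, h2, h1⟩
  · exact D.exists_linear_of_not_conj h

end CfsgLib.NineTI
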