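import Mathlib
import Cfsg.Agent.Lib.Char.Induced
import Cfsg.Agent.Lib.Char.Virtual

/-!
The model `3² : D₈` of a normalizer, its four virtual characters and their finite tables.
-/

set_option autoImplicit false

namespace CfsgLib.NineTI.D8

/-- Points of the elementary abelian group of order nine. -/
abbrev V2 : Type := ZMod 3 × ZMod 3

/-- Rotation by a right angle, `k` times. -/
def rot (k : ZMod 4) (v : V2) : V2 :=
  if k = 0 then v else if k = 1 then (-v.2, v.1) else if k = 2 then (-v.1, -v.2) else (v.2, -v.1)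

/-- The action of the dihedral group of order eight. -/
def act : DihedralGroup 4 → V2 → V2
  | .r i, v => rot i v
  | .sr i, v => ((rot i v).1, -(rot i v).2)

theorem act_mul : ∀ s t : DihedralGroup 4, ∀ v : V2, act (s * t) v = act s (act t v) := by
  decide +kernel

theorem act_add : ∀ s : DihedralGroup 4, ∀ v w : V2, act s (v + w) = act s v + act s w := by
  decide +kernel

theorem act_one : ∀ v : V2, act 1 v = v := by decide +kernel

/-- The model group. -/
@[ext] structure K where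
  v : V2
  t : DihedralGroup 4
deriving DecidableEq

/-- Enumeration of the model group. -/
def equivProd : K ≃ V2 × DihedralGroup 4 where
  toFun k := (k.v, k.t)
  invFun p := ⟨p.1, p.2⟩
  left_inv _ := rfl
  right_inv _ := rfl

instance : Fintype K := Fintype.ofEquiv _ equivProd.symm

instance : Group K where
  mul a b := ⟨a.v + act a.t b.v, a.t * b.t⟩
  one := ⟨0, 1⟩
  inv a := ⟨act a.t⁻¹ (-a.v), a.t⁻¹⟩
  mul_assoc a b c := by
    refine K.ext ?_ (mul_assoc _ _ _)
    show a.v + act a.t b.v + act (a.t * b.t) c.v = a.v + act a.t (b.v + act b.t c.v)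
    rw [act_mul, act_add, add_assoc]
  one_mul a := by
    refine K.ext ?_ (one_mul _)
    show (0 : V2) + act 1 a.v = a.v
    rw [act_one, zero_add]
  mul_one a := by
    refine K.ext ?_ (mul_one _)
    show a.v + act a.t 0 = a.v
    have h := act_add a.t 0 0
    rw [add_zero] at h
    have h0 : act a.t 0 = 0 := by simpa using h
    rw [h0, add_zero]
  inv_mul_cancel a := by
    refine K.ext ?_ (inv_mul_cancel _)
    show act a.t⁻¹ (-a.v) + act a.t⁻¹ a.v = 0
    rw [← act_add, neg_add_cancel]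
    have h := act_add a.t⁻¹ 0 0
    rw [add_zero] at h
    simpa using h

/-- The class types `x`, `d`, `x a`, `d c` and the rest. -/
def ty (k : K) : Fin 5 :=
  if k.t = 1 then
    (if k.v.1 = 0 ∧ k.v.2 = 0 then 4 else if k.v.1 = 0 ∨ k.v.2 = 0 then 0 else 1)
  else if (k.t = .sr 0 ∧ k.v.1 ≠ 0) ∨ (k.t = .sr 2 ∧ k.v.2 ≠ 0) then 2
  else if (k.t = .sr 3 ∧ k.v.1 + k.v.2 ≠ 0) ∨ (k.t = .sr 1 ∧ k.v.1 - k.v.2 ≠ 0) then 3
  else 4

/-- Representatives of the classes of nontrivial `3`-part. -/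
def rep : Fin 4 → K
  | 0 => ⟨(1, 0), 1⟩
  | 1 => ⟨(1, 1), 1⟩
  | 2 => ⟨(1, 0), .sr 0⟩
  | _ => ⟨(1, 1), .sr 3⟩

theorem ty_rep : ∀ i : Fin 4, ((ty (rep i) : Fin 5) : ℕ) = (i : ℕ) := by decide +kernel

theorem ty_conj : ∀ k : K, ty k ≠ 4 → ∃ g : K, ∃ i : Fin 4, ((ty k : Fin 5) : ℕ) = (i : ℕ) ∧
    g * rep i * g⁻¹ = k := by decide +kernel

/-- The table of the four virtual characters on the five types. -/
def tab : Fin 4 → Fin 5 → ℤ
  | 0, 0 => 3
  | 0, 1 => 6
  | 0, 2 => 3
  | 1, 0 => 3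
  | 1, 1 => 6
  | 1, 2 => -3
  | 2, 0 => 6
  | 2, 1 => 3
  | 2, 3 => 3
  | 3, 0 => 6
  | 3, 1 => 3
  | 3, 3 => -3
  | _, _ => 0

/-- The four virtual characters. -/
def F (i : Fin 4) (k : K) : ℤ := tab i (ty k)

/-- The automorphism exchanging axes and diagonals, as a function. -/
def phiFun (k : K) : K :=
  ⟨(k.v.1 + k.v.2, k.v.1 - k.v.2),
    match k.t with
    | .r i => .r (-i)
    | .sr i => .sr (3 - i)⟩

theorem phiFun_mul : ∀ a b : K, phiFun (a * b) = phiFun a * phiFun b := by decide +kernel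

theorem phiFun_bijective : Function.Bijective phiFun := by decide +kernel

/-- The automorphism exchanging axes and diagonals. -/
noncomputable def phi : K ≃* K :=
  MulEquiv.ofBijective (MonoidHom.mk' phiFun phiFun_mul) phiFun_bijective

theorem phi_apply (k : K) : phi k = phiFun k := rfl

/-- A sign for the coset of each class of reflections. -/
def rho (k : K) : ℤˣ :=
  match k.t with
  | .r i => if i = 1 ∨ i = 3 then -1 else 1
  | .sr i => if i = 0 ∨ i = 2 then -1 else 1

theorem rho_mul : ∀ a b : K, rho (a * b) = rho a * rho b := by decide +kernel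

theorem F_relations : ∀ k : K, F 1 k = (rho k : ℤ) * F 0 k ∧ F 2 k = F 0 (phiFun k) ∧
    F 3 k = F 1 (phiFun k) := by decide +kernel

/-- Index two subgroup `M⟨a, b⟩`. -/
def H0 : Subgroup K where
  carrier := {k | k.t = 1 ∨ k.t = .r 2 ∨ k.t = .sr 0 ∨ k.t = .sr 2}
  one_mem' := Or.inl rfl
  mul_mem' {p q} hp hq := (show ∀ s t : DihedralGroup 4,
    (s = 1 ∨ s = .r 2 ∨ s = .sr 0 ∨ s = .sr 2) → (t = 1 ∨ t = .r 2 ∨ t = .sr 0 ∨ t = .sr 2) →
    (s * t = 1 ∨ s * t = .r 2 ∨ s * t = .sr 0 ∨ s * t = .sr 2) by decide +kernel) p.t q.t hp hq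
  inv_mem' {p} hp := (show ∀ s : DihedralGroup 4,
    (s = 1 ∨ s = .r 2 ∨ s = .sr 0 ∨ s = .sr 2) →
    (s⁻¹ = 1 ∨ s⁻¹ = .r 2 ∨ s⁻¹ = .sr 0 ∨ s⁻¹ = .sr 2) by decide +kernel) p.t hp

/-- Index four subgroup `M⟨a⟩`. -/
def H1 : Subgroup K where
  carrier := {k | k.t = 1 ∨ k.t = .sr 0}
  one_mem' := Or.inl rfl
  mul_mem' {p q} hp hq := (show ∀ s t : DihedralGroup 4,
    (s = 1 ∨ s = .sr 0) → (t = 1 ∨ t = .sr 0) → (s * t = 1 ∨ s * t = .sr 0) by decide +kernel)
      p.t q.t hp hq
  inv_mem' {p} hp := (show ∀ s : DihedralGroup 4,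
    (s = 1 ∨ s = .sr 0) → (s⁻¹ = 1 ∨ s⁻¹ = .sr 0) by decide +kernel) p.t hp

/-- Membership in the index six subgroup `Y⟨a, b⟩`. -/
def inH2 (k : K) : Prop := k.v.1 = 0 ∧ (k.t = 1 ∨ k.t = .r 2 ∨ k.t = .sr 0 ∨ k.t = .sr 2)

instance : DecidablePred inH2 := fun k => inferInstanceAs (Decidable (_ ∧ _))

/-- Index six subgroup `Y⟨a, b⟩`. -/
def H2 : Subgroup K where
  carrier := {k | inH2 k}
  one_mem' := ⟨rfl, Or.inl rfl⟩
  mul_mem' {p q} hp hq := (show ∀ p q : K, inH2 p → inH2 q → inH2 (p * q) by decide +kernel) p q hp hq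
  inv_mem' {p} hp := (show ∀ p : K, inH2 p → inH2 p⁻¹ by decide +kernel) p hp

instance : DecidablePred (· ∈ H0) := fun k =>
  inferInstanceAs (Decidable (k.t = 1 ∨ k.t = .r 2 ∨ k.t = .sr 0 ∨ k.t = .sr 2))

instance : DecidablePred (· ∈ H1) := fun k =>
  inferInstanceAs (Decidable (k.t = 1 ∨ k.t = .sr 0))

instance : DecidablePred (· ∈ H2) := fun k => inferInstanceAs (Decidable (inH2 k))

theorem perm_identity : ∀ k : K,
    36 * F 0 k = 2 * ((Finset.univ.filter fun g : K => g⁻¹ * k * g ∈ H1).card : ℤ)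
      - 3 * ((Finset.univ.filter fun g : K => g⁻¹ * k * g ∈ H2).card : ℤ)
      + ((Finset.univ.filter fun g : K => g⁻¹ * k * g ∈ H0).card : ℤ) := by decide +kernel

theorem card_K : Fintype.card K = 72 := by decide +kernel

theorem card_H : Fintype.card H0 = 36 ∧ Fintype.card H1 = 18 ∧ Fintype.card H2 = 12 := by
  decide +kernel

open Cfsg CfsgLib.Char in
theorem isGeneralized_F (i : Fin 4) : IsGeneralizedCharacter K (fun k => (F i k : ℂ)) := by
  classical
  have h0 : IsGeneralizedCharacter K (fun k => (F 0 k : ℂ)) := by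
    have e : (fun k => (F 0 k : ℂ)) =
        indFun H1 (fun _ => 1) - indFun H2 (fun _ => 1) + indFun H0 (fun _ => 1) := by
      funext k
      have hv : ∀ (H : Subgroup K) (_ : DecidablePred (· ∈ H)), indFun H (fun _ => (1 : ℂ)) k =
          (Nat.card H : ℂ)⁻¹ * ((Finset.univ.filter fun g : K => g⁻¹ * k * g ∈ H).card : ℂ) := by
        intro H _
        rw [indFun]
        congr 1
        rw [Finset.natCast_card_filter]
        refine Finset.sum_congr rfl fun g _ => ?_
        by_cases hg : g⁻¹ * k * g ∈ H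
        · rw [if_pos hg, extendByZero_mem H _ hg]
        · rw [if_neg hg, extendByZero_notMem H _ hg]
      obtain ⟨c0, c1, c2⟩ := card_H
      rw [Pi.add_apply, Pi.sub_apply, hv H1 inferInstance, hv H2 inferInstance, hv H0 inferInstance,
        Nat.card_eq_fintype_card, Nat.card_eq_fintype_card, Nat.card_eq_fintype_card, c0, c1, c2]
      have := congrArg (fun z : ℤ => (z : ℂ)) (perm_identity k)
      push_cast at this
      push_cast
      linear_combination (1 / 36 : ℂ) * this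
    rw [e]
    exact isGeneralized_add (isGeneralized_sub
      (isGeneralized_of_isCharacter (isCharacter_indFun H1 isCharacter_one))
      (isGeneralized_of_isCharacter (isCharacter_indFun H2 isCharacter_one)))
      (isGeneralized_of_isCharacter (isCharacter_indFun H0 isCharacter_one))
  have hphi : ∀ f : K → ℂ, IsGeneralizedCharacter K f →
      IsGeneralizedCharacter K (fun k => f (phiFun k)) := fun f hf =>
    isGeneralized_comp phi.toMonoidHom hf
  have h1 : IsGeneralizedCharacter K (fun k => (F 1 k : ℂ)) := by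
    have hr := isGeneralized_of_isCharacter (isCharacter_monoidHom
      ((Units.map ((Int.castRingHom ℂ).toMonoidHom)).comp (MonoidHom.mk' rho rho_mul)))
    have := isGeneralized_mul hr h0
    convert this using 1
    funext k
    rw [Pi.mul_apply, (F_relations k).1, Int.cast_mul]
    rfl
  fin_cases i
  · exact h0
  · exact h1
  · convert hphi _ h0 using 1; funext k; rw [← (F_relations k).2.1]; rfl
  · convert hphi _ h1 using 1; funext k; rw [← (F_relations k).2.2]; rfl

/-- Involutions of type `a`. -/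
def isA (k : K) : Prop := k * k = 1 ∧ (k.t = .sr 0 ∨ k.t = .sr 2)

/-- Involutions of type `z` or `c`. -/
def isZ (k : K) : Prop := k * k = 1 ∧ (k.t = .r 2 ∨ k.t = .sr 1 ∨ k.t = .sr 3)

instance : DecidablePred isA := fun k => inferInstanceAs (Decidable (_ ∧ _))

instance : DecidablePred isZ := fun k => inferInstanceAs (Decidable (_ ∧ _))

theorem isA_conj : ∀ k : K, isA k → ∃ g : K, g * ⟨0, .sr 0⟩ * g⁻¹ = k := by decide +kernel

theorem isZ_conj : ∀ k : K, isZ k → ∃ g : K,
    g * ⟨0, .r 2⟩ * g⁻¹ = k ∨ g * ⟨0, .sr 3⟩ * g⁻¹ = k := by decide +kernel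

theorem sq_eq_one_cases : ∀ k : K, k * k = 1 → k = 1 ∨ isA k ∨ isZ k := by decide +kernel

theorem sq_ty : ∀ k : K, ty k ≠ 4 → (k * k).t = 1 ∧ k * k ≠ 1 := by decide +kernel

theorem phi_values : phiFun ⟨0, .sr 0⟩ = ⟨0, .sr 3⟩ ∧ phiFun ⟨0, .sr 3⟩ = ⟨0, .sr 0⟩ ∧
    phiFun ⟨0, .r 2⟩ = ⟨0, .r 2⟩ := by decide +kernel

theorem inner_table : ∀ i j : Fin 4, (∑ k : K, F i k * F j k) =
    72 * (if i = j then 4 else if (i = 0 ∧ j = 1) ∨ (i = 1 ∧ j = 0) ∨ (i = 2 ∧ j = 3) ∨
      (i = 3 ∧ j = 2) then 1 else 2) := by decide +kernel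

theorem one_table : ∀ i : Fin 4,
    (∑ k : K, F i k) = 72 * (if i = 0 ∨ i = 2 then 1 else 0) := by decide +kernel

/-- Products of two involutions of given types weighted by the virtual characters. -/
theorem count_table : ∀ i : Fin 4,
    2 * (∑ k : K, F i k * ((Finset.univ.filter fun u : K => isA u ∧ isA (u * k)).card : ℤ)) =
        72 * (if i = 0 ∨ i = 1 then 1 else 2) ∧
    2 * (∑ k : K, F i k * ((Finset.univ.filter fun u : K => isA u ∧ isZ (u * k)).card : ℤ)) =
        72 * (if i = 0 then 3 else if i = 1 then -3 else 0) ∧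
    2 * (∑ k : K, F i k * ((Finset.univ.filter fun u : K => isZ u ∧ isA (u * k)).card : ℤ)) =
        72 * (if i = 0 then 3 else if i = 1 then -3 else 0) ∧
    2 * (∑ k : K, F i k * ((Finset.univ.filter fun u : K => isZ u ∧ isZ (u * k)).card : ℤ)) =
        72 * (if i = 0 ∨ i = 1 then 11 else if i = 2 then 16 else 4) := by decide +kernel

theorem card_types : (Finset.univ.filter isA).card = 6 ∧
    (Finset.univ.filter fun k : K => isZ k ∧ ∃ g : K, g * ⟨0, .r 2⟩ * g⁻¹ = k).card = 9 ∧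
    (Finset.univ.filter fun k : K => isZ k ∧ ∃ g : K, g * ⟨0, .sr 3⟩ * g⁻¹ = k).card = 6 := by
  decide +kernel

theorem rep_products : (Finset.univ.filter fun p : K × K =>
    (ty p.1 = 0 ∧ ty p.2 = 1) ∧ ty (p.1 * p.2) = 0).card = 8 ∧
    (Finset.univ.filter fun p : K × K =>
    (ty p.1 = 0 ∧ ty p.2 = 1) ∧ ty (p.1 * p.2) = 1).card = 8 ∧
    (∀ k l : K, ty k = 0 → ty l = 1 → ty (k * l) = 0 ∨ ty (k * l) = 1) ∧
    (∀ k l : K, ty k = 1 → ty l = 0 → ty (k * l) = 0 ∨ ty (k * l) = 1) := by decide +kernel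

end CfsgLib.NineTI.D8
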