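import Cfsg.Agent.Lib.NineTI.KleinAutomizer
import Cfsg.Agent.Lib.NineTI.ModelD8

/-!
The normalizer of `M` is the model group when the automizer is dihedral of order eight.
-/

set_option autoImplicit false

namespace CfsgLib.NineTI

universe u

variable {G : Type u} [Group G] [Finite G] {M : Subgroup G}

theorem eq_zpowers_of_proper (h : Hyp M) {S : Subgroup G} (hS : S ≤ M) {w : G} (hw : w ∈ M)
    (hwS : w ∉ S) {y : G} (hy : y ∈ S) (hy1 : y ≠ 1) : S = Subgroup.zpowers y := by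
  haveI : Fact (Nat.Prime 3) := ⟨Nat.prime_three⟩
  refine (Subgroup.eq_of_le_of_card_ge (Subgroup.zpowers_le.mpr hy) ?_).symm
  rw [Nat.card_zpowers, orderOf_eq_prime (p := 3) (h.cube y (hS hy)) hy1]
  have hd : Nat.card S ∣ 9 := h.card ▸ Subgroup.card_dvd_of_le hS
  have hne : Nat.card S ≠ 9 := fun e =>
    hwS ((Subgroup.eq_of_le_of_card_ge hS (by rw [e, h.card])).symm ▸ hw)
  have hle := Nat.le_of_dvd (by norm_num) hd
  generalize Nat.card S = r at *
  interval_cases r <;> omega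

theorem not_isConj_of_axes (h : Hyp M) {a c x d : G} (hx : x ∈ M) (hd : d ∈ M) (hx1 : x ≠ 1)
    (hd1 : d ≠ 1) (hax : a * x = x * a) (hcd : c * d = d * c)
    (hfix : ∀ m ∈ M, c * m = m * c → m ∈ Subgroup.zpowers d)
    (hsep : ∀ n ∈ Subgroup.normalizer (M : Set G), n * x * n⁻¹ ∉ Subgroup.zpowers d) :
    ¬ IsConj a c := by
  haveI : Fact (Nat.Prime 3) := ⟨Nat.prime_three⟩
  intro hc
  obtain ⟨g, hg⟩ := isConj_iff.mp hc
  let C := Subgroup.centralizer ({c} : Set G)
  have hdC : d ∈ C := Subgroup.mem_centralizer_singleton_iff.mpr hcd.symm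
  let dC : C := ⟨d, hdC⟩
  have hd3 : orderOf d = 3 := orderOf_eq_prime (p := 3) (h.cube d hd) hd1
  have hYp : IsPGroup 3 (Subgroup.zpowers dC) :=
    IsPGroup.of_card (n := 1) (by rw [Nat.card_zpowers, ← Subgroup.orderOf_coe, hd3, pow_one])
  obtain ⟨S, hS⟩ := hYp.exists_le_sylow
  have hSeq : (S : Subgroup C) = Subgroup.zpowers dC := by
    refine le_antisymm (fun s hs => ?_) hS
    by_contra hns
    have hlt : Subgroup.zpowers dC < (S : Subgroup C) := lt_of_le_of_ne hS fun e => hns (e ▸ hs)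
    haveI : Fintype (S : Subgroup C) := Fintype.ofFinite _
    haveI := S.2.isNilpotent
    have hn := Group.normalizerCondition_of_isNilpotent
      ((Subgroup.zpowers dC).subgroupOf (S : Subgroup C))
      (lt_top_iff_ne_top.mpr fun e => hlt.not_ge (Subgroup.subgroupOf_eq_top.mp e))
    obtain ⟨⟨r, hrS⟩, hr, hrn⟩ := SetLike.exists_of_lt hn
    rw [Subgroup.mem_subgroupOf] at hrn
    have hrd : r * dC * r⁻¹ ∈ Subgroup.zpowers dC :=
      Subgroup.mem_subgroupOf.mp ((Subgroup.mem_normalizer_iff.mp hr ⟨dC, hS (Subgroup.mem_zpowers _)⟩).mp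
        (Subgroup.mem_subgroupOf.mpr (Subgroup.mem_zpowers _)))
    obtain ⟨i, hi⟩ := hrd
    have hi' : d ^ i = (r : G) * d * (r : G)⁻¹ := by
      have := congrArg Subtype.val hi
      simpa using this
    have hrN : (r : G) ∈ Subgroup.normalizer (M : Set G) :=
      h.conj_eq hd hd1 (hi' ▸ zpow_mem hd i)
    have hrM : (r : G) ∈ M := by
      have hp : IsPGroup 3 (Subgroup.zpowers (r : G)) := by
        intro ⟨u, hu⟩
        obtain ⟨k, rfl⟩ := hu
        obtain ⟨n, hn⟩ := S.2 ⟨r, hrS⟩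
        refine ⟨n, Subtype.ext ?_⟩
        have h0 : (r : G) ^ (3 ^ n : ℕ) = 1 := by
          have := congrArg (fun u : (S : Subgroup C) => ((u : C) : G)) hn
          simpa using this
        show ((r : G) ^ k) ^ (3 ^ n : ℕ) = 1
        rw [← zpow_natCast, ← zpow_mul, mul_comm, zpow_mul, zpow_natCast, h0, one_zpow]
      exact h.le_of_pgroup hp (Subgroup.zpowers_le.mpr hrN) (Subgroup.mem_zpowers _)
    obtain ⟨j, hj⟩ := hfix _ hrM (Subgroup.mem_centralizer_singleton_iff.mp r.2).symm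
    exact hrn ⟨j, Subtype.ext (by simpa using hj)⟩
  have hgx : g * x * g⁻¹ ∈ C := Subgroup.mem_centralizer_singleton_iff.mpr (by
    rw [← hg]
    calc g * x * g⁻¹ * (g * a * g⁻¹) = g * (x * a) * g⁻¹ := by group
      _ = g * (a * x) * g⁻¹ := by rw [hax]
      _ = _ := by group)
  have hXp : IsPGroup 3 (Subgroup.zpowers (⟨_, hgx⟩ : C)) := IsPGroup.of_card (n := 1) (by
    rw [Nat.card_zpowers, ← Subgroup.orderOf_coe, pow_one]
    show orderOf (MulAut.conj g x) = 3
    rw [MulEquiv.orderOf_eq]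
    exact orderOf_eq_prime (p := 3) (h.cube x hx) hx1)
  obtain ⟨S', hS'⟩ := hXp.exists_le_sylow
  obtain ⟨k, hk⟩ := MulAction.exists_smul_eq C S' S
  have hmem : k * ⟨_, hgx⟩ * k⁻¹ ∈ (S : Subgroup C) := by
    rw [← hk]
    exact ⟨⟨_, hgx⟩, hS' (Subgroup.mem_zpowers _), rfl⟩
  rw [hSeq] at hmem
  obtain ⟨i, hi⟩ := hmem
  have hi' : d ^ i = ((k : G) * g) * x * ((k : G) * g)⁻¹ := by
    have := congrArg Subtype.val hi
    simp only [SubgroupClass.coe_zpow, Subgroup.coe_mul, InvMemClass.coe_inv] at this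
    rw [show ((k : G) * g) * x * ((k : G) * g)⁻¹ = (k : G) * (g * x * g⁻¹) * (k : G)⁻¹ by group]
    exact this
  exact hsep _ (h.conj_eq hx hx1 (hi' ▸ zpow_mem hd i)) ⟨i, hi'⟩

open D8 in
theorem exists_equiv_model (h : Hyp M) (P : Subgroup G) (hP : P ≤ Subgroup.normalizer (M : Set G))
    (e : DihedralGroup 4 ≃* P)
    (hdec : ∀ n ∈ Subgroup.normalizer (M : Set G), ∃ m ∈ M, ∃ p ∈ P, n = m * p) :
    ∃ ψ : K ≃* Subgroup.normalizer (M : Set G), ∀ k : K, (ψ k : G) ∈ M ↔ k.t = 1 := by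
  classical
  haveI : Fact (Nat.Prime 3) := ⟨Nat.prime_three⟩
  let f : DihedralGroup 4 →* G := P.subtype.comp e.toMonoidHom
  have hfN : ∀ t, f t ∈ Subgroup.normalizer (M : Set G) := fun t => hP (e t).2
  have hfi : Function.Injective f := P.subtype_injective.comp e.injective
  have hinter : ∀ t, f t ∈ M → t = 1 := by
    intro t ht
    refine hfi ?_
    rw [map_one]
    have h3 : orderOf (f t) ∣ 3 := orderOf_dvd_of_pow_eq_one (h.cube _ ht)
    have h8 : orderOf (f t) ∣ 8 := by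
      refine orderOf_dvd_of_pow_eq_one ?_
      rw [← map_pow, (show ∀ t : DihedralGroup 4, t ^ 8 = 1 by decide +kernel) t, map_one]
    exact orderOf_eq_one_iff.mp
      (Nat.eq_one_of_dvd_coprimes (show Nat.Coprime 3 8 by norm_num) h3 h8)
  have hnc : ∀ t, (∀ m ∈ M, f t * m = m * f t) → t = 1 := fun t hc => hinter t (by
    rw [← h.self]
    exact Subgroup.mem_centralizer_iff.mpr fun m hm => (hc m hm).symm)
  let r := f (.r 1)
  let s := f (.sr 0)
  let z := f (.r 2)
  have hrr : r * r = z := (map_mul f (.r 1) (.r 1)).symm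
  have hconj : ∀ t, ∀ m ∈ M, f t * m * (f t)⁻¹ ∈ M := fun t m hm =>
    (Subgroup.mem_normalizer_iff.mp (hfN t) m).mp hm
  have htwo : ∀ t : DihedralGroup 4, t * t = 1 → f t * f t = 1 := fun t ht => by
    rw [← map_mul, ht, map_one]
  have hzz : z * z = 1 := htwo _ (by decide)
  have hss : s * s = 1 := htwo _ (by decide)
  have hrz : r * z = z * r := by
    show f _ * f _ = f _ * f _
    rw [← map_mul, ← map_mul]; exact congrArg f (by decide)
  have hz : ∀ m ∈ M, z * m = m⁻¹ * z := by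
    refine fix_or_invert h (hfN _) hzz fun x1 hx1 hzx => ?_
    by_contra hne
    let I : Subgroup G :=
      { carrier := {m | m ∈ M ∧ z * m * z⁻¹ = m⁻¹}
        one_mem' := ⟨M.one_mem, by group⟩
        mul_mem' := by
          rintro p q ⟨hp, hp'⟩ ⟨hq, hq'⟩
          refine ⟨M.mul_mem hp hq, ?_⟩
          rw [show z * (p * q) * z⁻¹ = (z * p * z⁻¹) * (z * q * z⁻¹) by group, hp', hq', mul_inv_rev]
          exact h.comm _ (M.inv_mem hp) _ (M.inv_mem hq)
        inv_mem' := by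
          rintro p ⟨hp, hp'⟩
          exact ⟨M.inv_mem hp, by rw [show z * p⁻¹ * z⁻¹ = (z * p * z⁻¹)⁻¹ by group, hp']⟩ }
    have hxI : x1 ∉ I := by
      rintro ⟨-, e'⟩
      rw [hzx, mul_inv_cancel_right] at e'
      exact hne (Axes.eq_one_of_sq h hx1 (mul_eq_one_iff_eq_inv.mpr e'))
    obtain ⟨m0, hm0, hm0'⟩ : ∃ m ∈ M, z * m ≠ m * z := by
      by_contra hh; push Not at hh
      exact absurd (hnc _ hh) (by decide)
    have hz' : z⁻¹ = z := inv_eq_of_mul_eq_one_left hzz
    let y := m0 * (z * m0 * z⁻¹)⁻¹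
    have hy1 : y ≠ 1 := fun e' => hm0' (by
      have := mul_inv_eq_one.mp e'
      calc z * m0 = z * m0 * z⁻¹ * z := by group
        _ = m0 * z := by rw [← this])
    have hyI : y ∈ I := by
      refine ⟨M.mul_mem hm0 (M.inv_mem (hconj _ _ hm0)), ?_⟩
      show z * (m0 * (z * m0 * z⁻¹)⁻¹) * z⁻¹ = (m0 * (z * m0 * z⁻¹)⁻¹)⁻¹
      rw [mul_inv_rev m0, inv_inv]
      calc z * (m0 * (z * m0 * z⁻¹)⁻¹) * z⁻¹ = z * m0 * (z * m0⁻¹ * (z⁻¹ * z⁻¹)) := by group
        _ = z * m0 * z * m0⁻¹ := by rw [hz', hzz, mul_one]; group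
        _ = _ := by rw [hz']
    have hI := eq_zpowers_of_proper h (S := I) (fun m hm => hm.1) hx1 hxI hyI hy1
    have hryI : r * y * r⁻¹ ∈ I := by
      refine ⟨hconj _ _ hyI.1, ?_⟩
      calc z * (r * y * r⁻¹) * z⁻¹ = (z * r) * y * (z * r)⁻¹ := by group
        _ = (r * z) * y * (r * z)⁻¹ := by rw [hrz]
        _ = r * (z * y * z⁻¹) * r⁻¹ := by group
        _ = (r * y * r⁻¹)⁻¹ := by rw [hyI.2]; group
    rw [hI] at hryI
    obtain ⟨i, hi⟩ := hryI
    have hi' : y ^ i = r * y * r⁻¹ := hi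
    have e2 : z * y * z⁻¹ = y ^ (i * i) := by
      calc z * y * z⁻¹ = (r * r) * y * (r * r)⁻¹ := by rw [hrr]
        _ = r * (r * y * r⁻¹) * r⁻¹ := by group
        _ = r * y ^ i * r⁻¹ := by rw [hi']
        _ = (r * y * r⁻¹) ^ i := (conj_zpow).symm
        _ = y ^ (i * i) := by rw [← hi', ← zpow_mul]
    have h3 : y ^ (3 : ℤ) = 1 := by exact_mod_cast h.cube y hyI.1
    rw [hyI.2] at e2
    have hyy : y ^ (i * i + 1) = 1 := by rw [zpow_add_one, ← e2, inv_mul_cancel]
    have hord : orderOf y = 3 := orderOf_eq_prime (p := 3) (h.cube y hyI.1) hy1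
    have hdv : (3 : ℤ) ∣ i * i + 1 := by
      have := orderOf_dvd_iff_zpow_eq_one.mpr hyy
      rwa [hord] at this
    rcases (by omega : i % 3 = 0 ∨ i % 3 = 1 ∨ i % 3 = 2) with h0 | h0 | h0 <;>
      · have := Int.emod_eq_zero_of_dvd hdv
        rw [Int.add_emod, Int.mul_emod, h0] at this
        norm_num at this
  obtain ⟨x, hx, hx1, hsx⟩ : ∃ x ∈ M, x ≠ 1 ∧ s * x = x * s := by
    by_contra hne
    push Not at hne
    have hinv := fix_or_invert h (hfN _) hss fun m hm e' => by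
      by_contra hm1; exact hne m hm hm1 e'
    refine absurd (hnc (.sr 0 * .r 2) fun m hm => ?_) (by decide)
    rw [map_mul]
    show s * z * m = m * (s * z)
    calc s * z * m = s * (z * m) := by group
      _ = (s * m⁻¹) * z := by rw [hz m hm]; group
      _ = m * (s * z) := by rw [hinv _ (M.inv_mem hm), inv_inv, mul_assoc]
  let y := r * x * r⁻¹
  have hy : y ∈ M := hconj _ _ hx
  have hy1 : y ≠ 1 := fun e' => hx1 (conj_eq_one_iff.mp e')
  have hsy : s * y = y⁻¹ * s := by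
    have hsr : s * r = r⁻¹ * s := by
      show f _ * f _ = (f _)⁻¹ * f _
      rw [← map_inv, ← map_mul, ← map_mul]; exact congrArg f (by decide)
    have hrs : r * r = z := hrr
    calc s * y = (s * r) * x * r⁻¹ := by simp only [y, mul_assoc]
      _ = r⁻¹ * (s * x) * r⁻¹ := by rw [hsr]; group
      _ = r⁻¹ * x * (s * r⁻¹) := by rw [hsx]; group
      _ = r⁻¹ * x * (r * s) := by
        congr 1
        show f _ * (f _)⁻¹ = f _ * f _
        rw [← map_inv, ← map_mul, ← map_mul]; exact congrArg f (by decide)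
      _ = r⁻¹ * x * r * s := by group
      _ = y⁻¹ * s := by
        congr 1
        show r⁻¹ * x * r = (r * x * r⁻¹)⁻¹
        have e1 : r⁻¹ = z * r := by
          show (f _)⁻¹ = f _ * f _
          rw [← map_inv, ← map_mul]; exact congrArg f (by decide)
        calc r⁻¹ * x * r = (z * r) * x * (z * r)⁻¹ := by rw [← e1, inv_inv]
          _ = z * (r * x * r⁻¹) * z⁻¹ := by group
          _ = (r * x * r⁻¹)⁻¹ := by rw [hz _ hy, mul_inv_cancel_right]
  have hxy : x ∉ Subgroup.zpowers y := by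
    rintro ⟨j, hj⟩
    refine hx1 (Axes.eq_one_of_sq h hx ?_)
    have hj' : y ^ j = x := hj
    have e1 : s * y ^ j * s⁻¹ = (y ^ j)⁻¹ := by
      rw [← conj_zpow, show s * y * s⁻¹ = y⁻¹ by rw [hsy, mul_inv_cancel_right], inv_zpow]
    rw [hj', hsx, mul_inv_cancel_right] at e1
    exact mul_eq_one_iff_eq_inv.mpr e1
  let mm : V2 → G := fun v => x ^ v.1.val * y ^ v.2.val
  have hpow : ∀ w ∈ M, ∀ i j : ZMod 3, w ^ (i + j).val = w ^ i.val * w ^ j.val := by
    intro w hw i j
    rw [← pow_add, ZMod.val_add, ← pow_mod_orderOf (n := i.val + j.val)]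
    by_cases hw1 : w = 1
    · simp [hw1]
    rw [orderOf_eq_prime (p := 3) (h.cube w hw) hw1]
  have hmM : ∀ v, mm v ∈ M := fun v => M.mul_mem (M.pow_mem hx _) (M.pow_mem hy _)
  have hmm : ∀ v w, mm (v + w) = mm v * mm w := fun v w => by
    show x ^ (v.1 + w.1).val * y ^ (v.2 + w.2).val = x ^ v.1.val * y ^ v.2.val * (x ^ w.1.val * y ^ w.2.val)
    rw [hpow x hx, hpow y hy]
    calc x ^ v.1.val * x ^ w.1.val * (y ^ v.2.val * y ^ w.2.val)
        = x ^ v.1.val * (x ^ w.1.val * y ^ v.2.val) * y ^ w.2.val := by group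
      _ = x ^ v.1.val * (y ^ v.2.val * x ^ w.1.val) * y ^ w.2.val := by
        rw [h.comm _ (M.pow_mem hx _) _ (M.pow_mem hy _)]
      _ = _ := by group
  have hinvpow : ∀ w ∈ M, ∀ i : ZMod 3, (w⁻¹) ^ i.val = w ^ (-i).val := by
    intro w hw i
    rw [inv_pow, inv_eq_iff_mul_eq_one, ← hpow w hw, add_neg_cancel, ZMod.val_zero, pow_zero]
  have hgen : ∀ t, ∀ v, f t * mm v = mm (act t v) * f t := by
    have key : ∀ t, (∀ v, f t * mm v * (f t)⁻¹ = mm (act t v)) → ∀ v, f t * mm v = mm (act t v) * f t :=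
      fun t ht v => by rw [← ht v, inv_mul_cancel_right]
    have h1 : ∀ v, f (.r 1) * mm v = mm (act (.r 1) v) * f (.r 1) := by
      refine key _ fun v => ?_
      show r * (x ^ v.1.val * y ^ v.2.val) * r⁻¹ = mm (-v.2, v.1)
      have e2 : r * y * r⁻¹ = x⁻¹ := by
        calc r * y * r⁻¹ = (r * r) * x * (r * r)⁻¹ := by simp only [y, mul_inv_rev, mul_assoc]
          _ = x⁻¹ := by rw [hrr, hz x hx, mul_inv_cancel_right]
      rw [show r * (x ^ v.1.val * y ^ v.2.val) * r⁻¹ = (r * x ^ v.1.val * r⁻¹) * (r * y ^ v.2.val * r⁻¹) by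
        group, ← conj_pow, ← conj_pow, e2, hinvpow x hx]
      show y ^ v.1.val * x ^ (-v.2).val = x ^ (-v.2).val * y ^ v.1.val
      exact h.comm _ (M.pow_mem hy _) _ (M.pow_mem hx _)
    have h2 : ∀ v, f (.sr 0) * mm v = mm (act (.sr 0) v) * f (.sr 0) := by
      refine key _ fun v => ?_
      show s * (x ^ v.1.val * y ^ v.2.val) * s⁻¹ = mm (v.1, -v.2)
      rw [show s * (x ^ v.1.val * y ^ v.2.val) * s⁻¹ = (s * x ^ v.1.val * s⁻¹) * (s * y ^ v.2.val * s⁻¹) by
        group, ← conj_pow, ← conj_pow, hsx, hsy, mul_inv_cancel_right, mul_inv_cancel_right,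
        hinvpow y hy]
    have hmul : ∀ t t', (∀ v, f t * mm v = mm (act t v) * f t) →
        (∀ v, f t' * mm v = mm (act t' v) * f t') →
        ∀ v, f (t * t') * mm v = mm (act (t * t') v) * f (t * t') := by
      intro t t' ht ht' v
      rw [map_mul, mul_assoc, ht', ← mul_assoc, ht, act_mul, mul_assoc]
    intro t
    have h0 : ∀ v, f 1 * mm v = mm (act 1 v) * f 1 := fun v => by
      rw [map_one, one_mul, act_one, mul_one]
    have hpowr : ∀ n : ℕ, ∀ v, f ((DihedralGroup.r 1) ^ n) * mm v =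
        mm (act ((DihedralGroup.r 1) ^ n) v) * f ((DihedralGroup.r 1) ^ n) := by
      intro n
      induction n with
      | zero => rw [pow_zero]; exact h0
      | succ n ih => rw [pow_succ]; exact hmul _ _ ih h1
    rcases (show ∀ t : DihedralGroup 4, (∃ n : Fin 4, t = DihedralGroup.r 1 ^ (n : ℕ)) ∨
      (∃ n : Fin 4, t = .sr 0 * DihedralGroup.r 1 ^ (n : ℕ)) by decide +kernel) t with
      ⟨n, rfl⟩ | ⟨n, rfl⟩
    · exact hpowr n
    · exact hmul _ _ h2 (hpowr n)
  let ψ₀ : K →* Subgroup.normalizer (M : Set G) := MonoidHom.mk'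
    (fun k => ⟨mm k.v * f k.t, mul_mem (Subgroup.le_normalizer (hmM _)) (hfN _)⟩) (fun p q => by
      refine Subtype.ext ?_
      show mm (p.v + act p.t q.v) * f (p.t * q.t) = mm p.v * f p.t * (mm q.v * f q.t)
      rw [hmm, map_mul]
      calc mm p.v * mm (act p.t q.v) * (f p.t * f q.t) = mm p.v * (mm (act p.t q.v) * f p.t) * f q.t := by
            group
        _ = _ := by rw [← hgen]; group)
  have hψM : ∀ k : K, (ψ₀ k : G) ∈ M ↔ k.t = 1 := by
    intro k
    show mm k.v * f k.t ∈ M ↔ _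
    rw [M.mul_mem_cancel_left (hmM _)]
    exact ⟨hinter _, fun e' => by rw [e', map_one]; exact M.one_mem⟩
  have hinj : Function.Injective ψ₀ := by
    refine (injective_iff_map_eq_one ψ₀).mpr fun k hk => ?_
    have ht : k.t = 1 := (hψM k).mp (by rw [hk]; exact M.one_mem)
    have hk' := congrArg Subtype.val hk
    change mm k.v * f k.t = 1 at hk'
    rw [ht, map_one, mul_one] at hk'
    have hv1 : x ^ k.v.1.val = 1 := by
      by_contra hi
      apply hxy
      have hmem : x ^ k.v.1.val ∈ Subgroup.zpowers y := by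
        rw [mul_eq_one_iff_eq_inv.mp hk']
        exact inv_mem (Subgroup.npow_mem_zpowers y _)
      have h3 := h.cube x hx
      rcases (show k.v.1.val = 0 ∨ k.v.1.val = 1 ∨ k.v.1.val = 2 by
        have := k.v.1.val_lt; omega) with e' | e' | e' <;> rw [e'] at hmem hi
      · exact absurd (pow_zero x) hi
      · rwa [pow_one] at hmem
      · have e2 : x = (x ^ 2)⁻¹ := eq_inv_of_mul_eq_one_left (by rw [← pow_succ']; exact h3)
        rw [e2]; exact inv_mem hmem
    rw [show mm k.v = x ^ k.v.1.val * y ^ k.v.2.val from rfl, hv1, one_mul] at hk'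
    have val0 : ∀ w ∈ M, w ≠ 1 → ∀ i : ZMod 3, w ^ i.val = 1 → i = 0 := by
      intro w hw hw1 i hi
      have := orderOf_dvd_of_pow_eq_one hi
      rw [orderOf_eq_prime (p := 3) (h.cube w hw) hw1] at this
      refine (ZMod.val_eq_zero i).mp ?_
      have := i.val_lt
      omega
    exact K.ext (Prod.ext (val0 x hx hx1 _ hv1) (val0 y hy hy1 _ hk')) ht
  have hsurj : Function.Surjective ψ₀ := by
    have hrange : ∀ m ∈ M, ∃ v, mm v = m := by
      haveI : Fintype M := Fintype.ofFinite M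
      have hinj' : Function.Injective (fun v : V2 => (⟨mm v, hmM v⟩ : M)) := by
        intro v w e'
        have e'' : mm v = mm w := congrArg Subtype.val e'
        have : ψ₀ ⟨v, 1⟩ = ψ₀ ⟨w, 1⟩ := Subtype.ext (by
          show mm v * f 1 = mm w * f 1
          rw [e''])
        exact (K.ext_iff.mp (hinj this)).1
      have hb := (Fintype.bijective_iff_injective_and_card _).mpr ⟨hinj', by
        rw [← Nat.card_eq_fintype_card (α := M), h.card]; rfl⟩
      intro m hm
      obtain ⟨v, hv⟩ := hb.2 ⟨m, hm⟩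
      exact ⟨v, congrArg Subtype.val hv⟩
    rintro ⟨n, hn⟩
    obtain ⟨m, hm, p, hp, rfl⟩ := hdec n hn
    obtain ⟨v, rfl⟩ := hrange m hm
    refine ⟨⟨v, e.symm ⟨p, hp⟩⟩, Subtype.ext ?_⟩
    show mm v * ((e (e.symm ⟨p, hp⟩) : P) : G) = mm v * p
    rw [e.apply_symm_apply]
  exact ⟨MulEquiv.ofBijective ψ₀ ⟨hinj, hsurj⟩, hψM⟩

end CfsgLib.NineTI
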