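import Mathlib
import Cfsg.Prelude
import Cfsg.Agent.Lib.Coprime.Generation
import Cfsg.Agent.Lib.SelfCentThree.Simple
import Cfsg.Agent.S0494

/-!
A self-centralizing elementary abelian Sylow 3-subgroup `M` of order nine containing the
centralizer-closure condition `C(t) ≤ N(M)`: basic consequences.
-/

set_option autoImplicit false

namespace CfsgLib.NineTI

universe u

variable {G : Type u} [Group G]

/-- Self-centralizing elementary abelian Sylow 3-subgroup of order nine with local centralizers. -/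
structure Hyp (M : Subgroup G) : Prop where
  card : Nat.card M = 9
  comm : ∀ p ∈ M, ∀ q ∈ M, p * q = q * p
  cube : ∀ p ∈ M, p ^ 3 = 1
  maximal : ∀ Q : Subgroup G, IsPGroup 3 Q → M ≤ Q → Q = M
  self : Subgroup.centralizer (M : Set G) = M
  loc : ∀ k ∈ M, k ≠ 1 → Subgroup.centralizer ({k} : Set G) ≤ Subgroup.normalizer (M : Set G)

variable {M : Subgroup G}

theorem Hyp.isPGroup (h : Hyp M) : IsPGroup 3 M :=
  fun g => ⟨1, Subtype.ext (by simpa using h.cube g g.2)⟩

theorem Hyp.le_of_pgroup (h : Hyp M) {Q : Subgroup G} (hQ : IsPGroup 3 Q)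
    (hQN : Q ≤ Subgroup.normalizer (M : Set G)) : Q ≤ M :=
  (h.maximal (Q ⊔ M) (IsPGroup.to_sup_of_normal_right' hQ h.isPGroup hQN) le_sup_right) ▸
    (le_sup_left : Q ≤ Q ⊔ M)

theorem Hyp.le_centralizer (h : Hyp M) {k : G} (hk : k ∈ M) :
    M ≤ Subgroup.centralizer ({k} : Set G) :=
  fun m hm => Subgroup.mem_centralizer_singleton_iff.mpr (h.comm m hm k hk)

/-- Any conjugate of `M` inside the centralizer of a nontrivial element of `M` equals `M`. -/
theorem Hyp.conj_eq [Finite G] (h : Hyp M) {k g : G} (hk : k ∈ M) (hk1 : k ≠ 1)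
    (hg : g * k * g⁻¹ ∈ M) : g ∈ Subgroup.normalizer (M : Set G) := by
  have hk' : g * k * g⁻¹ ≠ 1 := fun e => hk1 (conj_eq_one_iff.mp e)
  have hle : M.map (MulAut.conj g).toMonoidHom ≤ M := by
    refine h.le_of_pgroup (h.isPGroup.map _) ?_
    rintro _ ⟨m, hm, rfl⟩
    refine h.loc _ hg hk' (Subgroup.mem_centralizer_singleton_iff.mpr ?_)
    show g * m * g⁻¹ * (g * k * g⁻¹) = g * k * g⁻¹ * (g * m * g⁻¹)
    calc g * m * g⁻¹ * (g * k * g⁻¹) = g * (m * k) * g⁻¹ := by group
      _ = g * (k * m) * g⁻¹ := by rw [h.comm m hm k hk]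
      _ = _ := by group
  have he : M.map (MulAut.conj g).toMonoidHom = M := Subgroup.eq_of_le_of_card_ge hle
    (le_of_eq (Subgroup.card_map_of_injective (MulAut.conj g).injective).symm)
  rw [Subgroup.mem_normalizer_iff]
  intro m
  constructor
  · intro hm
    have : g * m * g⁻¹ ∈ M.map (MulAut.conj g).toMonoidHom := ⟨m, hm, rfl⟩
    rwa [he] at this
  · intro hm
    rw [← he] at hm
    obtain ⟨m', hm', e⟩ := hm
    have : m' = m := (MulAut.conj g).injective e
    exact this ▸ hm'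

theorem Hyp.not_isCyclic [Finite G] (h : Hyp M) : ¬ IsCyclic M :=
  CfsgLib.Coprime.not_isCyclic_of_exponent (p := 3) h.cube (by norm_num) (by rw [h.card]; norm_num)

/-- `M` normalizes no nontrivial subgroup of order prime to three. -/
theorem Hyp.eq_bot_of_normalized [Finite G] (h : Hyp M) {R : Subgroup G}
    (hR : ¬ 3 ∣ Nat.card R) (hMR : M ≤ Subgroup.normalizer (R : Set G)) : R = ⊥ := by
  haveI : IsMulCommutative M := ⟨⟨fun p q => Subtype.ext (h.comm p p.2 q q.2)⟩⟩
  have hcop : (Nat.card M).Coprime (Nat.card R) := by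
    rw [h.card, show (9 : ℕ) = 3 ^ 2 by norm_num]
    exact (Nat.prime_three.coprime_iff_not_dvd.mpr hR).pow_left 2
  have hle : R ≤ Subgroup.normalizer (M : Set G) :=
    CfsgLib.Coprime.le_of_centralizer_le h.not_isCyclic hMR hcop fun g hg hg1 =>
      le_trans inf_le_right (h.loc g hg hg1)
  have hinf : R ⊓ M = ⊥ := Subgroup.inf_eq_bot_of_coprime hcop.symm
  have hcen : R ≤ Subgroup.centralizer (M : Set G) := by
    intro r hr
    refine Subgroup.mem_centralizer_iff.mpr fun m hm => ?_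
    have h1 : r * m * r⁻¹ * m⁻¹ ∈ M :=
      mul_mem ((Subgroup.mem_normalizer_iff.mp (hle hr) m).mp hm) (inv_mem hm)
    have h2 : r * m * r⁻¹ * m⁻¹ ∈ R := by
      have h3 := (Subgroup.mem_normalizer_iff.mp (hMR hm) r⁻¹).mp (inv_mem hr)
      rw [show r * m * r⁻¹ * m⁻¹ = r * (m * r⁻¹ * m⁻¹) by group]
      exact mul_mem hr h3
    have h4 : r * m * r⁻¹ * m⁻¹ = 1 := by
      have : r * m * r⁻¹ * m⁻¹ ∈ R ⊓ M := ⟨h2, h1⟩
      rwa [hinf, Subgroup.mem_bot] at this
    calc m * r = (r * m * r⁻¹ * m⁻¹)⁻¹ * (r * m) := by group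
      _ = r * m := by rw [h4, inv_one, one_mul]
  rw [h.self] at hcen
  rw [eq_bot_iff, ← hinf]
  exact le_inf le_rfl hcen

end CfsgLib.NineTI
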