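import Cfsg.Agent.Lib.NineTI.Setup
import Cfsg.Agent.Lib.PSolvable.Core
import Cfsg.Agent.Lib.SmallOrder.OneSixEight

/-!
A normal subgroup meeting `M` in a self-centralizing subgroup of order three forces `M` normal.
-/

set_option autoImplicit false

namespace CfsgLib.NineTI

universe u

variable {G : Type u} [Group G] [Finite G] {M : Subgroup G}

theorem no_odd_sylow_number {L : Subgroup G} [L.Normal] (h : Hyp M) {p : ℕ} [Fact p.Prime]
    (hp : p ∣ Nat.card L) (hp3 : p ≠ 3) (hcount : ¬ 3 ∣ Nat.card (Sylow p L)) : False := by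
  classical
  haveI : Fact (Nat.Prime 3) := ⟨Nat.prime_three⟩
  obtain ⟨P₀⟩ := (inferInstance : Nonempty (Sylow p L))
  let N₀ := Subgroup.normalizer (((P₀ : Subgroup L).map L.subtype : Subgroup G) : Set G)
  have hfr : N₀ ⊔ L = ⊤ := Sylow.normalizer_sup_eq_top P₀
  have hidx : N₀.index = Nat.card (Sylow p L) := by
    have hsub : N₀.subgroupOf L = Subgroup.normalizer ((P₀ : Subgroup L) : Set L) := by
      ext l
      simp only [N₀, Subgroup.mem_subgroupOf, Subgroup.mem_normalizer_iff]
      constructor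
      · intro hl k
        refine ⟨fun hk => ?_, fun hk => ?_⟩
        · obtain ⟨k', hk', e⟩ := (hl k).mp ⟨k, hk, rfl⟩
          exact (Subtype.ext e : k' = l * k * l⁻¹) ▸ hk'
        · obtain ⟨k', hk', e⟩ := (hl k).mpr ⟨l * k * l⁻¹, hk, rfl⟩
          exact (Subtype.ext e : k' = k) ▸ hk'
      · intro hl k
        refine ⟨?_, ?_⟩
        · rintro ⟨k', hk', rfl⟩
          exact ⟨l * k' * l⁻¹, (hl k').mp hk', rfl⟩
        · rintro ⟨k', hk', e⟩
          refine ⟨l⁻¹ * k' * l, ?_, ?_⟩
          · refine (hl _).mpr ?_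
            rwa [show l * (l⁻¹ * k' * l) * l⁻¹ = k' by group]
          · change (k' : G) = (l : G) * k * (l : G)⁻¹ at e
            show (l : G)⁻¹ * k' * l = k
            rw [e]; group
    rw [P₀.card_eq_index_normalizer]
    change N₀.index = (Subgroup.normalizer ((P₀ : Subgroup L) : Set L)).index
    rw [← hsub]
    have h1 := CfsgLib.Coprime.card_sup_mul_card_inf (K := L) (S := N₀)
      (by rw [Subgroup.normalizer_eq_top]; exact le_top)
    rw [sup_comm, hfr, Subgroup.card_top, ← N₀.card_mul_index] at h1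
    have h2 : Nat.card (N₀.subgroupOf L) = Nat.card ↥(L ⊓ N₀) := by
      rw [← Subgroup.inf_subgroupOf_right, inf_comm,
        Nat.card_congr (Subgroup.subgroupOfEquivOfLe (inf_le_left : L ⊓ N₀ ≤ L)).toEquiv]
    have h3 := (N₀.subgroupOf L).card_mul_index
    rw [h2] at h3
    refine Nat.eq_of_mul_eq_mul_left (Nat.mul_pos (Nat.card_pos (α := N₀))
      (Nat.card_pos (α := ↥(L ⊓ N₀)))) ?_
    calc Nat.card N₀ * Nat.card ↥(L ⊓ N₀) * N₀.index
        = Nat.card N₀ * N₀.index * Nat.card ↥(L ⊓ N₀) := by ring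
      _ = Nat.card L * Nat.card N₀ := h1
      _ = _ := by rw [← h3]; ring
  obtain ⟨S⟩ := (inferInstance : Nonempty (Sylow 3 N₀))
  obtain ⟨S', hS'⟩ := (S.2.map N₀.subtype).exists_le_sylow
  let PM : Sylow 3 G := ⟨M, h.isPGroup, fun hQ hle => h.maximal _ hQ hle⟩
  have hS'le : (S' : Subgroup G) = (S : Subgroup N₀).map N₀.subtype := by
    refine (Subgroup.eq_of_le_of_card_ge hS' ?_).symm
    rw [Subgroup.card_map_of_injective N₀.subtype_injective, S.card_eq_multiplicity,
      S'.card_eq_multiplicity]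
    refine Nat.pow_le_pow_right (by norm_num) (le_of_eq ?_)
    rw [← N₀.card_mul_index, Nat.factorization_mul Nat.card_pos.ne' Subgroup.index_ne_zero_of_finite,
      Finsupp.add_apply, Nat.factorization_eq_zero_of_not_dvd (n := N₀.index) (p := 3)
        (by rw [hidx]; exact hcount), add_zero]
  obtain ⟨g, hg⟩ := MulAction.exists_smul_eq G S' PM
  let R₀ := (P₀ : Subgroup L).map L.subtype
  let R := R₀.map (MulAut.conj g).toMonoidHom
  have hnorm : M ≤ Subgroup.normalizer (R : Set G) := by
    intro m hm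
    have hm' : m ∈ ((g • S' : Sylow 3 G) : Subgroup G) := by rw [hg]; exact hm
    obtain ⟨k, hk, rfl⟩ := hm'
    have hk' : k ∈ N₀ := (hS'le.le.trans (Subgroup.map_subtype_le _)) hk
    refine Subgroup.le_normalizer_map (H := R₀) (MulAut.conj g).toMonoidHom ⟨k, hk', ?_⟩
    simp
  have hcard : Nat.card R = Nat.card (P₀ : Subgroup L) :=
    (Subgroup.card_map_of_injective (MulAut.conj g).injective).trans
      (Subgroup.card_map_of_injective L.subtype_injective)
  have hR := h.eq_bot_of_normalized (R := R) ?_ hnorm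
  · simp only [R, R₀] at hR
    rw [Subgroup.map_eq_bot_iff_of_injective _ (MulAut.conj g).injective,
      Subgroup.map_eq_bot_iff_of_injective _ L.subtype_injective] at hR
    have := P₀.dvd_card_of_dvd_card hp
    rw [hR, Subgroup.card_bot] at this
    exact (Fact.out : p.Prime).ne_one (Nat.dvd_one.mp this)
  · rw [hcard]
    obtain ⟨k, hk⟩ := P₀.2.exists_card_eq
    rw [hk]
    exact fun hd => hp3 ((Nat.prime_dvd_prime_iff_eq Nat.prime_three Fact.out).mp
      (Nat.prime_three.dvd_of_dvd_pow hd)).symm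

theorem card_sylow_two_sixty {Q : Type u} [Group Q] [Finite Q] [IsSimpleGroup Q]
    (hc : Nat.card Q = 60) {x : Q} (hx : CfsgLib.SCThree.SC x) :
    ¬ 3 ∣ Nat.card (Sylow 2 Q) := by
  haveI : Fact (Nat.Prime 2) := ⟨Nat.prime_two⟩
  obtain ⟨D, hD, hD2⟩ := CfsgLib.SCThree.exists_even_inv_sixty
    (CfsgLib.SmallOrder.not_comm_of_not_prime (fun hp => by rw [hc] at hp; norm_num at hp)) hc hx
  have hd : Nat.card D ∣ 60 := hc ▸ D.card_subgroup_dvd_card
  have hm := hD.card_mod hx
  have h4 : Nat.card D = 4 := by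
    haveI := hD.isNilpotent hx
    have hle := Nat.le_of_dvd (by norm_num) hd
    have h10 : Nat.card D ≠ 10 := by
      intro h10
      haveI : Fact (Nat.Prime 2) := ⟨Nat.prime_two⟩
      obtain ⟨T⟩ := (inferInstance : Nonempty (Sylow 2 D))
      haveI hTn : (T : Subgroup D).Normal :=
        (((Group.isNilpotent_of_finite_tfae (G := D)).out 0 3 : Group.IsNilpotent D ↔ ∀ (r : ℕ) (_ : Fact r.Prime) (R : Sylow r D), (R : Subgroup D).Normal)).mp ‹Group.IsNilpotent D› 2 inferInstance T
      haveI : Subsingleton (Sylow 2 D) := (T.unique_of_normal hTn).instSubsingleton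
      have hT : Nat.card (T : Subgroup D) = 2 := by
        rw [T.card_eq_multiplicity, h10]
        rw [show (10 : ℕ) = 2 ^ 1 * 5 by norm_num, Nat.factorization_mul (by norm_num) (by norm_num),
          Nat.Prime.factorization_pow Nat.prime_two, Nat.Prime.factorization (by norm_num : (5 : ℕ).Prime)]
        simp
      obtain ⟨⟨u, huT⟩, hu⟩ := exists_prime_orderOf_dvd_card' (G := (T : Subgroup D)) 2 (by rw [hT])
      rw [Subgroup.orderOf_mk] at hu
      have hTz : Subgroup.zpowers u = (T : Subgroup D) :=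
        Subgroup.eq_of_le_of_card_ge (Subgroup.zpowers_le.mpr huT)
          (by rw [hT, Nat.card_zpowers, hu])
      let w : D := ⟨x * (u : Q) * x⁻¹, hD.conj_mem u.2⟩
      have hw : orderOf w = 2 := by
        rw [← Subgroup.orderOf_coe]
        show orderOf (MulAut.conj x (u : Q)) = 2
        rw [MulEquiv.orderOf_eq, Subgroup.orderOf_coe, hu]
      obtain ⟨T', hT'⟩ := (IsPGroup.of_card (p := 2) (n := 1)
        (show Nat.card (Subgroup.zpowers w) = 2 ^ 1 by rw [Nat.card_zpowers, hw, pow_one])).exists_le_sylow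
      classical
      rw [Subsingleton.elim T' T, ← hTz, Subgroup.zpowers_le,
        mem_zpowers_iff_mem_range_orderOf, hu] at hT'
      obtain ⟨i, hi, e⟩ := Finset.mem_image.mp hT'
      rw [Finset.mem_range] at hi
      interval_cases i
      · rw [pow_zero] at e; rw [← e, orderOf_one] at hw; norm_num at hw
      · rw [pow_one] at e
        have e' : x * (u : Q) * x⁻¹ = u := congrArg Subtype.val e.symm
        have := hD.eq_one hx u.2 (mul_inv_eq_iff_eq_mul.mp e').symm
        rw [← Subgroup.orderOf_coe, this, orderOf_one] at hu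
        norm_num at hu
    generalize Nat.card D = m at *
    interval_cases m <;> omega
  have hS : Nat.card D = 2 ^ (Nat.card Q).factorization 2 := by
    rw [h4, hc, show (60 : ℕ) = 2 ^ 2 * 15 by norm_num,
      Nat.factorization_mul (by norm_num) (by norm_num),
      Nat.Prime.factorization_pow Nat.prime_two]
    have : (15 : ℕ).factorization 2 = 0 := Nat.factorization_eq_zero_of_not_dvd (by norm_num)
    simp [this]
  let T : Sylow 2 Q := Sylow.ofCard D hS
  have h12 : 12 ∣ Nat.card (Subgroup.normalizer ((T : Subgroup Q) : Set Q)) := by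
    rw [show (12 : ℕ) = 4 * 3 by norm_num]
    refine Nat.Coprime.mul_dvd_of_dvd_of_dvd (by norm_num) ?_ ?_
    · exact h4 ▸ Subgroup.card_dvd_of_le (Subgroup.le_normalizer (H := D))
    · exact hx.2.1 ▸ Subgroup.orderOf_dvd_natCard _ hD.1
  intro h3
  rw [T.card_eq_index_normalizer] at h3
  change 3 ∣ (Subgroup.normalizer ((T : Subgroup Q) : Set Q)).index at h3
  have := Subgroup.card_mul_index (Subgroup.normalizer ((T : Subgroup Q) : Set Q))
  obtain ⟨a, ha⟩ := h12
  obtain ⟨b, hb⟩ := h3
  rw [ha, hb, hc] at this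
  have h1 : 36 * (a * b) = 60 := by rw [← this]; ring
  omega

/-- The key normality criterion. -/
theorem normalizer_eq_top_of_normal (h : Hyp M) (L : Subgroup G) [L.Normal] {y : G} (hyM : y ∈ M)
    (hy1 : y ≠ 1) (hyL : y ∈ L)
    (hcen : Subgroup.centralizer ({y} : Set G) ⊓ L = Subgroup.zpowers y) :
    Subgroup.normalizer (M : Set G) = ⊤ := by
  classical
  haveI : Fact (Nat.Prime 3) := ⟨Nat.prime_three⟩
  haveI : Fact (Nat.Prime 2) := ⟨Nat.prime_two⟩
  haveI : Fact (Nat.Prime 7) := ⟨by norm_num⟩
  have hy3 : orderOf y = 3 := orderOf_eq_prime (p := 3) (h.cube y hyM) hy1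
  have hSC : CfsgLib.SCThree.SC (⟨y, hyL⟩ : L) := by
    refine ⟨Nat.prime_three, by rw [← Subgroup.orderOf_coe]; exact hy3, ?_⟩
    refine le_antisymm (fun c hc => ?_) ?_
    · have : (c : G) ∈ Subgroup.centralizer ({y} : Set G) ⊓ L :=
        ⟨Subgroup.mem_centralizer_singleton_iff.mpr
          (congrArg Subtype.val (Subgroup.mem_centralizer_singleton_iff.mp hc)), c.2⟩
      rw [hcen] at this
      obtain ⟨i, hi⟩ := this
      exact ⟨i, Subtype.ext (by simpa using hi)⟩
    · rw [Subgroup.zpowers_le]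
      exact Subgroup.mem_centralizer_singleton_iff.mpr rfl
  have hcore : CfsgLib.SCThree.core3 L = ⊥ := by
    have hn : ((CfsgLib.SCThree.core3 L).map L.subtype).Normal := inferInstance
    have h0 := h.eq_bot_of_normalized (R := (CfsgLib.SCThree.core3 L).map L.subtype) (by
      rw [Subgroup.card_map_of_injective L.subtype_injective]
      exact CfsgLib.SCThree.not_three_dvd_core3) (by rw [Subgroup.normalizer_eq_top]; exact le_top)
    rwa [Subgroup.map_eq_bot_iff_of_injective _ L.subtype_injective] at h0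
  rcases CfsgLib.SCThree.shape_of_selfCent hSC with h36 | ⟨h60, hsimp, -, -⟩ | ⟨_, h168, hsimp⟩
  · rw [hcore, Subgroup.index_bot] at h36
    -- the subgroup of order three is normal in `G`
    obtain ⟨P⟩ := (inferInstance : Nonempty (Sylow 3 L))
    have hP1 : Nat.card (Sylow 3 L) = 1 := by
      have h1 := card_sylow_modEq_one 3 L
      have h2 : Nat.card (Sylow 3 L) ∣ Nat.card L := by
        rw [P.card_eq_index_normalizer]; exact Subgroup.index_dvd_card _
      have hle := Nat.le_of_dvd Nat.card_pos h2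
      rw [Nat.ModEq] at h1
      rcases h36 with e | e <;> rw [e] at h2 hle <;> generalize Nat.card (Sylow 3 L) = m at * <;>
        interval_cases m <;> omega
    haveI : Subsingleton (Sylow 3 L) := (Nat.card_eq_one_iff_unique.mp hP1).1
    have hPz : (P : Subgroup L) = Subgroup.zpowers ⟨y, hyL⟩ := by
      obtain ⟨P', hP'⟩ := (IsPGroup.of_card (p := 3) (n := 1)
        (show Nat.card (Subgroup.zpowers (⟨y, hyL⟩ : L)) = 3 ^ 1 by
          rw [Nat.card_zpowers, ← Subgroup.orderOf_coe, hy3, pow_one])).exists_le_sylow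
      rw [Subsingleton.elim P' P] at hP'
      refine (Subgroup.eq_of_le_of_card_ge hP' ?_).symm
      rw [Nat.card_zpowers, ← Subgroup.orderOf_coe, hy3]
      obtain ⟨n, hn⟩ := P.2.exists_card_eq
      have hd : Nat.card (P : Subgroup L) ∣ Nat.card L := Subgroup.card_subgroup_dvd_card _
      rw [hn] at hd ⊢
      rcases Nat.lt_or_ge n 2 with h2 | h2
      · interval_cases n <;> norm_num
      · exfalso
        have h9 : 9 ∣ Nat.card L := (pow_dvd_pow 3 h2).trans hd
        rcases h36 with e | e <;> rw [e] at h9 <;> norm_num at h9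
    have hconj : ∀ g : G, g * y * g⁻¹ ∈ M := by
      intro g
      have hgL : g * y * g⁻¹ ∈ L := (inferInstance : L.Normal).conj_mem y hyL g
      have hp : IsPGroup 3 (Subgroup.zpowers (⟨_, hgL⟩ : L)) := IsPGroup.of_card (n := 1) (by
        rw [Nat.card_zpowers, ← Subgroup.orderOf_coe, pow_one]
        show orderOf (MulAut.conj g y) = 3
        rw [MulEquiv.orderOf_eq, hy3])
      obtain ⟨P', hP'⟩ := hp.exists_le_sylow
      rw [Subsingleton.elim P' P, hPz, Subgroup.zpowers_le] at hP'
      obtain ⟨i, hi⟩ := hP'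
      have := congrArg Subtype.val hi
      simp only [SubgroupClass.coe_zpow] at this
      rw [← this]
      exact zpow_mem hyM i
    exact eq_top_iff.mpr fun g _ => h.conj_eq hyM hy1 (hconj g)
  · haveI := hsimp
    rw [hcore, Subgroup.index_bot] at h60
    haveI : Nontrivial L := Finite.one_lt_card_iff_nontrivial.mp (by rw [h60]; norm_num)
    haveI : IsSimpleGroup L := by
      have e : (L ⧸ CfsgLib.SCThree.core3 L) ≃* L :=
        (QuotientGroup.quotientMulEquivOfEq hcore).trans QuotientGroup.quotientBot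
      exact IsSimpleGroup.isSimpleGroup_of_surjective e.toMonoidHom e.surjective
    exact (no_odd_sylow_number h (p := 2) (by rw [h60]; norm_num) (by norm_num)
      (card_sylow_two_sixty h60 hSC)).elim
  · exact (no_odd_sylow_number h (p := 7) (by rw [h168]; norm_num) (by norm_num)
      (by haveI := hsimp; rw [CfsgLib.OneSixEight.card_sylow_seven h168]; norm_num)).elim

end CfsgLib.NineTI
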